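import Cfsg.Agent.PLoc.Stab2

/-!
The normal `p`-complement theorems of Thompson and Glauberman, and control of fusion.
-/

set_option autoImplicit false

namespace Cfsg.Agent.PLoc

open Subgroup
open scoped commutatorElement Pointwise

universe u

variable {p e : ℕ}

section

variable {G : Type*} [Group G]

theorem choose_two_eq_of_odd {n : ℕ} (h : Odd n) : ∃ k, n.choose 2 = n * k := by
  obtain ⟨k, rfl⟩ := h
  refine ⟨k, ?_⟩
  rw [Nat.choose_two_right, Nat.add_sub_cancel, ← mul_assoc, mul_right_comm,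
    Nat.mul_div_cancel _ two_pos]

/-- in a group of class two with `P/Z(P)` of exponent `p`, the `p`-th power map is multiplicative -/
theorem mul_pow_of_frattiniOf_le [Finite G] [Fact p.Prime] (h2 : p ≠ 2) {B : Subgroup G}
    (hB : IsPGroup p B) (h : frattiniOf B ≤ centralizer (B : Set G)) {x y : G} (hx : x ∈ B)
    (hy : y ∈ B) : (x * y) ^ p = x ^ p * y ^ p := by
  have h1 : ⁅y, x⁆ ∈ centralizer (B : Set G) :=
    h (commutator_le_frattiniOf hB (commutator_mem_commutator hy hx))
  have c1 : Commute ⁅y, x⁆ x := (h1 x hx).symm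
  have c2 : Commute ⁅y, x⁆ y := (h1 y hy).symm
  obtain ⟨k, hk⟩ := choose_two_eq_of_odd (odd_of_ne_two h2)
  rw [mul_pow_of_class_two c1 c2, hk, pow_mul, ← commutatorElement_pow_left c2,
    commutatorElement_eq_one_iff_mul_comm.2 (h (pow_mem_frattiniOf hB hy) x hx).symm, one_pow,
    mul_one]

/-- a coprime operator group centralizing `Ω₁` of a `p`-group, `p` odd, centralizes it -/
theorem le_centralizer_of_omegaOne [Finite G] [Fact p.Prime] (h2 : p ≠ 2) {A : Subgroup G}
    (hA : (Nat.card A).Coprime p) (B : Subgroup G) (hB : IsPGroup p B)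
    (hn : A ≤ normalizer (B : Set G)) (h : ∀ x ∈ B, x ^ p = 1 → x ∈ centralizer (A : Set G)) :
    B ≤ centralizer (A : Set G) := by
  induction B using (measure fun B : Subgroup G => Nat.card B).wf.induction with
  | h B ih =>
  by_cases hb : B = ⊥
  · rw [hb]; exact bot_le
  have hc := (coprime_card_card hB hA).symm
  have hs : Group.IsSolvable A ∨ Group.IsSolvable B := Or.inr (isSolvable_of_isPGroup' hB)
  rw [← commutator_eq_bot_iff_le_centralizer]
  refine Core.commutator_eq_bot_of_commutator_commutator_eq_bot hn hc hs ?_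
  rw [commutator_eq_bot_iff_le_centralizer]
  have hle : ⁅B, A⁆ ≤ B := commutator_le_left' hn
  by_cases hBA : ⁅B, A⁆ = B
  swap
  · exact ih _ (card_lt_of_lt (lt_of_le_of_ne hle hBA)) (hB.to_le hle)
      (normalizer_commutator_ge_right B A) fun x hx => h x (hle hx)
  have hF : frattiniOf B ≤ centralizer (A : Set G) := ih _ (card_lt_of_lt (frattiniOf_lt hb))
    (hB.to_le (frattiniOf_le B)) (hn.trans (normalizer_le_normalizer_frattiniOf B))
    fun x hx => h x (frattiniOf_le B hx)
  have hFB : frattiniOf B ≤ centralizer (B : Set G) := by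
    rw [le_centralizer_iff, ← commutator_eq_bot_iff_le_centralizer]
    nth_rewrite 1 [← hBA]
    refine commutator_commutator_eq_bot_of_rotate ?_ ?_
    · rw [commutator_eq_bot_iff_le_centralizer.2 (le_centralizer_iff.1 hF), commutator_bot_left]
    · exact commutator_eq_bot_iff_le_centralizer.2 ((commutator_le_left'
        (le_normalizer.trans (normalizer_le_normalizer_frattiniOf B))).trans hF)
  refine commutator_le.2 fun b hb a ha => h _ (hle (commutator_mem_commutator hb ha)) ?_
  have : ⁅b, a⁆ = b * (a * b⁻¹ * a⁻¹) := by rw [commutatorElement_def]; group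
  rw [this, mul_pow_of_frattiniOf_le h2 hB hFB hb (conj_mem_of_mem_normalizer (hn ha) (inv_mem hb)),
    conj_pow, hF (pow_mem_frattiniOf hB (inv_mem hb)) a ha, mul_inv_cancel_right, inv_pow,
    mul_inv_cancel]

theorem mem_centralizer_of_omegaOne [Finite G] [Fact p.Prime] (h2 : p ≠ 2) {B : Subgroup G}
    (hB : IsPGroup p B) {x : G} (hn : x ∈ normalizer (B : Set G)) (ho : (orderOf x).Coprime p)
    (h : x ∈ centralizer (omegaOne p B : Set G)) : x ∈ centralizer (B : Set G) :=
  le_centralizer_iff.1 (le_centralizer_of_omegaOne h2 (A := zpowers x) (by rwa [Nat.card_zpowers]) B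
    hB (zpowers_le.2 hn) fun y hy hyp => le_centralizer_iff.1 (zpowers_le.2 h)
      (mem_omegaOne hy hyp)) (mem_zpowers x)

/-! ### the centre of the Thompson subgroup -/

/-- `Z(J(P))` -/
def ZcOf (e : ℕ) (P : Subgroup G) : Subgroup G := JOf e P ⊓ centralizer (JOf e P : Set G)

theorem centerThompsonOf_eq (P : Subgroup G) : centerThompsonOf e P = ZcOf e P := by
  rw [centerThompsonOf, thompsonSubgroupOf_eq, ZcOf]

theorem ZcOf_le (P : Subgroup G) : ZcOf e P ≤ P := inf_le_left.trans (JOf_le P)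

theorem ZcOf_le_centralizer (P : Subgroup G) : ZcOf e P ≤ centralizer (JOf e P : Set G) :=
  inf_le_right

theorem ZcOf_comm (P : Subgroup G) : IsMulCommutative (ZcOf e P) :=
  isMulCommutative_inf_centralizer _

theorem map_ZcOf {G' : Type*} [Group G'] {f : G →* G'} {P : Subgroup G}
    (hf : ∀ x ∈ P, f x = 1 → x = 1) : (ZcOf e P).map f = ZcOf e (P.map f) := by
  rw [ZcOf, map_inf_centralizer (fun x hx => hf x (JOf_le P hx)) le_rfl, map_JOf hf, ZcOf]

theorem normalizer_JOf_le_normalizer_ZcOf (P : Subgroup G) :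
    normalizer (JOf e P : Set G) ≤ normalizer (ZcOf e P : Set G) :=
  le_normalizer_inf le_rfl (normalizer_le_normalizer_centralizer _)

theorem normalizer_le_normalizer_ZcOf (P : Subgroup G) :
    normalizer (P : Set G) ≤ normalizer (ZcOf e P : Set G) :=
  (normalizer_le_normalizer_JOf P).trans (normalizer_JOf_le_normalizer_ZcOf P)

theorem ZcOf_eq_of_le [Finite G] {P R : Subgroup G} (h1 : JOf e P ≤ R) (h2 : R ≤ P) :
    ZcOf e R = ZcOf e P := by rw [ZcOf, JOf_eq_of_le h1 h2, ZcOf]

theorem ZJOf_le_ZcOf [Finite G] (P : Subgroup G) : ZJOf e P ≤ ZcOf e P := by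
  rw [ZJOf_eq_omegaOne]; exact omegaOne_le _

theorem ZcOf_ne_bot [Finite G] [Fact p.Prime] {P : Subgroup G} (hP : IsPGroup p P) (h : P ≠ ⊥)
    (he : p ∣ e) : ZcOf e P ≠ ⊥ := fun hb =>
  ZJOf_ne_bot hP h he (eq_bot_iff.2 ((ZJOf_le_ZcOf P).trans hb.le))

theorem normalClosure_le_of_conj {X K : Subgroup G} (h : ∀ g : G, ∀ x ∈ X, g * x * g⁻¹ ∈ K) :
    normalClosure (X : Set G) ≤ K := (closure_le _).2 fun x hx => by
  obtain ⟨z, hz, hzx⟩ := Group.mem_conjugatesOfSet_iff.1 hx
  obtain ⟨g, rfl⟩ := isConj_iff.1 hzx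
  exact h g z hz

theorem commutator_normalClosure_le {X B W : Subgroup G} [B.Normal] [W.Normal]
    (h : ⁅X, B⁆ ≤ W) : ⁅normalClosure (X : Set G), B⁆ ≤ W := by
  refine commutator_closure_left_le le_normalizer_of_normal fun x hx y hy => ?_
  obtain ⟨z, hz, hzx⟩ := Group.mem_conjugatesOfSet_iff.1 hx
  obtain ⟨g, rfl⟩ := isConj_iff.1 hzx
  have : ⁅g * z * g⁻¹, y⁆ = g * ⁅z, g⁻¹ * y * g⁆ * g⁻¹ := by
    simp only [commutatorElement_def]; group
  rw [this]
  exact Normal.conj_mem inferInstance _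
    (h (commutator_mem_commutator hz (Normal.conj_mem' inferInstance y hy g))) g

theorem ZcOf_inf_normal [Finite G] [Fact p.Prime] (h2 : p ≠ 2)
    (hst : StabN p G) {P : Subgroup G} (hP : IsSylowOf p P ⊤) (B : Subgroup G) (hBn : B.Normal)
    (hB : IsPGroup p B) : (ZcOf p P ⊓ B).Normal := by
  induction B using (measure fun B : Subgroup G => Nat.card B).wf.induction with
  | h B ih =>
  set Z := ZcOf p P with hZ
  have hBP : B ≤ P := hP.le_of_normalizes hB le_top le_normalizer_of_normal
  have hPZ0 : P ≤ normalizer (Z : Set G) := le_normalizer.trans (normalizer_le_normalizer_ZcOf P)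
  by_cases hcl : normalClosure ((Z ⊓ B : Subgroup G) : Set G) = B
  swap
  · have hle : normalClosure ((Z ⊓ B : Subgroup G) : Set G) ≤ B :=
      normalClosure_le_normal inf_le_right
    have := ih _ (card_lt_of_lt (lt_of_le_of_ne hle hcl)) inferInstance (hB.to_le hle)
    rwa [le_antisymm (inf_le_inf_left _ hle) (le_inf inf_le_left le_normalClosure)] at this
  by_cases hb : B = ⊥
  · rw [hb, inf_bot_eq]; infer_instance
  have hFn := frattiniOf_normal B
  have hW := ih (frattiniOf B) (card_lt_of_lt (frattiniOf_lt hb)) hFn (hB.to_le (frattiniOf_le B))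
  have hBB : ⁅B, B⁆ ≤ Z ⊓ frattiniOf B := by
    nth_rewrite 1 [← hcl]
    exact commutator_normalClosure_le (le_inf ((commutator_mono inf_le_left le_rfl).trans
      (commutator_le_left' (hBP.trans hPZ0)))
      ((commutator_mono inf_le_right le_rfl).trans (commutator_le_frattiniOf hB)))
  have hFZ : frattiniOf B ≤ Z := by
    refine (frattiniOf_le_of hB hBB ?_).trans inf_le_left
    set π := QuotientGroup.mk' (Z ⊓ frattiniOf B) with hπ
    have hab : IsMulCommutative (B.map π) := isMulCommutative_of_commutator (by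
      rw [← map_commutator, Subgroup.map_eq_bot_iff, QuotientGroup.ker_mk']; exact hBB)
    have h1 : B ≤ (omegaOne p (B.map π)).comap π := by
      nth_rewrite 1 [← hcl]
      refine normalClosure_le_of_conj fun g x hx => mem_omegaOne
        (mem_map_of_mem π (hBn.conj_mem x hx.2 g)) ?_
      rw [← map_pow, conj_pow]
      exact (QuotientGroup.eq_one_iff _).2 (hW.conj_mem _
        (mem_inf.2 ⟨pow_mem hx.1 p, pow_mem_frattiniOf hB hx.2⟩) g)
    intro x hx
    have := ((mem_omegaOne_iff hab).1 (h1 hx)).2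
    rw [← map_pow] at this
    exact (QuotientGroup.eq_one_iff _).1 this
  have hFB : frattiniOf B ≤ centralizer (B : Set G) := by
    rw [le_centralizer_iff]
    nth_rewrite 1 [← hcl]
    exact normalClosure_le_normal (inf_le_left.trans ((le_centralizer_self (ZcOf_comm P)).trans
      (centralizer_anti hFZ)))
  have hBB' : ⁅B, B⁆ ≤ ZJOf p P := by
    rw [ZJOf_eq_omegaOne]
    refine commutator_le.2 fun x hx y hy => mem_omegaOne
      (hBB (commutator_mem_commutator hx hy)).1 ?_
    have h1 := hFB (commutator_le_frattiniOf hB (commutator_mem_commutator hx hy))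
    rw [← commutatorElement_pow_left (h1 x hx).symm]
    exact commutatorElement_eq_one_iff_mul_comm.2 (hFB (pow_mem_frattiniOf hB hx) y hy).symm
  set L := (normalizer ((Z ⊓ B : Subgroup G) : Set G)).normalCore with hL
  have hPZ : P ≤ normalizer ((Z ⊓ B : Subgroup G) : Set G) :=
    le_normalizer_inf hPZ0 le_normalizer_of_normal
  have ha0 : ∀ A : Subgroup G, InOp p A ⊤ (centralizer (B : Set G)) → A ≤ L := by
    intro A hA
    obtain ⟨D, a, -, c, d⟩ := hA.le_sup hP
    have := normal_of_top_le_normalizer c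
    refine a.trans (normal_le_normalCore.2 (d.trans (sup_le ?_ hPZ)))
    exact (centralizer_anti inf_le_right).trans (centralizer_le_normalizer _)
  have ha : ∀ A ∈ maxEA p P, B ≤ normalizer (A : Set G) → A ≤ L := fun A hA hn =>
    ha0 A (hst A B (hP.isP.to_le hA.1) hB hBn (commutator_eq_bot_of_le
      (commutator_self_eq_bot hA.2.1.1) (commutator_le_right' hn) le_rfl))
  have hR : IsSylowOf p (P ⊓ L) L := hP.inf_of_le le_top le_normalizer_of_normal
  have hall : ∀ A ∈ maxEA p P, A ≤ L := by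
    by_contra hcon
    push Not at hcon
    obtain ⟨A, ⟨hA, hAL⟩, hmax⟩ := Set.exists_max_image {A | A ∈ maxEA p P ∧ ¬ A ≤ L}
      (fun A => Nat.card (A ⊓ B : Subgroup G)) (Set.toFinite _) hcon
    obtain ⟨A', hA', -, hlt, -, hA'A⟩ := exists_replacement h2 (Or.inl (odd_of_ne_two h2)) hP.isP
      le_normalizer le_rfl hBP le_normalizer_of_normal hA (hBB'.trans (ZJOf_le_of_mem hA))
      fun hn => hAL (ha A hA hn)
    have hA'L : A' ≤ L := by
      by_contra h
      exact (card_lt_of_lt hlt).not_ge (hmax A' ⟨hA', h⟩)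
    have hA'R : A' ≤ P ⊓ L := le_inf hA'.1 hA'L
    have hBC : B ≤ centralizer (JOf p (P ⊓ L) : Set G) := by
      nth_rewrite 1 [← hcl]
      refine normalClosure_le_of_conj fun g z hz => ?_
      obtain ⟨n, hn, l, hl, rfl⟩ := (mem_sup_of_le_normalizer_right
        (H := normalizer ((P ⊓ L : Subgroup G) : Set G)) (N := L) le_normalizer_of_normal).1
        ((sup_comm _ _).trans hR.frattini_sup ▸ mem_top g)
      have : n * l * z * (n * l)⁻¹ = n * (l * z * l⁻¹) * n⁻¹ := by group
      rw [this]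
      exact conj_mem_of_mem_normalizer (normalizer_le_normalizer_centralizer _
        (normalizer_le_normalizer_JOf _ hn)) (centralizer_anti (JOf_le_JOf hA' hA'R inf_le_left)
        (ZcOf_le_centralizer P (conj_mem_of_mem_normalizer (normalCore_le _ hl) hz).1))
    have hO : omegaOne p B ≤ A' := omegaOne_le_iff.2 fun x hx hxp => mem_of_mem_maxEA hA' (hBP hx)
      hxp (centralizer_anti (le_JOf (mem_maxEA_of_le hA' hA'R inf_le_left)) (hBC hx))
    have := omegaOne_normal (e := p) B
    refine hAL (ha0 A ((hst A _ (hP.isP.to_le hA.1) (hB.to_le (omegaOne_le B)) this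
      (commutator_eq_bot_of_le (commutator_self_eq_bot hA.2.1.1)
      (commutator_le_right' (hO.trans hA'A)) le_rfl)).of_coprime fun x hx _ ho => ?_))
    exact mem_centralizer_of_omegaOne h2 hB (mem_normalizer_of_normal _ _) ho hx
  have hJ : JOf p P ≤ P ⊓ L := le_inf (JOf_le P) (JOf_le_iff.2 hall)
  refine normal_of_top_le_normalizer (hR.frattini_sup.ge.trans (sup_le (normalCore_le _) ?_))
  refine le_normalizer_inf ?_ le_normalizer_of_normal
  rw [hZ, ← ZcOf_eq_of_le hJ inf_le_left]
  exact normalizer_le_normalizer_ZcOf _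

/-- the ZJ-theorem for the centre of the elementary Thompson subgroup -/
theorem ZcOf_normal [Finite G] [Fact p.Prime] (h2 : p ≠ 2) (hst : StabN p G)
    (hc : centralizer (pCore p G : Set G) ≤ pCore p G) {P : Subgroup G} (hP : IsSylowOf p P ⊤) :
    (ZcOf p P).Normal := by
  have := ZcOf_inf_normal h2 hst hP (pCore p G) inferInstance pCore_isPGroup
  rwa [inf_eq_left.2 (le_pCore_of_stabN hst hc (hP.isP.to_le (ZcOf_le P)) (ZcOf_comm P)
    ((pCoreOf_top (p := p) (G := G) ▸ hP.pCoreOf_le).trans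
      (le_normalizer.trans (normalizer_le_normalizer_ZcOf P))))] at this

end

/-! ### characteristic `p`-functors -/

/-- a positive characteristic `p`-functor -/
structure CharFun (p : ℕ) (W : ∀ (G : Type u) [Group G], Subgroup G → Subgroup G) : Prop where
  le : ∀ (G : Type u) [Group G] [Finite G] (S : Subgroup G), W G S ≤ S
  ne_bot : ∀ (G : Type u) [Group G] [Finite G] (S : Subgroup G), IsPGroup p S → S ≠ ⊥ → W G S ≠ ⊥
  map : ∀ (G G' : Type u) [Group G] [Finite G] [Group G'] [Finite G'] (f : G →* G') (S : Subgroup G),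
    (∀ x ∈ S, f x = 1 → x = 1) → (W G S).map f = W G' (S.map f)

theorem charFun_WOf [Fact p.Prime] : CharFun.{u} p fun _ _ S => WOf p S :=
  ⟨fun _ _ _ S => WOf_le S, fun _ _ _ _ => WOf_ne_bot, fun _ _ _ _ _ _ _ _ => map_WOf⟩

theorem charFun_ZJOf [Fact p.Prime] (he : p ∣ e) : CharFun.{u} p fun _ _ S => ZJOf e S :=
  ⟨fun _ _ _ S => ZJOf_le S, fun _ _ _ _ h1 h2 => ZJOf_ne_bot h1 h2 he,
    fun _ _ _ _ _ _ _ _ => map_ZJOf⟩

theorem charFun_JOf [Fact p.Prime] (he : p ∣ e) : CharFun.{u} p fun _ _ S => JOf e S :=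
  ⟨fun _ _ _ S => JOf_le S, fun _ _ _ _ h1 h2 => JOf_ne_bot h1 h2 he,
    fun _ _ _ _ _ _ _ _ => map_JOf⟩

theorem charFun_ZcOf [Fact p.Prime] (he : p ∣ e) : CharFun.{u} p fun _ _ S => ZcOf e S :=
  ⟨fun _ _ _ S => ZcOf_le S, fun _ _ _ _ h1 h2 => ZcOf_ne_bot h1 h2 he,
    fun _ _ _ _ _ _ _ _ => map_ZcOf⟩

theorem charFun_center [Fact p.Prime] : CharFun.{u} p fun G _ S => S ⊓ centralizer (S : Set G) :=
  ⟨fun _ _ _ _ => inf_le_left, fun _ _ _ _ => center_ne_bot,
    fun _ _ _ _ _ _ _ _ h => map_inf_centralizer h le_rfl⟩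

section

variable {W W' : ∀ (G : Type u) [Group G], Subgroup G → Subgroup G}
  {G : Type u} [Group G] [Finite G]

theorem CharFun.cj (hW : CharFun p W) (g : G) (S : Subgroup G) : cj g (W G S) = W G (cj g S) :=
  hW.map G G _ S (inj_on_of_injective (MulAut.conj g).injective S)

theorem CharFun.normalizer_le (hW : CharFun p W) (S : Subgroup G) :
    normalizer (S : Set G) ≤ normalizer (W G S : Set G) := fun g hg => by
  rw [← cj_eq_self_iff] at hg ⊢
  rw [hW.cj, hg]

theorem CharFun.le_normalizer (hW : CharFun p W) (S : Subgroup G) :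
    S ≤ normalizer (W G S : Set G) := Subgroup.le_normalizer.trans (hW.normalizer_le S)

theorem CharFun.subgroupOf (hW : CharFun p W) {S H : Subgroup G} (h : S ≤ H) :
    W H (S.subgroupOf H) = (W G S).subgroupOf H := by
  apply map_injective H.subtype_injective
  rw [hW.map _ _ _ _ (inj_on_of_injective H.subtype_injective _), map_subgroupOf_eq_of_le h,
    map_subgroupOf_eq_of_le ((hW.le G S).trans h)]

omit [Finite G] in
theorem map_subtype_normalizer_subgroupOf_le {X H : Subgroup G} (h : X ≤ H) :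
    (normalizer (X.subgroupOf H : Set H)).map H.subtype ≤ normalizer (X : Set G) := by
  have := le_normalizer_map' H.subtype (le_refl (normalizer (X.subgroupOf H : Set H)))
  rwa [map_subgroupOf_eq_of_le h] at this

omit [Finite G] in
theorem map_subtype_centralizer_subgroupOf_le {X H : Subgroup G} (h : X ≤ H) :
    (centralizer (X.subgroupOf H : Set H)).map H.subtype ≤ centralizer (X : Set G) := by
  rintro _ ⟨x, hx, rfl⟩ y hy
  exact congrArg Subtype.val (hx ⟨y, h hy⟩ hy)

theorem npc_of_map_subtype [Fact p.Prime] {H : Subgroup G} {K : Subgroup H} {L : Subgroup G}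
    (h : NPC p L) (hle : K.map H.subtype ≤ L) : NPC p K :=
  npc_of_map H.subtype (by rw [ker_subtype, bot_inf_eq, card_bot]; exact Nat.coprime_one_left p)
    (h.mono hle)

theorem npc_top_subtype_iff [Fact p.Prime] {H : Subgroup G} : NPC p (⊤ : Subgroup H) ↔ NPC p H := by
  rw [← subgroupOf_self, npc_subgroupOf_iff le_rfl]

omit [Finite G] in
theorem inj_on_mk_of_coprime [Finite G] [Fact p.Prime] {K T : Subgroup G} [K.Normal]
    (hK : (Nat.card K).Coprime p) (hT : IsPGroup p T) :
    ∀ x ∈ T, QuotientGroup.mk' K x = 1 → x = 1 :=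
  inj_on_of_coprime (H := ⊤) (by rwa [inf_top_eq, QuotientGroup.ker_mk']) hT le_top

theorem centralizer_pCore_le_of_npc [Fact p.Prime] (hO : pPrimeCore p G = ⊥)
    (h : NPC p (⊤ : Subgroup (G ⧸ pCore p G))) : centralizer (pCore p G : Set G) ≤ pCore p G := by
  set π := QuotientGroup.mk' (pCore p G) with hπ
  set D := centralizer (pCore p G : Set G) ⊓ (pResOf p ⊤).comap π with hD
  have hn : (pResOf p (⊤ : Subgroup (G ⧸ pCore p G))).Normal :=
    normal_of_top_le_normalizer (le_normalizer_pResOf _)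
  have hDn : D.Normal := inferInstance
  have hS : IsSylowOf p (pCore p G ⊓ D) D := by
    refine ⟨inf_le_right, pCore_isPGroup.to_inf_left, fun hd => ?_⟩
    rw [inf_relIndex_right, ← QuotientGroup.ker_mk' (pCore p G), relIndex_ker] at hd
    exact (Fact.out : p.Prime).one_lt.ne' (((npc_iff_coprime.1 h).coprime_dvd_left
      (card_dvd_of_le (map_le_iff_le_comap.2 inf_le_right))).symm.eq_one_of_dvd hd)
  have h1 := hS.npc_of_burnside (inf_le_left.trans (inf_le_left.trans (centralizer_anti inf_le_left)))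
  have h2 : pResOf p D = ⊥ := by
    rw [h1.pResOf_eq_pPrimeCoreOf, eq_bot_iff, ← hO]
    exact pPrimeCoreOf_le_pPrimeCore D
  refine le_pCore inferInstance (pResOf_eq_bot_iff.1 (eq_bot_iff.2 (pResOf_le_iff.2
    fun x hx ho => ?_)))
  rw [← h2]
  exact mem_pResOf (mem_inf.2 ⟨hx, mem_pResOf (mem_top _)
    (ho.coprime_dvd_left (orderOf_map_dvd π x))⟩) ho

theorem abSyl2_of_isCoatom [hp : Fact p.Prime] (h2 : p ≠ 2) (h : NPC p (⊤ : Subgroup G))
    {S : Subgroup G} (hS : IsPGroup p S) (hm : IsCoatom S) : AbSyl2 (⊤ : Subgroup G) := by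
  set M := pResOf p (⊤ : Subgroup G) with hM
  have hn : M.Normal := normal_of_top_le_normalizer (le_normalizer_pResOf _)
  have hMc : (Nat.card M).Coprime p := npc_iff_coprime.1 h
  have hab : IsMulCommutative M := by
    by_cases hM1 : M = ⊥
    · rw [hM1]; infer_instance
    obtain ⟨r, hr, hd⟩ := Core.exists_prime_dvd_card hM1
    have := Fact.mk hr
    obtain ⟨R, ⟨h3, h4, h5⟩, h6⟩ := Core.exists_invariant_isSylowIn (A := S) (K := M)
      le_normalizer_of_normal (coprime_card_card hS hMc) (Or.inl (isSolvable_of_isPGroup' hS)) r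
    have hR : R ≠ ⊥ := fun hb => h5 (by rwa [hb, relIndex_bot_left])
    have hZ : S ≤ normalizer ((R ⊓ centralizer (R : Set G) : Subgroup G) : Set G) :=
      le_normalizer_inf h6 (le_normalizer_centralizer h6)
    have hSM := inf_eq_bot_of_isPGroup_of_coprime hS hMc
    have h7 : R ⊓ centralizer (R : Set G) ⊔ S = ⊤ := hm.2 _ (lt_of_le_of_ne le_sup_right fun he =>
      center_ne_bot h4 hR (eq_bot_iff.2 (hSM ▸ le_inf (le_sup_left.trans he.ge)
        (inf_le_left.trans h3))))
    have h8 := sup_inf_of_le_normalizer' hZ (inf_le_left.trans h3)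
    rw [h7, top_inf_eq, hSM, sup_bot_eq] at h8
    rw [h8]; exact isMulCommutative_inf_centralizer R
  exact fun T _ hT => isMulCommutative_of_le hab fun x hx => mem_pResOf (mem_top x)
    (coprime_orderOf_of_isPGroup h2.symm hT hx)

omit [Finite G] in
theorem AbSyl2.of_map [Finite G] {G' : Type*} [Group G'] (f : G →* G') {H : Subgroup G}
    (hk : (Nat.card (f.ker ⊓ H : Subgroup G)).Coprime 2) (h : AbSyl2 (H.map f)) : AbSyl2 H :=
  fun T hT h2 => isEA_zero_iff.1 (isEA_of_map (inj_on_of_coprime hk h2 hT) le_rfl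
    (isEA_zero_iff.2 (h _ (map_mono hT) (h2.map f))))

omit [Finite G] in
theorem isCoatom_map_of_ker_le' {G' : Type*} [Group G'] {f : G →* G'} (hf : Function.Surjective f)
    {S : Subgroup G} (hk : f.ker ≤ S) (h : IsCoatom S) : IsCoatom (S.map f) := by
  refine ⟨fun he => h.1 ?_, fun H hH => ?_⟩
  · rw [← comap_map_eq_self hk, he, comap_top]
  · rw [← map_comap_eq_self_of_surjective hf H, h.2 (H.comap f) (lt_of_le_of_ne
      (map_le_iff_le_comap.1 hH.le) fun he => hH.ne (by
        rw [he, map_comap_eq_self_of_surjective hf])), map_top_of_surjective _ hf]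

/-- the general normal `p`-complement theorem -/
theorem npc_of_charFun [hp : Fact p.Prime] (h2 : p ≠ 2) (hW : CharFun p W) (hW' : CharFun p W')
    (hD : ∀ (G : Type u) [Group G] [Finite G] (S : Subgroup G), IsSylowOf p S ⊤ →
      centralizer (pCore p G : Set G) ≤ pCore p G → AbSyl2 (⊤ : Subgroup G) → IsCoatom S →
      (W G S).Normal ∨ centralizer (W' G S : Set G) = ⊤)
    (G : Type u) [Group G] [Finite G] : ∀ S : Subgroup G, IsSylowOf p S ⊤ →
      NPC p (normalizer (W G S : Set G)) → NPC p (centralizer (W' G S : Set G)) →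
      NPC p (⊤ : Subgroup G) := by
  refine Core.card_induction (P := fun G _ _ => ∀ S : Subgroup G, IsSylowOf p S ⊤ →
      NPC p (normalizer (W G S : Set G)) → NPC p (centralizer (W' G S : Set G)) →
      NPC p (⊤ : Subgroup G)) (fun G _ _ ih S hS h1 h1' => ?_) G
  by_contra hcon
  -- proper subgroups
  have hsub : ∀ H T : Subgroup G, H ≠ ⊤ → IsSylowOf p T H → NPC p (normalizer (W G T : Set G)) →
      NPC p (centralizer (W' G T : Set G)) → NPC p H := fun H T hH hT a b => by
    refine npc_top_subtype_iff.1 (ih H (card_lt_of_ne_top hH) (T.subgroupOf H)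
      (subgroupOf_self H ▸ hT.subgroupOf le_rfl) ?_ ?_)
    · rw [hW.subgroupOf hT.le]
      exact npc_of_map_subtype a (map_subtype_normalizer_subgroupOf_le ((hW.le G T).trans hT.le))
    · rw [hW'.subgroupOf hT.le]
      exact npc_of_map_subtype b (map_subtype_centralizer_subgroupOf_le ((hW'.le G T).trans hT.le))
  have hsub' : ∀ H : Subgroup G, H ≠ ⊤ → S ≤ H → NPC p H := fun H hH hSH =>
    hsub H S hH (hS.of_le hSH le_top) h1 h1'
  -- `O_{p'}(G) = 1`
  have hO : pPrimeCore p G = ⊥ := by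
    by_contra hO
    set π := QuotientGroup.mk' (pPrimeCore p G) with hπ
    have hs := QuotientGroup.mk'_surjective (pPrimeCore p G)
    refine hcon (npc_of_map π (by rw [inf_top_eq, QuotientGroup.ker_mk']; exact pPrimeCore_coprime)
      ?_)
    rw [map_top_of_surjective _ hs]
    have hi := inj_on_mk_pPrimeCore hS.isP
    refine ih _ (card_quotient_lt hO) (S.map π) (isSylowOf_map_top hs hS) ?_ ?_
    · have hp := hS.isP.to_le (hW.le G S)
      rw [← hW.map _ _ _ _ hi, Core.normalizer_map_mk' (coprime_card_card hp pPrimeCore_coprime)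
        (Or.inl (isSolvable_of_isPGroup' hp))]
      exact h1.map _
    · have hp := hS.isP.to_le (hW'.le G S)
      rw [← hW'.map _ _ _ _ hi, Core.centralizer_map_mk' (coprime_card_card hp pPrimeCore_coprime)
        (Or.inl (isSolvable_of_isPGroup' hp))]
      exact h1'.map _
  -- `O_p(G) ≠ 1`
  have hOp : pCore p G ≠ ⊥ := by
    intro hOp
    have hN : ∀ Q : Subgroup G, IsPGroup p Q → Q ≠ ⊥ → normalizer (Q : Set G) ≠ ⊤ := fun Q a b c =>
      b (eq_bot_iff.2 (hOp ▸ le_pCore (normalizer_eq_top_iff.1 c) a))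
    have key : ∀ n : ℕ, ∀ Q T : Subgroup G, IsPGroup p Q → Q ≠ ⊥ →
        IsSylowOf p T (normalizer (Q : Set G)) → Nat.card G - Nat.card T = n →
        NPC p (normalizer (Q : Set G)) := by
      intro n
      induction n using Nat.strong_induction_on with
      | _ n ihn =>
      intro Q T hQ hQ1 hT hn
      obtain ⟨g, -, hg⟩ := hS.exists_cj_le hT.isP le_top
      have hT' := hT.cj g
      rw [cj_normalizer] at hT'
      have hQ' : IsPGroup p (cj g Q) := isPGroup_cj g hQ
      have hQ1' : cj g Q ≠ ⊥ := by rwa [Ne, cj_eq_bot_iff]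
      suffices NPC p (normalizer (cj g Q : Set G)) by
        have := this.cj g⁻¹
        rwa [cj_normalizer, cj_inv_cj] at this
      rcases hg.eq_or_lt with he | hlt
      · exact hsub' _ (hN _ hQ' hQ1') (he ▸ hT'.le)
      have hT1 : cj g T ≠ ⊥ := fun hb => hQ1' (eq_bot_iff.2 (hb ▸ hT'.le_of_normalizes hQ'
        le_normalizer hT'.le))
      have hY : ∀ Y ≤ cj g T, Y ≠ ⊥ → normalizer (cj g T : Set G) ≤ normalizer (Y : Set G) →
          NPC p (normalizer (Y : Set G)) := fun Y a b c => by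
        obtain ⟨U, hU, hle⟩ := exists_isSylowOf_ge (Q := S ⊓ normalizer (cj g T : Set G))
          hS.isP.to_inf_left (inf_le_right.trans c)
        refine ihn _ ?_ Y U (hT'.isP.to_le a) b hU rfl
        have h3 := card_lt_of_lt ((lt_inf_normalizer hS.isP hlt).trans_le hle)
        rw [card_cj] at h3
        have h4 := card_le_card_group U
        omega
      exact hsub _ _ (hN _ hQ' hQ1') hT' (hY _ (hW.le _ _) (hW.ne_bot _ _ hT'.isP hT1)
        (hW.normalizer_le _)) ((hY _ (hW'.le _ _) (hW'.ne_bot _ _ hT'.isP hT1)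
        (hW'.normalizer_le _)).mono (centralizer_le_normalizer _))
    refine hcon (npc_of_local fun Q _ hQ hQ1 => ?_)
    obtain ⟨T, hT⟩ := exists_isSylowOf (p := p) (normalizer (Q : Set G))
    rw [top_inf_eq]
    exact key _ Q T hQ hQ1 hT rfl
  -- `G/O_p(G)` has a normal `p`-complement
  set π := QuotientGroup.mk' (pCore p G) with hπ
  have hs : Function.Surjective π := QuotientGroup.mk'_surjective (pCore p G)
  have hS' := isSylowOf_map_top hs hS
  have hq : NPC p (⊤ : Subgroup (G ⧸ pCore p G)) := by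
    by_cases hb : S.map π = ⊥
    · exact npc_of_coprime (hS'.eq_bot_iff.1 hb)
    have hY : ∀ Y ≤ S.map π, Y ≠ ⊥ → S.map π ≤ normalizer (Y : Set (G ⧸ pCore p G)) →
        NPC p (normalizer (Y : Set (G ⧸ pCore p G))) := fun Y a b c => by
      rw [← map_comap_eq_self_of_surjective hs (normalizer (Y : Set (G ⧸ pCore p G)))]
      refine (hsub' _ (fun he => b (eq_bot_iff.2 ?_)) (map_le_iff_le_comap.1 c)).map π
      rw [← pCore_quotient_pCore (p := p)]
      refine le_pCore (normalizer_eq_top_iff.1 ?_) (hS'.isP.to_le a)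
      rw [← map_comap_eq_self_of_surjective hs (normalizer (Y : Set (G ⧸ pCore p G))), he,
        map_top_of_surjective _ hs]
    exact ih _ (card_quotient_lt hOp) _ hS' (hY _ (hW.le _ _) (hW.ne_bot _ _ hS'.isP hb)
      (hW.le_normalizer _)) ((hY _ (hW'.le _ _) (hW'.ne_bot _ _ hS'.isP hb)
      (hW'.le_normalizer _)).mono (centralizer_le_normalizer _))
  have hc := centralizer_pCore_le_of_npc hO hq
  have hOS : pCore p G ≤ S := pCoreOf_top (p := p) (G := G) ▸ hS.pCoreOf_le
  have hm : IsCoatom S := by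
    refine ⟨fun he => hcon (npc_of_isPGroup (he ▸ hS.isP)), fun H hH => ?_⟩
    by_contra hH'
    have h3 := ((hsub' H hH' hH.le).pResOf_le_centralizer pCore_isPGroup (hOS.trans hH.le)
      le_normalizer_of_normal).trans hc
    refine hH.ne' (hS.eq_of_le (pResOf_eq_bot_iff.1 (eq_bot_iff.2 (pResOf_le_iff.2
      fun x hx ho => ?_))) le_top hH.le)
    exact mem_bot.2 (eq_one_of_isPGroup_of_coprime pCore_isPGroup (h3 (mem_pResOf hx ho)) ho)
  have hm' : IsCoatom (S.map π) := isCoatom_map_of_ker_le' hs (by rwa [QuotientGroup.ker_mk']) hm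
  have hab : AbSyl2 (⊤ : Subgroup G) := AbSyl2.of_map π (by
      rw [inf_top_eq, QuotientGroup.ker_mk']
      obtain ⟨k, hk⟩ := IsPGroup.iff_card.1 (pCore_isPGroup (p := p) (G := G))
      rw [hk]
      exact Nat.Coprime.pow_left _ ((Nat.coprime_primes hp.out Nat.prime_two).2 h2))
    (map_top_of_surjective _ hs ▸ abSyl2_of_isCoatom h2 hq hS'.isP hm')
  rcases hD G S hS hc hab hm with h | h
  · exact hcon (normalizer_eq_top_iff.2 h ▸ h1)
  · exact hcon (h ▸ h1')

theorem npc_of_charFun' [hp : Fact p.Prime] (h2 : p ≠ 2) (hW : CharFun p W)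
    (hD : ∀ (G : Type u) [Group G] [Finite G] (S : Subgroup G), IsSylowOf p S ⊤ →
      centralizer (pCore p G : Set G) ≤ pCore p G → AbSyl2 (⊤ : Subgroup G) → (W G S).Normal)
    {S : Subgroup G} (hS : IsSylowOf p S ⊤) (h : NPC p (normalizer (W G S : Set G))) :
    NPC p (⊤ : Subgroup G) :=
  npc_of_charFun h2 hW hW (fun G _ _ S a b c _ => Or.inl (hD G S a b c)) G S hS h
    (h.mono (centralizer_le_normalizer _))

theorem npc_of_WOf [Fact p.Prime] (h2 : p ≠ 2) {S : Subgroup G} (hS : IsSylowOf p S ⊤)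
    (h : NPC p (normalizer (WOf p S : Set G))) : NPC p (⊤ : Subgroup G) :=
  npc_of_charFun' h2 charFun_WOf
    (fun _ _ _ _ a b c => WOf_normal (isActionPStable_of_abSyl2 h2 c) b a) hS h

/-- the Glauberman–Thompson normal `p`-complement theorem -/
theorem npc_of_ZJOf [Fact p.Prime] (h2 : p ≠ 2) (he : e = p ∨ e = 0) {S : Subgroup G}
    (hS : IsSylowOf p S ⊤) (h : NPC p (normalizer (ZJOf e S : Set G))) : NPC p (⊤ : Subgroup G) :=
  npc_of_charFun' h2 (charFun_ZJOf (by rcases he with rfl | rfl <;> simp))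
    (fun _ _ _ _ a b c => ZJOf_normal h2 (he.imp_left fun h => h ▸ odd_of_ne_two h2)
      (stabN_of_abSyl2 h2 c) b a) hS h

theorem npc_of_ZcOf [Fact p.Prime] (h2 : p ≠ 2) {S : Subgroup G}
    (hS : IsSylowOf p S ⊤) (h : NPC p (normalizer (ZcOf p S : Set G))) : NPC p (⊤ : Subgroup G) :=
  npc_of_charFun' h2 (charFun_ZcOf dvd_rfl)
    (fun _ _ _ _ a b c => ZcOf_normal h2 (stabN_of_abSyl2 h2 c) b a) hS h

/-- Thompson's normal `p`-complement theorem -/
theorem npc_thompson [Fact p.Prime] (h2 : p ≠ 2) {S : Subgroup G} (hS : IsSylowOf p S ⊤)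
    (h : NPC p (normalizer (JOf p S : Set G)))
    (h' : NPC p (centralizer ((S ⊓ centralizer (S : Set G) : Subgroup G) : Set G))) :
    NPC p (⊤ : Subgroup G) := by
  refine npc_of_charFun h2 (charFun_JOf dvd_rfl) charFun_center (fun G _ _ S hS hc hab hm => ?_)
    G S hS h h'
  have hOS : pCore p G ≤ S := pCoreOf_top (p := p) (G := G) ▸ hS.pCoreOf_le
  by_cases hC : centralizer ((S ⊓ centralizer (S : Set G) : Subgroup G) : Set G) = ⊤
  · exact Or.inr hC
  left
  have hC' := (hm.le_iff.1 (le_centralizer_iff.1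
    (inf_le_right : S ⊓ centralizer (S : Set G) ≤ _))).resolve_left hC
  set V := normalClosure ((S ⊓ centralizer (S : Set G) : Subgroup G) : Set G) with hV
  have hVO : V ≤ pCore p G ⊓ centralizer (pCore p G : Set G) := normalClosure_le_normal
    (le_inf ((inf_le_right.trans (centralizer_anti hOS)).trans hc)
      (inf_le_right.trans (centralizer_anti hOS)))
  have hVp : IsPGroup p V := pCore_isPGroup.to_le (hVO.trans inf_le_left)
  have hVa : IsMulCommutative V := isMulCommutative_of_le (isMulCommutative_inf_centralizer _) hVO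
  have hn := omegaOne_normal (e := p) V
  have hCV : IsPGroup p (centralizer (omegaOne p V : Set G)) :=
    pResOf_eq_bot_iff.1 (eq_bot_iff.2 (pResOf_le_iff.2 fun x hx ho => mem_bot.2
      (eq_one_of_isPGroup_of_coprime hS.isP (hC' ▸ centralizer_anti le_normalClosure
        (mem_centralizer_of_omegaOne h2 hVp (mem_normalizer_of_normal _ _) ho hx)) ho)))
  have hJ : JOf p S ≤ pCore p G := by
    refine le_trans ?_ (le_pCore inferInstance hCV)
    by_contra hJ
    obtain ⟨A, -, h1, h3⟩ := exists_quad_maxEA (isEA_omegaOne hVa)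
      ((omegaOne_le V).trans (hVO.trans (inf_le_left.trans hOS))) le_normalizer_of_normal hJ
    have := (stabOn_of_abSyl2 h2 hab (isEA_omegaOne hVa) le_normalizer_of_normal A le_top
      h1).le_pCoreOf hCV
    rw [pCoreOf_top] at this
    exact h3 (commutator_eq_bot_iff_le_centralizer.2 ((omegaOne_le V).trans
      (hVO.trans (inf_le_right.trans (centralizer_anti this)))))
  rw [← JOf_eq_of_le hJ hOS]
  exact normal_of_top_le_normalizer ((normalizer_eq_top _).ge.trans (normalizer_le_normalizer_JOf _))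

end

/-! ### control of fusion -/

section

variable {G : Type*} [Group G]

/-- conjugation by `g` on `A` is realized by an element of `M` -/
def Real (M A : Subgroup G) (g : G) : Prop := ∃ m ∈ M, ∀ a ∈ A, m⁻¹ * a * m = g⁻¹ * a * g

theorem Real.of_mem {M : Subgroup G} (A : Subgroup G) {g : G} (h : g ∈ M) : Real M A g :=
  ⟨g, h, fun _ _ => rfl⟩

theorem Real.of_centralizer (M : Subgroup G) {A : Subgroup G} {g : G}
    (h : g ∈ centralizer (A : Set G)) : Real M A g :=
  ⟨1, one_mem _, fun a ha => by rw [mul_assoc g⁻¹, h a ha]; group⟩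

theorem Real.mono {M A B : Subgroup G} {g : G} (h : Real M B g) (hle : A ≤ B) : Real M A g := by
  obtain ⟨m, hm, h⟩ := h
  exact ⟨m, hm, fun a ha => h a (hle ha)⟩

theorem Real.mul {M A : Subgroup G} {g h : G} (h1 : Real M A g) (h2 : Real M (cj g⁻¹ A) h) :
    Real M A (g * h) := by
  obtain ⟨m, hm, h1⟩ := h1
  obtain ⟨n, hn, h2⟩ := h2
  refine ⟨m * n, mul_mem hm hn, fun a ha => ?_⟩
  have := h2 (g⁻¹ * a * g) (by simpa [mul_assoc] using ha)
  calc (m * n)⁻¹ * a * (m * n) = n⁻¹ * (m⁻¹ * a * m) * n := by group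
    _ = h⁻¹ * (g⁻¹ * a * g) * h := by rw [h1 a ha, this]
    _ = _ := by group

theorem Real.inv {M A : Subgroup G} {g : G} (h : Real M A g) : Real M (cj g⁻¹ A) g⁻¹ := by
  obtain ⟨m, hm, h⟩ := h
  refine ⟨m⁻¹, inv_mem hm, ?_⟩
  rintro _ ⟨a, ha, rfl⟩
  have := h a ha
  simp only [MulEquiv.coe_toMonoidHom, MulAut.conj_apply, inv_inv]
  rw [← this, show g * (m⁻¹ * a * m) * g⁻¹ = g * (g⁻¹ * a * g) * g⁻¹ by rw [this]]
  group

theorem Real.congr {M A : Subgroup G} {g h : G} (h1 : Real M A g)
    (h2 : ∀ a ∈ A, g⁻¹ * a * g = h⁻¹ * a * h) : Real M A h := by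
  obtain ⟨m, hm, h1⟩ := h1
  exact ⟨m, hm, fun a ha => (h1 a ha).trans (h2 a ha)⟩

theorem cj_eq_of_forall {A : Subgroup G} {g h : G} (h2 : ∀ a ∈ A, g⁻¹ * a * g = h⁻¹ * a * h) :
    cj g⁻¹ A = cj h⁻¹ A := by
  ext x
  constructor <;> rintro ⟨a, ha, rfl⟩ <;> exact ⟨a, ha, by simp [h2 a ha]⟩

theorem Real.conj {M A : Subgroup G} {h n : G} (h1 : Real M A h) (h2 : Real M (cj n⁻¹ A) h)
    (h3 : Real M (cj h⁻¹ A) (h⁻¹ * n * h)) : Real M A n := by
  have h4 := (h1.mul h3).mul (h := h⁻¹) (by
    rw [show (h * (h⁻¹ * n * h))⁻¹ = h⁻¹ * n⁻¹ by group, cj_mul]; exact h2.inv)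
  rwa [show h * (h⁻¹ * n * h) * h⁻¹ = n by group] at h4

end

section

variable {W : ∀ (G : Type u) [Group G], Subgroup G → Subgroup G}
  {X : ∀ (G : Type u) [Group G], Prop}

theorem charFun_factor [Fact p.Prime] (hW : CharFun p W)
    (hX1 : ∀ (G : Type u) [Group G] (H : Subgroup G), X G → X H)
    (hX2 : ∀ (G : Type u) [Group G] (N : Subgroup G) [N.Normal], X G → X (G ⧸ N))
    (hD : ∀ (G : Type u) [Group G] [Finite G] (S : Subgroup G), X G → IsSylowOf p S ⊤ →
      centralizer (pCore p G : Set G) ≤ pCore p G → (W G S).Normal)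
    (G : Type u) [Group G] [Finite G] : X G → ∀ S T : Subgroup G, IsSylowOf p S ⊤ → T.Normal →
      IsPGroup p T → centralizer (T : Set G) ⊔ normalizer (W G S : Set G) = ⊤ := by
  refine Core.card_induction (P := fun G _ _ => X G → ∀ S T : Subgroup G, IsSylowOf p S ⊤ →
      T.Normal → IsPGroup p T → centralizer (T : Set G) ⊔ normalizer (W G S : Set G) = ⊤)
    (fun G _ _ ih hX S T hS hn hT => ?_) G
  set K := T ⊔ centralizer (T : Set G) with hK
  have hQ : IsSylowOf p (S ⊓ K) K := hS.inf_of_le le_top le_normalizer_of_normal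
  set Q := S ⊓ K with hQd
  have hTS : T ≤ S := hS.le_of_normalizes hT le_top le_normalizer_of_normal
  have hTQ : T ≤ Q := le_inf hTS le_sup_left
  have hSQ : S ≤ normalizer (Q : Set G) := le_normalizer_inf le_normalizer le_normalizer_of_normal
  by_cases hN : normalizer (Q : Set G) = ⊤
  · have hQn := normalizer_eq_top_iff.1 hN
    set π := QuotientGroup.mk' (pPrimeCore p G) with hπ
    have hs : Function.Surjective π := QuotientGroup.mk'_surjective _
    have h1 : IsSylowOf p (Q ⊓ centralizer (Q : Set G)) (centralizer (Q : Set G)) :=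
      hQ.inf_of_le ((centralizer_anti hTQ).trans le_sup_right) le_normalizer_of_normal
    have h3 := (h1.npc_of_burnside (inf_le_left.trans (centralizer_anti inf_le_left))).pResOf_eq_pPrimeCoreOf
    have hQO : Q.map π ≤ pCore p _ := le_pCore (hQn.map π hs) (hQ.isP.map π)
    have hc : centralizer (pCore p (G ⧸ pPrimeCore p G) : Set (G ⧸ pPrimeCore p G)) ≤ pCore p _ := by
      refine (centralizer_anti hQO).trans ?_
      rw [Core.centralizer_map_mk' (coprime_card_card hQ.isP pPrimeCore_coprime)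
        (Or.inl (isSolvable_of_isPGroup' hQ.isP)), ← h1.sup_pResOf, Subgroup.map_sup, h3]
      refine sup_le ((map_mono inf_le_left).trans hQO) (le_trans ?_ bot_le)
      rw [map_le_iff_le_comap, MonoidHom.comap_bot, QuotientGroup.ker_mk']
      exact pPrimeCoreOf_le_pPrimeCore _
    have h4 := hD _ _ (hX2 G _ hX) (isSylowOf_map_top hs hS) hc
    rw [← hW.map _ _ _ _ (inj_on_mk_pPrimeCore hS.isP)] at h4
    rw [eq_top_iff, ← sup_normalizer_eq_top_of_map_normal pPrimeCore_coprime
      (hS.isP.to_le (hW.le G S)) h4]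
    exact sup_le_sup_right (pPrimeCore_le_centralizer_pCore.trans
      (centralizer_anti (le_pCore hn hT))) _
  · have h1 := ih _ (card_lt_of_ne_top hN) (hX1 G _ hX) (S.subgroupOf _) (T.subgroupOf _)
      (subgroupOf_self (normalizer (Q : Set G)) ▸ (hS.of_le hSQ le_top).subgroupOf le_rfl)
      inferInstance (hT.comap_subtype)
    have h3 := congrArg (map (normalizer (Q : Set G)).subtype) h1
    rw [map_top_subtype', Subgroup.map_sup, hW.subgroupOf hSQ] at h3
    have h4 : normalizer (Q : Set G) ≤ centralizer (T : Set G) ⊔ normalizer (W G S : Set G) :=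
      h3.ge.trans (sup_le_sup (map_subtype_centralizer_subgroupOf_le (hTS.trans hSQ))
        (map_subtype_normalizer_subgroupOf_le ((hW.le G S).trans hSQ)))
    rw [eq_top_iff, ← hQ.frattini_sup]
    exact sup_le (sup_le ((hTS.trans hSQ).trans h4) le_sup_left) h4

/-- control of strong fusion by a characteristic functor -/
theorem charFun_fusion [Fact p.Prime] (hW : CharFun p W)
    (hX1 : ∀ (G : Type u) [Group G] (H : Subgroup G), X G → X H)
    (hX2 : ∀ (G : Type u) [Group G] (N : Subgroup G) [N.Normal], X G → X (G ⧸ N))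
    (hD : ∀ (G : Type u) [Group G] [Finite G] (S : Subgroup G), X G → IsSylowOf p S ⊤ →
      centralizer (pCore p G : Set G) ≤ pCore p G → (W G S).Normal)
    (G : Type u) [Group G] [Finite G] : X G → ∀ P : Subgroup G, IsSylowOf p P ⊤ →
      ∀ A ≤ P, ∀ g, cj g⁻¹ A ≤ P → Real (normalizer (W G P : Set G)) A g := by
  refine Core.card_induction (P := fun G _ _ => X G → ∀ P : Subgroup G, IsSylowOf p P ⊤ →
      ∀ A ≤ P, ∀ g, cj g⁻¹ A ≤ P → Real (normalizer (W G P : Set G)) A g)
    (fun G _ _ ih hX P hP => ?_) G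
  have hsub : ∀ H T : Subgroup G, H ≠ ⊤ → IsSylowOf p T H → ∀ A ≤ T, ∀ g ∈ H, cj g⁻¹ A ≤ T →
      Real (normalizer (W G T : Set G)) A g := fun H T hH hT A hA g hg hAg => by
    obtain ⟨m, hm, h⟩ := ih H (card_lt_of_ne_top hH) (hX1 G H hX) (T.subgroupOf H)
      (subgroupOf_self H ▸ hT.subgroupOf le_rfl) (A.subgroupOf H) (comap_mono hA) ⟨g, hg⟩ (by
        rintro _ ⟨a, ha, rfl⟩
        exact hAg ⟨a, ha, rfl⟩)
    rw [hW.subgroupOf hT.le] at hm
    exact ⟨m, map_subtype_normalizer_subgroupOf_le ((hW.le G T).trans hT.le) (mem_map_of_mem _ hm),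
      fun a ha => congrArg Subtype.val (h ⟨a, hT.le (hA ha)⟩ ha)⟩
  set M := normalizer (W G P : Set G) with hM
  have hPM : P ≤ M := hW.le_normalizer P
  have htop : ∀ g, cj g⁻¹ P ≤ P → Real M P g := fun g hg =>
    Real.of_mem _ (hW.normalizer_le P (inv_mem_iff.1 (mem_normalizer_of_cj_le hg)))
  intro A
  induction A using (measure fun A : Subgroup G => Nat.card G - Nat.card A).wf.induction with
  | h A ihA =>
  have ihA' : ∀ B : Subgroup G, Nat.card A < Nat.card B → B ≤ P → ∀ g, cj g⁻¹ B ≤ P → Real M B g :=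
    fun B hB => ihA B (by
      have := card_le_card_group B
      show Nat.card G - Nat.card B < Nat.card G - Nat.card A
      omega)
  intro hA g hg
  rcases hA.eq_or_lt with rfl | hlt
  · exact htop g hg
  by_cases hO : pCore p G = ⊥
  · by_cases hA1 : A = ⊥
    · exact Real.of_centralizer _ (by rw [hA1]; intro x hx; simp [mem_bot.1 hx])
    have hN : ∀ Q : Subgroup G, IsPGroup p Q → Q ≠ ⊥ → normalizer (Q : Set G) ≠ ⊤ := fun Q a b c =>
      b (eq_bot_iff.2 (hO ▸ le_pCore (normalizer_eq_top_iff.1 c) a))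
    have key : ∀ S ≤ P, Nat.card A < Nat.card S → ∀ T ≤ S, ∀ n ∈ normalizer (W G S : Set G),
        cj n⁻¹ T ≤ S → Real M T n := by
      intro S
      induction S using (measure fun A : Subgroup G => Nat.card G - Nat.card A).wf.induction with
      | h S ihS =>
      intro hS hAS T hT n hn hTn
      rcases hS.eq_or_lt with rfl | hlt'
      · exact Real.of_mem _ hn
      have hSp := hP.isP.to_le hS
      have hS1 : S ≠ ⊥ := fun hb => by
        rw [hb, card_bot] at hAS
        exact absurd Nat.card_pos (by omega : ¬ 0 < Nat.card A)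
      obtain ⟨U, hU, hle⟩ := exists_isSylowOf_ge (Q := P ⊓ normalizer (S : Set G))
        hP.isP.to_inf_left (inf_le_right.trans (hW.normalizer_le S))
      have hSU := (lt_inf_normalizer hP.isP hlt').trans_le hle
      obtain ⟨h, -, hh⟩ := hP.exists_cj_le hU.isP le_top
      have h1 : Real M S h⁻¹ := ihA' S hAS hS h⁻¹ (by rw [inv_inv]; exact (cj_mono h hSU.le).trans hh)
      obtain ⟨n₂, hn₂, h3⟩ := hsub _ U (hN _ (hSp.to_le (hW.le G S)) (hW.ne_bot G S hSp hS1)) hU T
        (hT.trans hSU.le) n hn (hTn.trans hSU.le)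
      have h4 := cj_eq_of_forall h3
      refine (Real.conj (h1.mono hT) (h1.mono (h4 ▸ hTn)) ?_).congr h3
      have h5 := card_lt_of_lt hSU
      refine ihS (cj h U) ?_ hh (by rw [card_cj]; omega) _ ?_ _ ?_ ?_
      · have := card_le_card_group U
        show Nat.card G - Nat.card (cj h U) < Nat.card G - Nat.card S
        rw [card_cj]; omega
      · rw [inv_inv]; exact cj_mono h (hT.trans hSU.le)
      · rw [← hW.cj, ← cj_normalizer, inv_inv]; exact conj_mem_cj.2 hn₂
      · rw [← cj_mul, show (h⁻¹⁻¹ * n₂ * h⁻¹)⁻¹ * h⁻¹⁻¹ = h * n₂⁻¹ by group, cj_mul, h4]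
        exact cj_mono h (hTn.trans hSU.le)
    obtain ⟨P', rfl⟩ := hP.exists_sylow_top
    refine strong_fusion_of_local P' M A (fun T hT hc hTs x hx => ?_) g hA hg
    have hx' : cj x⁻¹ T = T := cj_eq_self_iff.2 (inv_mem hx)
    rcases hT.eq_or_lt with rfl | hlt'
    · exact htop x hx'.le
    have h1 := lt_inf_normalizer hP.isP hlt'
    have hT1 : T ≠ ⊥ := fun hb => by
      rw [hb, card_bot] at hc
      exact hA1 ((card_le_one_iff_eq_bot _).1 hc)
    obtain ⟨n, hn, h3⟩ := hsub _ _ (hN T (hP.isP.to_le hT) hT1) hTs T h1.le x hx (hx'.le.trans h1.le)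
    exact (key _ inf_le_left (hc.trans_lt (card_lt_of_lt h1)) T h1.le n hn
      ((cj_eq_of_forall h3).le.trans (hx'.le.trans h1.le))).congr h3
  set C := centralizer (pCore p G : Set G) with hC
  have hf := charFun_factor hW hX1 hX2 hD G hX P _ hP inferInstance pCore_isPGroup
  have hOP : pCore p G ≤ P := pCoreOf_top (p := p) (G := G) ▸ hP.pCoreOf_le
  by_cases hH : P ⊔ C = ⊤
  swap
  · obtain ⟨c, hc, m, hm, rfl⟩ := (mem_sup_of_le_normalizer_left (le_normalizer_of_normal)).1
      (hf ▸ mem_top g)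
    have h1 : cj c⁻¹ A ≤ M ⊓ (P ⊔ C) := by
      refine le_inf ?_ (cj_le_of_mem (hA.trans le_sup_left) (inv_mem (mem_sup_right hc)))
      rw [show c⁻¹ = m * (c * m)⁻¹ by group, cj_mul]
      exact cj_le_of_mem (hg.trans hPM) hm
    obtain ⟨h, hh, h3⟩ := (hP.of_le (le_inf hPM le_sup_left) le_top).exists_cj_le
      (isPGroup_cj _ (hP.isP.to_le hA)) h1
    have h4 := (hsub _ P hH (hP.of_le le_sup_left le_top) A hA (c * h⁻¹)
      (mul_mem (mem_sup_right hc) (inv_mem hh.2)) (by
        rw [mul_inv_rev, inv_inv, cj_mul]; exact h3)).mul (Real.of_mem _ (mul_mem hh.1 hm))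
    rwa [show c * h⁻¹ * (h * m) = c * m by group] at h4
  have hres : pResOf p (⊤ : Subgroup G) ≤ C := by
    refine pResOf_le_of_relIndex le_normalizer_of_normal ?_
    rw [← hH, relIndex_sup_right]
    exact relIndex_eq_pow_of_isPGroup hP.isP _
  by_cases hOA : pCore p G ≤ A
  swap
  · refine (ihA' (A ⊔ pCore p G) (card_lt_of_lt (lt_of_le_of_ne le_sup_left fun he =>
      hOA (le_sup_right.trans he.ge))) (sup_le hA hOP) g ?_).mono le_sup_left
    rw [cj_sup, cj_eq_of_normal _ (pCore p G)]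
    exact sup_le hg hOP
  set π := QuotientGroup.mk' (pCore p G) with hπ
  have hs : Function.Surjective π := QuotientGroup.mk'_surjective (pCore p G)
  have hP' := isSylowOf_map_top hs hP
  have hb : P.map π ≠ ⊥ := fun hb => by
    rw [Subgroup.map_eq_bot_iff, QuotientGroup.ker_mk'] at hb
    exact hlt.not_ge (hb.trans hOA)
  obtain ⟨n, hn, h1⟩ := ih _ (card_quotient_lt hO) (hX2 G _ hX) _ hP' (A.map π) (map_mono hA) (π g)
    (by rw [← map_inv, ← map_cj]; exact map_mono hg)
  obtain ⟨n, rfl⟩ := hs n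
  set K := (centralizer (A.map π : Set (G ⧸ pCore p G))).comap π with hK
  have hKc : ∀ c ∈ K, ∀ a ∈ A, ⁅a, c⁆ ∈ pCore p G := fun c hc a ha => by
    rw [← QuotientGroup.eq_one_iff]
    show π ⁅a, c⁆ = 1
    rw [map_commutatorElement]
    exact commutatorElement_eq_one_iff_mul_comm.2 (hc _ (mem_map_of_mem π ha))
  have hKc' : ⁅A, K⁆ ≤ pCore p G := commutator_le.2 fun a ha c hc => hKc c hc a ha
  have hKN : K ≤ normalizer (A : Set G) := le_normalizer_iff_commutator_le_left.2 (hKc'.trans hOA)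
  have hc : g * n⁻¹ ∈ K := by
    rintro _ ⟨a, ha, rfl⟩
    have := h1 _ (mem_map_of_mem π ha)
    rw [map_mul, map_inv]
    calc π a * (π g * (π n)⁻¹) = π g * ((π g)⁻¹ * π a * π g) * (π n)⁻¹ := by group
      _ = _ := by rw [← this]; group
  have hcA : cj (g * n⁻¹)⁻¹ A = A := cj_eq_self_iff.2 (inv_mem (hKN hc))
  have hL : (normalizer (W _ (P.map π) : Set (G ⧸ pCore p G))).comap π ≠ ⊤ := fun he =>
    hW.ne_bot _ _ hP'.isP hb (eq_bot_iff.2 (by
      rw [← pCore_quotient_pCore (p := p)]
      refine le_pCore (normalizer_eq_top_iff.1 ?_) (hP'.isP.to_le (hW.le _ _))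
      rw [← map_comap_eq_self_of_surjective hs (normalizer _), he, map_top_of_surjective _ hs]))
  have h3 : Real M A n := hsub _ P hL (hP.of_le (map_le_iff_le_comap.1 (hW.le_normalizer _)) le_top)
    A hA n hn (by rwa [← hcA, ← cj_mul, show n⁻¹ * (g * n⁻¹)⁻¹ = g⁻¹ by group])
  have h4 : Real M A (g * n⁻¹) := by
    obtain ⟨R, hR, hle⟩ := exists_isSylowOf_ge (Q := P ⊓ normalizer (A : Set G))
      hP.isP.to_inf_left inf_le_right
    have hAU := lt_inf_normalizer hP.isP hlt
    obtain ⟨h, -, hh⟩ := hP.exists_cj_le hR.isP le_top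
    have h5 : Real M A h⁻¹ := (ihA' _ (card_lt_of_lt hAU) inf_le_left h⁻¹
      (by rw [inv_inv]; exact (cj_mono h hle).trans hh)).mono hAU.le
    have hRK : IsSylowOf p (R ⊓ K) K := hR.inf_of_le hKN (hR.le.trans (le_normalizer_comap' π
      ((le_normalizer_map' π le_rfl).trans (normalizer_le_normalizer_centralizer _))))
    have hKC : pResOf p K ≤ centralizer (A : Set G) := pResOf_le_iff.2 fun x hx ho => by
      have hAp := hP.isP.to_le hA
      have := Core.commutator_eq_bot_of_commutator_commutator_eq_bot (A := zpowers x) (K := A)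
        (zpowers_le.2 (hKN hx)) (coprime_card_card hAp (by rwa [Nat.card_zpowers])).symm
        (Or.inr (isSolvable_of_isPGroup' hAp)) (commutator_eq_bot_iff_le_centralizer.2
          (((commutator_mono le_rfl (zpowers_le.2 hx)).trans hKc').trans
            (le_centralizer_iff.1 (zpowers_le.2 (hres (mem_pResOf (mem_top x) ho))))))
      exact le_centralizer_iff.1 (commutator_eq_bot_iff_le_centralizer.1 this) (mem_zpowers x)
    obtain ⟨r, hr, c, hc', e⟩ := (mem_sup_of_le_normalizer_right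
      (inf_le_right.trans (le_normalizer_pResOf K))).1 (hRK.sup_pResOf ▸ hc)
    rw [← e]
    have hrA : cj r⁻¹ A = A := cj_eq_self_iff.2 (inv_mem (hR.le hr.1))
    refine Real.mul (Real.conj h5 (hrA.symm ▸ h5) (Real.of_mem _ (hPM (hh ?_)))) ?_
    · rw [inv_inv]; exact conj_mem_cj.2 hr.1
    · rw [hrA]; exact Real.of_centralizer _ (hKC hc')
  have h5 := h4.mul (hcA.symm ▸ h3)
  rwa [inv_mul_cancel_right] at h5

end

end Cfsg.Agent.PLoc
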