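import Cfsg.Agent.PLoc.Transfer

/-!
More transfer: Hall subgroups, central elements, Thompson's transfer lemma; Frattini subgroups of
`p`-groups; fixed point counting; Fitting's decomposition for abelian groups.
-/

set_option autoImplicit false

namespace Cfsg.Agent.PLoc

open Subgroup
open scoped commutatorElement Pointwise

variable {G : Type*} [Group G] {p : ℕ}

theorem focal_kernel [Finite G] (H : Subgroup G) (h : Nat.Coprime H.index (⁅H, H⁆.relIndex H)) :
    H.transferFocal.ker ⊓ H = H.focalSubgroup ∧ H.transferFocal.ker ⊔ H = ⊤ ∧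
      Function.Surjective H.transferFocal := by
  have hc : (Nat.card (H ⧸ H.focalSubgroupOf)).Coprime H.index :=
    h.symm.coprime_dvd_left (relIndex_dvd_of_le_left H H.commutator_le_focalSubgroup)
  have hpow : ∀ x : H, H.transferFocal x = powCoprime hc (x : H ⧸ H.focalSubgroupOf) :=
    fun x => H.transferFocal_eq_pow x
  have hsurj : ∀ y, ∃ x : H, H.transferFocal x = y := by
    intro y
    obtain ⟨z, rfl⟩ := (powCoprime hc).surjective y
    obtain ⟨x, rfl⟩ := QuotientGroup.mk_surjective z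
    exact ⟨x, hpow x⟩
  refine ⟨le_antisymm ?_ ?_, ?_, fun y => (hsurj y).elim fun x hx => ⟨x, hx⟩⟩
  · rintro x ⟨hx, hxH⟩
    have h1 : powCoprime hc ((⟨x, hxH⟩ : H) : H ⧸ H.focalSubgroupOf) = powCoprime hc 1 := by
      rw [← hpow]; simpa using hx
    exact (QuotientGroup.eq_one_iff (N := H.focalSubgroupOf) ⟨x, hxH⟩).mp
      ((powCoprime hc).injective h1)
  · intro x hx
    have hxH := H.focalSubgroup_le hx
    refine ⟨?_, hxH⟩
    have := hpow ⟨x, hxH⟩
    rw [(QuotientGroup.eq_one_iff (N := H.focalSubgroupOf) ⟨x, hxH⟩).mpr hx] at this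
    simpa using this
  · rw [eq_top_iff]
    intro g _
    obtain ⟨x, hx⟩ := hsurj (H.transferFocal g)
    have : g = (g * (x : G)⁻¹) * x := by group
    rw [this]
    exact mul_mem_sup (by simp [MonoidHom.mem_ker, hx]) x.2

open scoped IsMulCommutative in
theorem focal_eq_of_coprime [Finite G] (H : Subgroup G)
    (h : Nat.Coprime H.index (⁅H, H⁆.relIndex H)) :
    H.focalSubgroup = _root_.commutator G ⊓ H := by
  refine le_antisymm (le_inf H.focalSubgroup_le_commutator H.focalSubgroup_le) ?_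
  rw [← (focal_kernel H h).1]
  exact inf_le_inf_right _ (Abelianization.commutator_subset_ker H.transferFocal)

/-- transfer of a central element -/
theorem pow_index_mem_commutator [Finite G] {H : Subgroup G} {z : G} (hzH : z ∈ H)
    (hz : z ∈ center G) (hz' : z ∈ _root_.commutator G) : z ^ H.index ∈ ⁅H, H⁆ := by
  have h1 := MonoidHom.transfer_eq_pow (Abelianization.of (G := H)) z (fun k g _ => by
    rw [mul_assoc, ← mem_center_iff.mp (pow_mem hz k) g, inv_mul_cancel_left])
  rw [Abelianization.commutator_subset_ker _ hz'] at h1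
  have h2 := (QuotientGroup.eq_one_iff _).mp h1.symm
  rw [← map_subtype_commutator]
  exact ⟨_, h2, rfl⟩

theorem mem_commutator_of_central [Finite G] {H : Subgroup G} {z : G} (hzH : z ∈ H)
    (hz : z ∈ center G) (hz' : z ∈ _root_.commutator G) (hc : (Nat.card H).Coprime H.index) :
    z ∈ ⁅H, H⁆ :=
  mem_of_pow_mem_of_coprime (pow_index_mem_commutator hzH hz hz')
    (hc.coprime_dvd_left (orderOf_dvd_card_of_mem hzH))

theorem inf_commutator_inf_center_eq_bot [Finite G] {H : Subgroup G} (hH : IsMulCommutative H)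
    (hc : (Nat.card H).Coprime H.index) : H ⊓ _root_.commutator G ⊓ center G = ⊥ := by
  rw [eq_bot_iff, ← commutator_self_eq_bot_iff.mpr hH]
  exact fun z hz => mem_commutator_of_central hz.1.1 hz.2 hz.1.2 hc

/-! ### maximal subgroups and Frattini subgroups of `p`-groups -/

section

variable [Finite G] [hp : Fact p.Prime]

theorem index_eq_of_isCoatom (hG : IsPGroup p G) {M : Subgroup G} (hM : IsCoatom M) :
    M.index = p := by
  obtain ⟨m, hm⟩ := (hG.to_subgroup M).exists_card_eq
  obtain ⟨n, hn⟩ := hG.exists_card_eq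
  have hlt := card_lt_of_ne_top hM.1
  rw [hm, hn, Nat.pow_lt_pow_iff_right hp.out.one_lt] at hlt
  obtain ⟨K, hK, hMK⟩ := Sylow.exists_subgroup_card_pow_succ (G := G) (p := p) (n := m)
    (hn ▸ pow_dvd_pow p hlt) hm
  have : K = ⊤ := hM.2 K (lt_of_le_of_ne hMK fun e => by
    rw [← e, hm] at hK
    exact (Nat.pow_lt_pow_right hp.out.one_lt (Nat.lt_succ_self m)).ne hK)
  rw [this, card_top, ← M.card_mul_index, hm, pow_succ] at hK
  exact Nat.eq_of_mul_eq_mul_left (pow_pos hp.out.pos m) hK

theorem normal_of_isCoatom (hG : IsPGroup p G) {M : Subgroup G} (hM : IsCoatom M) : M.Normal :=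
  have := hG.isNilpotent
  NormalizerCondition.normal_of_coatom M Group.normalizerCondition_of_isNilpotent hM

omit [Finite G] in
theorem isCoatom_of_index_prime {M : Subgroup G} (hM : M.index = p) : IsCoatom M := by
  refine ⟨fun e => hp.out.ne_one (by rw [← hM, e, index_top]), fun K hK => ?_⟩
  have h1 := relIndex_mul_index hK.le
  rw [hM] at h1
  rcases (Nat.dvd_prime hp.out).mp ⟨_, h1.symm⟩ with h | h
  · exact absurd (relIndex_eq_one.mp h) hK.not_ge
  · rw [h] at h1
    exact index_eq_one.mp (Nat.eq_of_mul_eq_mul_left hp.out.pos (by rw [h1, mul_one]))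

theorem normal_of_index_prime (hG : IsPGroup p G) {M : Subgroup G} (hM : M.index = p) : M.Normal :=
  normal_of_isCoatom hG (isCoatom_of_index_prime hM)

omit [Finite G] in
theorem commutator_le_of_index_prime {M : Subgroup G} [M.Normal] (hM : M.index = p) :
    _root_.commutator G ≤ M := by
  have : IsCyclic (G ⧸ M) := isCyclic_of_prime_card hM
  exact Normal.quotient_commutative_iff_commutator_le.mp inferInstance

omit [Finite G] hp in
theorem mem_frattini_iff {x : G} : x ∈ frattini G ↔ ∀ M : Subgroup G, IsCoatom M → x ∈ M := by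
  simp [frattini, Order.radical, mem_iInf]

theorem commutator_le_frattini (hG : IsPGroup p G) : _root_.commutator G ≤ frattini G := by
  intro x hx
  rw [mem_frattini_iff]
  intro M hM
  have := normal_of_isCoatom hG hM
  exact commutator_le_of_index_prime (index_eq_of_isCoatom hG hM) hx

theorem pow_mem_frattini (hG : IsPGroup p G) (x : G) : x ^ p ∈ frattini G := by
  rw [mem_frattini_iff]
  intro M hM
  have := normal_of_isCoatom hG hM
  rw [← index_eq_of_isCoatom hG hM]
  exact M.pow_index_mem x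

omit [Finite G] hp in
/-- `Φ(H)` inside the ambient group -/
def frattiniOf (H : Subgroup G) : Subgroup G := (frattini H).map H.subtype

omit [Finite G] hp in
theorem frattiniOf_def (H : Subgroup G) : (frattini H).map H.subtype = frattiniOf H := rfl

omit [Finite G] hp in
theorem frattiniOf_le (H : Subgroup G) : frattiniOf H ≤ H := map_subtype_le _

theorem commutator_le_frattiniOf {P : Subgroup G} (hP : IsPGroup p P) : ⁅P, P⁆ ≤ frattiniOf P := by
  rw [← map_subtype_commutator]; exact map_mono (commutator_le_frattini hP)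

theorem pow_mem_frattiniOf {P : Subgroup G} (hP : IsPGroup p P) {x : G} (hx : x ∈ P) :
    x ^ p ∈ frattiniOf P := ⟨_, pow_mem_frattini hP ⟨x, hx⟩, rfl⟩

omit hp in
theorem eq_of_sup_frattiniOf {H K : Subgroup G} (hK : K ≤ H) (h : K ⊔ frattiniOf H = H) : K = H := by
  have : K.subgroupOf H ⊔ frattini H = ⊤ := by
    apply map_injective H.subtype_injective
    rw [Subgroup.map_sup, map_subgroupOf_eq_of_le hK, frattiniOf_def, h, ← MonoidHom.range_eq_map,
      range_subtype]
  exact le_antisymm hK (subgroupOf_eq_top.mp (frattini_nongenerating this))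

/-- in a `p`-group every proper subgroup lies in a normal subgroup of index `p` -/
theorem exists_index_prime_ge (hG : IsPGroup p G) {K : Subgroup G} (hK : K ≠ ⊤) :
    ∃ M : Subgroup G, K ≤ M ∧ M.Normal ∧ M.index = p := by
  obtain ⟨M, hM, hKM⟩ := (eq_top_or_exists_le_coatom K).resolve_left hK
  exact ⟨M, hKM, normal_of_isCoatom hG hM, index_eq_of_isCoatom hG hM⟩

theorem exists_relIndex_prime_ge {P K : Subgroup G} (hP : IsPGroup p P) (hK : K < P) :
    ∃ M : Subgroup G, K ≤ M ∧ M ≤ P ∧ P ≤ normalizer (M : Set G) ∧ M.relIndex P = p := by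
  obtain ⟨M, h1, h2, h3⟩ := exists_index_prime_ge hP (K := K.subgroupOf P)
    (by rw [Ne, subgroupOf_eq_top]; exact hK.not_ge)
  refine ⟨M.map P.subtype, ?_, map_subtype_le _, le_normalizer_map_subtype M, ?_⟩
  · rw [← map_subgroupOf_eq_of_le hK.le]; exact map_mono h1
  · rwa [relIndex, show (M.map P.subtype).subgroupOf P = M from
      comap_map_eq_self_of_injective P.subtype_injective _]

/-- the Frattini subgroup of a `p`-group is the smallest normal subgroup with elementary abelian
quotient -/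
theorem frattini_le_of (hG : IsPGroup p G) {N : Subgroup G} (h1 : _root_.commutator G ≤ N)
    (h2 : ∀ x : G, x ^ p ∈ N) : frattini G ≤ N := by
  intro x hx
  by_contra hxN
  obtain ⟨M, hNM, hM⟩ := Finite.exists_le_maximal (p := fun M : Subgroup G => x ∉ M) hxN
  have hMn : M.Normal := Normal.of_commutator_le G (h1.trans hNM)
  have hne : M ≠ ⊤ := fun e => hM.1 (e ▸ mem_top x)
  refine hM.1 (mem_frattini_iff.mp hx M ⟨hne, fun K hK => ?_⟩)
  -- `K` contains `x`; every element outside `M` generates `x` modulo `M`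
  have key : ∀ y, y ∉ M → x ∈ M ⊔ zpowers y := fun y hy => by
    by_contra h
    exact hy (hM.2 h le_sup_left (mem_sup_right (mem_zpowers y)))
  have key2 : ∀ y, y ∉ M → y ∈ M ⊔ zpowers x := fun y hy => by
    have h3 : M ⊔ zpowers x ≤ M ⊔ zpowers y := sup_le le_sup_left (zpowers_le.mpr (key y hy))
    have h4 : M.relIndex (M ⊔ zpowers y) ∣ p := by
      rw [relIndex_sup_left, ← card_map_mk, MonoidHom.map_zpowers, Nat.card_zpowers,
        orderOf_dvd_iff_pow_eq_one, ← map_pow]
      exact (QuotientGroup.eq_one_iff _).mpr (hNM (h2 y))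
    have h5 := relIndex_mul_relIndex M _ _ le_sup_left h3
    have h6 : M.relIndex (M ⊔ zpowers x) ≠ 1 := fun e =>
      hM.1 (relIndex_eq_one.mp e (mem_sup_right (mem_zpowers x)))
    rcases (Nat.dvd_prime hp.out).mp ((Dvd.intro _ h5).trans h4) with h | h
    · exact absurd h h6
    · rw [← h5, h] at h4
      have : (M ⊔ zpowers x).relIndex (M ⊔ zpowers y) = 1 :=
        Nat.eq_one_of_dvd_one (Nat.dvd_of_mul_dvd_mul_left hp.out.pos (by simpa using h4))
      exact relIndex_eq_one.mp this (mem_sup_right (mem_zpowers y))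
  have hxK : x ∈ K := by
    by_contra h
    exact hK.not_ge (hM.2 h hK.le)
  rw [eq_top_iff]
  intro y _
  by_cases hy : y ∈ M
  · exact hK.le hy
  · exact (sup_le hK.le (zpowers_le.mpr hxK)) (key2 y hy)

theorem frattiniOf_le_of {P N : Subgroup G} (hP : IsPGroup p P) (h1 : ⁅P, P⁆ ≤ N)
    (h2 : ∀ x ∈ P, x ^ p ∈ N) : frattiniOf P ≤ N := by
  refine map_le_iff_le_comap.mpr (frattini_le_of hP ?_ fun x => h2 x x.2)
  rw [← map_le_iff_le_comap, map_subtype_commutator]; exact h1

theorem frattiniOf_mono {P Q : Subgroup G} (hP : IsPGroup p P) (h : Q ≤ P) :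
    frattiniOf Q ≤ frattiniOf P :=
  frattiniOf_le_of (hP.to_le h) ((commutator_mono h h).trans (commutator_le_frattiniOf hP))
    fun _ hx => pow_mem_frattiniOf hP (h hx)

omit [Finite G] hp in
theorem map_frattini_equiv {G' : Type*} [Group G'] (e : G ≃* G') :
    (frattini G).map e.toMonoidHom = frattini G' := by
  refine le_antisymm (map_le_iff_le_comap.mpr (frattini_le_comap_frattini_of_surjective
    e.surjective)) fun x hx => ⟨e.symm x, ?_, by simp⟩
  exact frattini_le_comap_frattini_of_surjective (φ := e.symm.toMonoidHom) e.symm.surjective hx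

omit [Finite G] hp in
/-- images of characteristic subgroups are normalized by the normalizer -/
theorem normalizer_le_normalizer_map_subtype {H : Subgroup G} (K : Subgroup H)
    [hK : K.Characteristic] : normalizer (H : Set G) ≤ normalizer (K.map H.subtype : Set G) := by
  rw [le_normalizer_iff]
  rintro g hg _ ⟨k, hk, rfl⟩
  have := characteristic_iff_map_le.mp hK (H.normalizerMonoidHom ⟨g, hg⟩) ⟨k, hk, rfl⟩
  exact ⟨_, this, rfl⟩

omit [Finite G] hp in
theorem normalizer_le_normalizer_frattiniOf (H : Subgroup G) :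
    normalizer (H : Set G) ≤ normalizer (frattiniOf H : Set G) :=
  normalizer_le_normalizer_map_subtype _

omit [Finite G] hp in
theorem frattiniOf_top : frattiniOf (⊤ : Subgroup G) = frattini G :=
  map_frattini_equiv topEquiv

omit hp in
theorem frattiniOf_lt {H : Subgroup G} (h : H ≠ ⊥) : frattiniOf H < H :=
  lt_of_le_of_ne (frattiniOf_le H) fun e => h (eq_of_sup_frattiniOf bot_le (by simpa using e)).symm

/-! ### counting fixed points -/

/-- a `p`-group normalizing `V` has `|V| ≡ |C_V(A)|` -/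
theorem card_modEq_card_inf_centralizer {A V : Subgroup G} (hA : IsPGroup p A)
    (hAV : A ≤ normalizer (V : Set G)) :
    Nat.card V ≡ Nat.card (V ⊓ centralizer (A : Set G) : Subgroup G) [MOD p] := by
  let _ : MulAction A V := MulAction.compHom V (inclusion hAV)
  have := hA.card_modEq_card_fixedPoints V
  convert this using 1
  refine Nat.card_congr ⟨fun x => ⟨⟨x, x.2.1⟩, fun a => Subtype.ext ?_⟩,
    fun x => ⟨x.1, x.1.2, fun a ha => ?_⟩, fun _ => rfl, fun _ => rfl⟩
  · show (a : G) * x * (a : G)⁻¹ = x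
    rw [x.2.2 a a.2, mul_inv_cancel_right]
  · have : a * x.1 * a⁻¹ = x.1 := congrArg Subtype.val (x.2 ⟨a, ha⟩)
    exact mul_inv_eq_iff_eq_mul.mp this

theorem inf_centralizer_ne_bot {A V : Subgroup G} (hA : IsPGroup p A) (hV : IsPGroup p V)
    (hAV : A ≤ normalizer (V : Set G)) (h : V ≠ ⊥) : V ⊓ centralizer (A : Set G) ≠ ⊥ := by
  intro e
  have h1 := card_modEq_card_inf_centralizer hA hAV
  rw [e, card_bot] at h1
  rcases hV.card_eq_or_dvd with h2 | h2
  · exact h (card_eq_one.mp h2)
  · exact hp.out.ne_one (Nat.eq_one_of_dvd_one ((h1.dvd_iff dvd_rfl).mp h2))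

theorem inf_center_ne_bot (hG : IsPGroup p G) {N : Subgroup G} [N.Normal] (h : N ≠ ⊥) :
    N ⊓ center G ≠ ⊥ := by
  have := inf_centralizer_ne_bot (hG.to_subgroup ⊤) (hG.to_subgroup N) le_normalizer_of_normal h
  rwa [coe_top, centralizer_univ] at this

omit hp in
theorem le_of_forall_isPGroup {H K : Subgroup G}
    (h : ∀ q : ℕ, q.Prime → ∀ Q : Subgroup G, Q ≤ H → IsPGroup q Q → Q ≤ K) : H ≤ K := by
  rw [← relIndex_eq_one, ← inf_relIndex_right]
  by_contra hne
  obtain ⟨q, hq, hd⟩ := Nat.exists_prime_and_dvd hne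
  have := Fact.mk hq
  obtain ⟨Q, hQ⟩ := exists_isSylowOf q H
  exact hQ.not_dvd (hd.trans (relIndex_dvd_of_le_left _ (le_inf (h q hq Q hQ.le hQ.isP) hQ.le)))

omit hp in
theorem le_of_forall_prime_pow {H K : Subgroup G}
    (h : ∀ q : ℕ, q.Prime → ∀ x ∈ H, (∃ k, x ^ q ^ k = 1) → x ∈ K) : H ≤ K :=
  le_of_forall_isPGroup fun q hq _ hQ hQ' x hx => h q hq x (hQ hx) (isPGroup_iff_forall.mp hQ' x hx)

omit hp in
/-- an element of order prime to `p` lies in `K` if all its prime power parts for primes other than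
`p` do. -/
theorem mem_of_forall_prime_pow {K : Subgroup G} {g : G} (hg : (orderOf g).Coprime p)
    (h : ∀ q : ℕ, q.Prime → ¬ q ∣ p → ∀ x ∈ zpowers g, (∃ k, x ^ q ^ k = 1) → x ∈ K) : g ∈ K := by
  refine zpowers_le.mp (le_of_forall_prime_pow fun q hq x hx hx' => ?_)
  by_cases hqp : q ∣ p
  · obtain ⟨k, hk⟩ := hx'
    have h1 := orderOf_dvd_card_of_mem hx
    rw [Nat.card_zpowers] at h1
    rw [eq_one_of_isPGroup_of_coprime (isPGroup_zpowers hk) (mem_zpowers x)
      ((hg.coprime_dvd_left h1).coprime_dvd_right hqp)]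
    exact K.one_mem
  · exact h q hq hqp x hx hx'

/-- Thompson's transfer lemma -/
theorem thompson_transfer (P : Sylow 2 G) {Q : Subgroup G} (hQi : Q.relIndex (P : Subgroup G) = 2)
    {u : G} (hu : orderOf u = 2) (h : ∀ g : G, g * u * g⁻¹ ∉ Q) :
    ∃ M : Subgroup G, M.Normal ∧ M.index = 2 ∧ u ∉ M := by
  classical
  have hN : (Q.subgroupOf P).Normal := normal_of_index_eq_two hQi
  have hcard : Nat.card ((P : Subgroup G) ⧸ Q.subgroupOf P) = 2 := hQi
  have hcyc : IsCyclic ((P : Subgroup G) ⧸ Q.subgroupOf P) := isCyclic_of_prime_card hcard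
  let _ : CommGroup ((P : Subgroup G) ⧸ Q.subgroupOf P) := IsCyclic.commGroup
  obtain ⟨t, ht1, ht⟩ := (Nat.card_eq_two_iff' (1 : (P : Subgroup G) ⧸ Q.subgroupOf P)).mp hcard
  have ht2 : t ^ 2 = 1 := by simpa only [hcard] using pow_card_eq_one' (x := t)
  have hu2 : u ^ 2 = 1 := by rw [← hu, pow_orderOf_eq_one]
  let V := MonoidHom.transfer (QuotientGroup.mk' (Q.subgroupOf P))
  have hV : V u = t ^ (P : Subgroup G).index := by
    have := Fintype.ofFinite (Quotient (MulAction.orbitRel (zpowers u) (G ⧸ (P : Subgroup G))))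
    rw [MonoidHom.transfer_eq_prod_quotient_orbitRel_zpowers_quot, index_eq_sum_minimalPeriod _ u,
      ← Finset.prod_pow_eq_pow_sum]
    refine Finset.prod_congr rfl fun q _ => ?_
    have hd : Function.minimalPeriod (u • ·) q.out ∣ 2 := by
      rw [← MulAction.pow_smul_eq_iff_minimalPeriod_dvd, hu2, one_smul]
    rcases (Nat.dvd_prime Nat.prime_two).mp hd with e | e
    · simp only [e, pow_one]
      refine ht _ fun h1 => h (q.out.out⁻¹) ?_
      rw [inv_inv]
      exact (QuotientGroup.eq_one_iff (N := Q.subgroupOf P) _).mp h1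
    · simp only [e, ht2, hu2, mul_one, inv_mul_cancel]
      exact map_one _
  have hVu : V u ≠ 1 := by
    obtain ⟨k, hk⟩ := Nat.odd_iff.mpr (Nat.two_dvd_ne_zero.mp P.not_dvd_index)
    rw [hV, hk, pow_succ, pow_mul, ht2, one_pow, one_mul]
    exact ht1
  refine ⟨V.ker, inferInstance, ?_, hVu⟩
  rw [index_ker]
  rcases (Nat.dvd_prime Nat.prime_two).mp (hcard ▸ card_subgroup_dvd_card V.range) with e | e
  · exact absurd ((card_eq_one.mp e).le ⟨u, rfl⟩) hVu
  · exact e

end

/-! ### Fitting's decomposition -/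

open scoped IsMulCommutative in
theorem fitting_decomp [Finite G] {V A : Subgroup G} (hV : IsMulCommutative V)
    (hA : A ≤ normalizer (V : Set G))
    (hcop : ((centralizer (V : Set G)).relIndex A).Coprime (Nat.card V)) :
    (V ⊓ centralizer (A : Set G)) ⊓ ⁅V, A⁆ = ⊥ ∧ (V ⊓ centralizer (A : Set G)) ⊔ ⁅V, A⁆ = V := by
  classical
  let f : A →* MulAut V := V.normalizerMonoidHom.comp (inclusion hA)
  have hf : ∀ (a : A) (v : V), (f a v : G) = a * v * (a : G)⁻¹ := fun _ _ => rfl
  have hker : f.ker = (centralizer (V : Set G)).subgroupOf A := by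
    ext a
    rw [MonoidHom.mem_ker, mem_subgroupOf, mem_centralizer_iff]
    constructor
    · intro h v hv
      have := hf a ⟨v, hv⟩
      rw [h] at this
      exact eq_mul_inv_iff_mul_eq.mp this
    · intro h
      ext v
      rw [hf, ← h v v.2]; simp
  have hB : Nat.card f.range = (centralizer (V : Set G)).relIndex A := by
    rw [← index_ker, hker]; rfl
  have := Fintype.ofFinite f.range
  let ν : V →* V := ∏ b : f.range, (b : MulAut V).toMonoidHom
  have hν : ∀ v, ν v = ∏ b : f.range, (b : MulAut V) v := fun v => by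
    simp [ν, MonoidHom.finsetProd_apply]
  have h1 : ∀ (a : A) v, f a (ν v) = ν v := fun a v => by
    rw [hν, map_prod]
    exact Fintype.prod_equiv (Equiv.mulLeft ⟨f a, a, rfl⟩) _ _ fun b => rfl
  have h2 : ∀ (a : A) v, ν (f a v) = ν v := fun a v => by
    rw [hν, hν]
    exact Fintype.prod_equiv (Equiv.mulRight ⟨f a, a, rfl⟩) _ _ fun b => rfl
  have hle : ⁅V, A⁆ ≤ V := le_normalizer_iff_commutator_le_left.mp hA
  have h3 : ⁅V, A⁆ ≤ ν.ker.map V.subtype := by
    rw [commutator_le]
    intro v hv a ha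
    refine ⟨⟨v, hv⟩ * (f ⟨a, ha⟩ ⟨v, hv⟩)⁻¹, ?_, ?_⟩
    · rw [SetLike.mem_coe, MonoidHom.mem_ker, map_mul, map_inv, h2, mul_inv_cancel]
    · simp [hf, commutatorElement_def, mul_assoc]
  have h4 : ∀ v : V, ν v * (v ^ Nat.card f.range)⁻¹ ∈ ⁅V, A⁆.subgroupOf V := fun v => by
    rw [hν, Nat.card_eq_fintype_card, ← Finset.card_univ, ← Finset.prod_const,
      ← Finset.prod_inv_distrib, ← Finset.prod_mul_distrib]
    refine prod_mem fun b _ => ?_
    obtain ⟨_, a, rfl⟩ := b
    rw [mem_subgroupOf, commutator_comm]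
    exact commutator_mem_commutator a.2 v.2
  rw [← hB] at hcop
  constructor
  · rw [eq_bot_iff]
    rintro x ⟨⟨hx, hxC⟩, hx'⟩
    obtain ⟨v, hv, rfl⟩ := h3 hx'
    have h5 : ν v = v ^ Nat.card f.range := by
      rw [hν, Nat.card_eq_fintype_card, ← Finset.card_univ, ← Finset.prod_const]
      refine Finset.prod_congr rfl ?_
      rintro ⟨_, a, rfl⟩ _
      ext
      exact (hf a v).trans (mul_inv_eq_iff_eq_mul.mpr (hxC a a.2))
    rw [SetLike.mem_coe, MonoidHom.mem_ker, h5] at hv
    have : v = 1 := (powCoprime hcop.symm).injective (by simpa using hv)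
    simp [this]
  · refine le_antisymm (sup_le inf_le_left hle) fun x hx => ?_
    obtain ⟨v, hv⟩ := (powCoprime hcop.symm).surjective ⟨x, hx⟩
    have e : x = ν v * ((ν v * (v ^ Nat.card f.range)⁻¹ : V) : G)⁻¹ := by
      have : v ^ Nat.card f.range = ⟨x, hx⟩ := hv
      rw [this, ← coe_inv, ← coe_mul, mul_inv_rev, inv_inv, mul_comm' _ (ν v)⁻¹, mul_inv_cancel_left]
    rw [e]
    refine mul_mem_sup ⟨(ν v).2, fun a ha => ?_⟩ (inv_mem (h4 v))
    have := hf ⟨a, ha⟩ (ν v)
    rw [h1] at this
    exact (eq_mul_inv_iff_mul_eq.mp this).symm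

theorem fitting_decomp' [Finite G] {V A : Subgroup G} (hV : IsMulCommutative V)
    (hA : A ≤ normalizer (V : Set G)) (hcop : (Nat.card A).Coprime (Nat.card V)) :
    (V ⊓ centralizer (A : Set G)) ⊓ ⁅V, A⁆ = ⊥ ∧ (V ⊓ centralizer (A : Set G)) ⊔ ⁅V, A⁆ = V :=
  fitting_decomp hV hA (hcop.coprime_dvd_left (relIndex_dvd_card _ _))

/-- a coprime element acting quadratically acts trivially -/
theorem comm_of_commutator_comm {a k : G} {n : ℕ} (ha : a ^ n * k = k * a ^ n)
    (hc : a * ⁅a, k⁆ = ⁅a, k⁆ * a) (hcop : (orderOf ⁅a, k⁆).Coprime n) : a * k = k * a := by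
  have key : ∀ m : ℕ, a ^ m * k = ⁅a, k⁆ ^ m * k * a ^ m := by
    intro m
    induction m with
    | zero => simp
    | succ m ih =>
      have h1 : a * ⁅a, k⁆ ^ m = ⁅a, k⁆ ^ m * a := (Commute.pow_right hc m).eq
      calc a ^ (m + 1) * k = a * (a ^ m * k) := by rw [pow_succ', mul_assoc]
        _ = (a * ⁅a, k⁆ ^ m) * k * a ^ m := by rw [ih]; group
        _ = ⁅a, k⁆ ^ m * (⁅a, k⁆ * k * a) * a ^ m := by
          rw [h1, commutatorElement_def]; group
        _ = _ := by rw [pow_succ, pow_succ']; group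
  have h2 := key n
  rw [ha, mul_assoc, eq_comm, mul_eq_right] at h2
  have : ⁅a, k⁆ ∈ (⊥ : Subgroup G) := mem_of_pow_mem_of_coprime (by simp [h2]) hcop
  exact commutatorElement_eq_one_iff_mul_comm.mp (mem_bot.mp this)

end Cfsg.Agent.PLoc
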