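import Cfsg.Agent.PLoc.Thompson

/-!
Glauberman's replacement theorem.
-/

set_option autoImplicit false

namespace Cfsg.Agent.PLoc

open Subgroup
open scoped commutatorElement Pointwise

variable {G : Type*} [Group G] {p e : ℕ}

theorem commutatorElement_mul_left' (x y z : G) : ⁅x * y, z⁆ = x * ⁅y, z⁆ * x⁻¹ * ⁅x, z⁆ := by
  simp only [commutatorElement_def]; group

theorem commutatorElement_mul_right' (x y z : G) : ⁅x, y * z⁆ = ⁅x, y⁆ * (y * ⁅x, z⁆ * y⁻¹) := by
  simp only [commutatorElement_def]; group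

theorem commutatorElement_inv_left' (x y : G) : ⁅x⁻¹, y⁆ = x⁻¹ * ⁅x, y⁆⁻¹ * x := by
  simp only [commutatorElement_def]; group

theorem commutatorElement_inv_right' (x y : G) : ⁅x, y⁻¹⁆ = y⁻¹ * ⁅x, y⁆⁻¹ * y := by
  simp only [commutatorElement_def]; group

theorem commutator_closure_left_le {s : Set G} {K N : Subgroup G}
    (hs : closure s ≤ normalizer (N : Set G)) (h : ∀ x ∈ s, ∀ y ∈ K, ⁅x, y⁆ ∈ N) :
    ⁅closure s, K⁆ ≤ N := by
  refine commutator_le.2 fun x hx y hy => ?_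
  induction hx using closure_induction with
  | mem x hx => exact h x hx y hy
  | one => simp
  | mul x x' hx _ ih ih' =>
    rw [commutatorElement_mul_left']
    exact N.mul_mem (conj_mem_of_mem_normalizer (hs hx) ih') ih
  | inv x hx ih =>
    rw [commutatorElement_inv_left']
    exact conj_mem_of_mem_normalizer' (hs hx) (N.inv_mem ih)

theorem commutator_closure_right_le {t : Set G} {K N : Subgroup G}
    (ht : closure t ≤ normalizer (N : Set G)) (h : ∀ x ∈ K, ∀ y ∈ t, ⁅x, y⁆ ∈ N) :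
    ⁅K, closure t⁆ ≤ N := by
  rw [commutator_comm]
  refine commutator_closure_left_le ht fun x hx y hy => ?_
  rw [← commutatorElement_inv]
  exact N.inv_mem (h y hy x hx)

theorem commutator_closure_le {s t : Set G} {N : Subgroup G}
    (hs : closure s ≤ normalizer (N : Set G)) (ht : closure t ≤ normalizer (N : Set G))
    (h : ∀ x ∈ s, ∀ y ∈ t, ⁅x, y⁆ ∈ N) : ⁅closure s, closure t⁆ ≤ N := by
  refine commutator_closure_left_le hs fun x hx y hy => ?_
  induction hy using closure_induction with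
  | mem y hy => exact h x hx y hy
  | one => simp
  | mul y y' hy _ ih ih' =>
    rw [commutatorElement_mul_right']
    exact N.mul_mem ih (conj_mem_of_mem_normalizer (ht hy) ih')
  | inv y hy ih =>
    rw [commutatorElement_inv_right']
    exact conj_mem_of_mem_normalizer' (ht hy) (N.inv_mem ih)

theorem commutator_zpowers_right_le {K N : Subgroup G} {a : G} (ha : a ∈ normalizer (N : Set G))
    (h : ∀ x ∈ K, ⁅x, a⁆ ∈ N) : ⁅K, zpowers a⁆ ≤ N := by
  rw [zpowers_eq_closure]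
  refine commutator_closure_right_le ((closure_le _).2 (by simpa using ha)) fun x hx y hy => ?_
  rw [Set.mem_singleton_iff.1 hy]
  exact h x hx

theorem commutator_sup_left_le {A B K N : Subgroup G} (hA : A ≤ normalizer (N : Set G))
    (hB : B ≤ normalizer (N : Set G)) (h1 : ⁅A, K⁆ ≤ N) (h2 : ⁅B, K⁆ ≤ N) : ⁅A ⊔ B, K⁆ ≤ N := by
  rw [sup_eq_closure]
  refine commutator_closure_left_le (by rw [← sup_eq_closure]; exact sup_le hA hB) ?_
  rintro x (hx | hx) y hy
  · exact h1 (commutator_mem_commutator hx hy)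
  · exact h2 (commutator_mem_commutator hx hy)

theorem commutator_sup_right_le {A B K N : Subgroup G} (hA : A ≤ normalizer (N : Set G))
    (hB : B ≤ normalizer (N : Set G)) (h1 : ⁅K, A⁆ ≤ N) (h2 : ⁅K, B⁆ ≤ N) : ⁅K, A ⊔ B⁆ ≤ N := by
  rw [commutator_comm] at h1 h2 ⊢
  exact commutator_sup_left_le hA hB h1 h2

theorem commutator_iSup_right_le {ι : Sort*} {A : ι → Subgroup G} {K N : Subgroup G}
    (hA : ∀ i, A i ≤ normalizer (N : Set G)) (h : ∀ i, ⁅K, A i⁆ ≤ N) : ⁅K, ⨆ i, A i⁆ ≤ N := by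
  rw [iSup_eq_closure]
  refine commutator_closure_right_le (by rw [← iSup_eq_closure]; exact iSup_le hA) ?_
  intro x hx y hy
  obtain ⟨i, hi⟩ := Set.mem_iUnion.1 hy
  exact h i (commutator_mem_commutator hx hi)

theorem commutator_sSup_right_le {S : Set (Subgroup G)} {K N : Subgroup G}
    (hA : ∀ A ∈ S, A ≤ normalizer (N : Set G)) (h : ∀ A ∈ S, ⁅K, A⁆ ≤ N) : ⁅K, sSup S⁆ ≤ N := by
  rw [sSup_eq_iSup']
  exact commutator_iSup_right_le (fun i => hA i i.2) fun i => h i i.2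

theorem commutator_le_left' {A K : Subgroup G} (h : A ≤ normalizer (K : Set G)) : ⁅K, A⁆ ≤ K :=
  le_normalizer_iff_commutator_le_left.mp h

theorem commutator_le_right' {A K : Subgroup G} (h : A ≤ normalizer (K : Set G)) : ⁅A, K⁆ ≤ K := by
  rw [commutator_comm]; exact commutator_le_left' h

theorem le_normalizer_of_commutator_le {A K : Subgroup G} (h : ⁅K, A⁆ ≤ K) :
    A ≤ normalizer (K : Set G) := le_normalizer_iff_commutator_le_left.mpr h

theorem le_normalizer_of_commutator_le' {A K : Subgroup G} (h : ⁅A, K⁆ ≤ K) :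
    A ≤ normalizer (K : Set G) := le_normalizer_of_commutator_le (by rwa [commutator_comm])

theorem commute_of_commutator_eq_bot {A B : Subgroup G} (h : ⁅A, B⁆ = ⊥) {a b : G} (ha : a ∈ A)
    (hb : b ∈ B) : a * b = b * a :=
  (commutator_eq_bot_iff_le_centralizer.1 h ha b hb).symm

theorem commutator_eq_bot_of_le {A B A' B' : Subgroup G} (h : ⁅A, B⁆ = ⊥) (h1 : A' ≤ A)
    (h2 : B' ≤ B) : ⁅A', B'⁆ = ⊥ := eq_bot_iff.2 ((commutator_mono h1 h2).trans h.le)

/-- the three subgroups lemma modulo a subgroup normalized by all three -/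
theorem three_subgroups_le {A B C N : Subgroup G} (hA : A ≤ normalizer (N : Set G))
    (hB : B ≤ normalizer (N : Set G)) (hC : C ≤ normalizer (N : Set G))
    (h1 : ⁅⁅B, C⁆, A⁆ ≤ N) (h2 : ⁅⁅C, A⁆, B⁆ ≤ N) : ⁅⁅A, B⁆, C⁆ ≤ N := by
  rw [Subgroup.commutator_def A B]
  refine commutator_closure_left_le ?_ ?_
  · rw [← Subgroup.commutator_def]
    exact (commutator_mono hA hB).trans (commutator_le_left' le_normalizer)
  · rintro _ ⟨x, hx, y, hy, rfl⟩ z hz
    have e1 := h1 (commutator_mem_commutator (commutator_mem_commutator (B.inv_mem hy) hz) (A.inv_mem hx))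
    have e2 := h2 (commutator_mem_commutator (commutator_mem_commutator (C.inv_mem hz) (A.inv_mem hx)) hy)
    have : ⁅⁅x, y⁆, z⁆⁻¹ = (x * z) * ⁅⁅z⁻¹, x⁻¹⁆, y⁆ * (x * z)⁻¹ *
        ((x * y) * ⁅⁅y⁻¹, z⁆, x⁻¹⁆ * (x * y)⁻¹) := by
      simp only [commutatorElement_def]; group
    rw [← inv_mem_iff, this]
    exact N.mul_mem (conj_mem_of_mem_normalizer (mul_mem (hA hx) (hC hz)) e2)
      (conj_mem_of_mem_normalizer (mul_mem (hA hx) (hB hy)) e1)

theorem pow_mul_of_class_two {x y : G} (hy : Commute ⁅y, x⁆ y) (m : ℕ) :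
    y ^ m * x = ⁅y, x⁆ ^ m * x * y ^ m := by
  induction m with
  | zero => simp
  | succ m ih =>
    rw [pow_succ', mul_assoc, ih, ← mul_assoc, ← mul_assoc, ← (hy.pow_left m).eq, pow_succ]
    simp only [commutatorElement_def]; group

theorem commutatorElement_pow_left {x y : G} (hy : Commute ⁅y, x⁆ y) (m : ℕ) :
    ⁅y ^ m, x⁆ = ⁅y, x⁆ ^ m := by
  rw [commutatorElement_def, pow_mul_of_class_two hy]; group

theorem commutatorElement_pow_right {x y : G} (hx : Commute ⁅y, x⁆ x) (m : ℕ) :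
    ⁅y, x ^ m⁆ = ⁅y, x⁆ ^ m := by
  rw [← commutatorElement_inv, commutatorElement_pow_left, ← inv_pow, commutatorElement_inv]
  rw [← commutatorElement_inv]; exact hx.inv_left

theorem mul_pow_of_class_two {x y : G} (hx : Commute ⁅y, x⁆ x) (hy : Commute ⁅y, x⁆ y) (m : ℕ) :
    (x * y) ^ m = x ^ m * y ^ m * ⁅y, x⁆ ^ (m.choose 2) := by
  induction m with
  | zero => simp
  | succ m ih =>
    have c1 : ∀ j, Commute (⁅y, x⁆ ^ j) x := fun j => hx.pow_left j
    have c2 : ∀ i j, Commute (⁅y, x⁆ ^ j) (y ^ i) := fun i j => hy.pow_pow j i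
    rw [pow_succ, ih, Nat.choose_succ_succ', Nat.choose_one_right, pow_add _ m (m.choose _)]
    calc x ^ m * y ^ m * ⁅y, x⁆ ^ m.choose 2 * (x * y)
        = x ^ m * (y ^ m * x) * (⁅y, x⁆ ^ m.choose 2 * y ^ 1) := by
          rw [mul_assoc, ← mul_assoc (⁅y, x⁆ ^ _), (c1 _).eq]; simp only [mul_assoc, pow_one]
      _ = x ^ m * x * (⁅y, x⁆ ^ m * (y ^ m * y ^ 1)) * ⁅y, x⁆ ^ m.choose 2 := by
          rw [pow_mul_of_class_two hy, (c1 _).eq, (c2 _ _).eq]; simp only [mul_assoc]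
      _ = _ := by rw [← pow_add, (c2 _ _).eq, pow_succ x m]; simp only [mul_assoc]

/-! ### the commutator `[b, A]` -/

/-- `[b, A]` -/
def cmA (b : G) (A : Subgroup G) : Subgroup G := closure {g : G | ∃ a ∈ A, g = b⁻¹ * a * b * a⁻¹}

theorem cmA_eq (b : G) (A : Subgroup G) :
    closure {g : G | ∃ a ∈ A, g = a * b⁻¹ * a⁻¹ * b} = cmA b A := by
  refine le_antisymm ((closure_le _).2 ?_) ((closure_le _).2 ?_)
  · rintro _ ⟨a, ha, rfl⟩
    have : a * b⁻¹ * a⁻¹ * b = (b⁻¹ * a * b * a⁻¹)⁻¹ := by group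
    rw [SetLike.mem_coe, this]
    exact inv_mem (subset_closure ⟨a, ha, rfl⟩)
  · rintro _ ⟨a, ha, rfl⟩
    have : b⁻¹ * a * b * a⁻¹ = (a * b⁻¹ * a⁻¹ * b)⁻¹ := by group
    rw [SetLike.mem_coe, this]
    exact inv_mem (subset_closure ⟨a, ha, rfl⟩)

theorem mem_cmA {b a : G} {A : Subgroup G} (ha : a ∈ A) : b⁻¹ * a * b * a⁻¹ ∈ cmA b A :=
  subset_closure ⟨a, ha, rfl⟩

theorem cmA_le_iff {b : G} {A K : Subgroup G} :
    cmA b A ≤ K ↔ ∀ a ∈ A, b⁻¹ * a * b * a⁻¹ ∈ K :=
  (closure_le _).trans ⟨fun h a ha => h ⟨a, ha, rfl⟩, fun h _ ⟨a, ha, e⟩ => e ▸ h a ha⟩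

theorem cmA_le_commutator {b : G} {A B : Subgroup G} (hb : b ∈ B) : cmA b A ≤ ⁅B, A⁆ :=
  cmA_le_iff.2 fun a ha => by
    have := commutator_mem_commutator (B.inv_mem hb) ha
    rwa [commutatorElement_def, inv_inv] at this

theorem commutator_le_centralizer_commutator {A B : Subgroup G} (hc : ⁅⁅B, B⁆, A⁆ = ⊥) :
    ⁅⁅B, A⁆, ⁅B, B⁆⁆ = ⊥ := by
  refine commutator_commutator_eq_bot_of_rotate ?_ ?_
  · rw [commutator_comm A, hc, commutator_bot_left]
  · exact commutator_eq_bot_of_le hc (commutator_le_left' (normalizer_commutator_ge_left B B)) le_rfl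

theorem commutator_commutator_le_center {A B : Subgroup G} (hAB : A ≤ normalizer (B : Set G))
    (hc : ⁅⁅B, B⁆, A⁆ = ⊥) : ⁅⁅B, A⁆, ⁅B, A⁆⁆ ≤ B ⊓ centralizer (B : Set G) := by
  have h1 : ⁅B, A⁆ ≤ B := commutator_le_left' hAB
  have h2 := commutator_le_centralizer_commutator hc
  rw [commutator_comm] at h2
  refine le_inf ((commutator_mono h1 h1).trans (commutator_le_left' le_normalizer)) ?_
  rw [← commutator_eq_bot_iff_le_centralizer]
  exact commutator_commutator_eq_bot_of_rotate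
    (commutator_eq_bot_of_le h2 (commutator_mono h1 le_rfl) le_rfl)
    (commutator_eq_bot_of_le h2 (commutator_mono le_rfl h1) le_rfl)

theorem sq_eq_one_of_mem_commutator_cmA {A B : Subgroup G} (hAB : A ≤ normalizer (B : Set G))
    (hc : ⁅⁅B, B⁆, A⁆ = ⊥) (hA : IsMulCommutative A) {b : G} (hb : b ∈ B)
    (hq : ⁅⁅cmA b A, A⁆, A⁆ = ⊥) {w : G} (hw : w ∈ ⁅cmA b A, cmA b A⁆) : w ^ 2 = 1 := by
  have hMB : ⁅B, A⁆ ≤ B := commutator_le_left' hAB
  have hM : cmA b A ≤ ⁅B, A⁆ := cmA_le_commutator hb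
  have hZ := commutator_commutator_le_center hAB hc
  have hMB' := commutator_le_centralizer_commutator hc
  -- the key relation
  have key : ∀ u ∈ A, ∀ v ∈ A, ∀ x y g : G, x = b⁻¹ * u * b * u⁻¹ → y = b⁻¹ * v * b * v⁻¹ →
      g = ⁅u, y⁆ → (g ∈ B ∧ ∀ t ∈ A, g * (b⁻¹ * t * b * t⁻¹) = (b⁻¹ * t * b * t⁻¹) * g) ∧
        ⁅g, b⁆ = ⁅x, y⁆ := by
    intro u hu v hv x y g hx hy hg
    have hxM : x ∈ cmA b A := hx ▸ mem_cmA hu
    have hyM : y ∈ cmA b A := hy ▸ mem_cmA hv
    have hgq : g ∈ ⁅cmA b A, A⁆ := by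
      rw [commutator_comm, hg]; exact commutator_mem_commutator hu hyM
    have hgM : g ∈ ⁅B, A⁆ := commutator_mono (hM.trans hMB) le_rfl hgq
    have hgB := hMB hgM
    have hgA : ∀ t ∈ A, g * t = t * g := fun t ht => commute_of_commutator_eq_bot hq hgq ht
    have hcomm : ∀ t ∈ A, g * (b⁻¹ * t * b * t⁻¹) = (b⁻¹ * t * b * t⁻¹) * g := by
      intro t ht
      have e1 : ⁅b, g⁆ * t = t * ⁅b, g⁆ :=
        commute_of_commutator_eq_bot hc (commutator_mem_commutator hb hgB) ht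
      have e2 : g * (b⁻¹ * t * b) = b⁻¹ * t * b * g := by
        calc g * (b⁻¹ * t * b) = b⁻¹ * (⁅b, g⁆ * (g * t)) * b := by
              simp only [commutatorElement_def]; group
          _ = b⁻¹ * (t * ⁅b, g⁆ * g) * b := by rw [hgA t ht, ← mul_assoc ⁅b, g⁆, e1]
          _ = _ := by simp only [commutatorElement_def]; group
      rw [← mul_assoc, e2, mul_assoc _ g, hgA _ (A.inv_mem ht)]; group
    refine ⟨⟨hgB, hcomm⟩, ?_⟩
    have e1 : ⁅y, b⁆ * u = u * ⁅y, b⁆ :=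
      commute_of_commutator_eq_bot hc (commutator_mem_commutator (hMB (hM hyM)) hb) hu
    have e2 : u * ⁅y, b⁆ * u⁻¹ = ⁅g * y, b * x⁆ := by
      rw [hg, hx]; simp only [commutatorElement_def]; group
    have hyx := (hZ (commutator_mem_commutator (hM hyM) (hM hxM))).2
    have e3 : ⁅g, x⁆ = 1 := commutatorElement_eq_one_iff_mul_comm.2 (hx ▸ hcomm u hu)
    have e4 : g * ⁅y, b⁆ = ⁅y, b⁆ * g :=
      commute_of_commutator_eq_bot hMB' hgM (commutator_mem_commutator (hMB (hM hyM)) hb)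
    rw [← e1, mul_inv_cancel_right, commutatorElement_mul_right', commutatorElement_mul_left',
      commutatorElement_mul_left', e3, mul_one, e4, hyx g hgB, mul_inv_cancel_right,
      mul_inv_cancel_right, hyx b hb, mul_inv_cancel_right, mul_assoc, left_eq_mul,
      mul_eq_one_iff_eq_inv, commutatorElement_inv] at e2
    exact e2
  have hW : ⁅cmA b A, cmA b A⁆ ≤ omegaOne 2 (B ⊓ centralizer (B : Set G)) := by
    have hn : cmA b A ≤ normalizer (omegaOne 2 (B ⊓ centralizer (B : Set G)) : Set G) :=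
      ((hM.trans hMB).trans (le_normalizer_inf le_normalizer
        (le_normalizer_centralizer le_normalizer))).trans (normalizer_le_normalizer_omegaOne _)
    refine commutator_closure_le hn hn ?_
    rintro _ ⟨u, hu, rfl⟩ _ ⟨v, hv, rfl⟩
    set x := b⁻¹ * u * b * u⁻¹ with hx
    set y := b⁻¹ * v * b * v⁻¹ with hy
    obtain ⟨⟨h1, h2⟩, h3⟩ := key u hu v hv x y _ hx hy rfl
    obtain ⟨⟨h4, h5⟩, h6⟩ := key v hv u hu y x _ hy hx rfl
    have hxM : x ∈ cmA b A := mem_cmA hu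
    have hyM : y ∈ cmA b A := mem_cmA hv
    refine mem_omegaOne (hZ (commutator_mem_commutator (hM hxM) (hM hyM))) ?_
    have e1 : x * ⁅u, y⁆ * y = y * ⁅v, x⁆ * x := by
      have := comm_of_mem hA hu hv
      calc x * ⁅u, y⁆ * y = b⁻¹ * (u * v) * b * (u * v)⁻¹ := by
            rw [hx, hy]; simp only [commutatorElement_def]; group
        _ = b⁻¹ * (v * u) * b * (v * u)⁻¹ := by rw [this]
        _ = _ := by rw [hx, hy]; simp only [commutatorElement_def]; group
    have e2 : ⁅v, x⁆ = ⁅x⁻¹, y⁻¹⁆ * ⁅u, y⁆ := by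
      have a1 := h2 v hv
      have a2 := h5 u hu
      rw [← hy] at a1
      rw [← hx] at a2
      rw [mul_assoc, a1, mul_assoc y, a2] at e1
      calc ⁅v, x⁆ = x⁻¹ * y⁻¹ * (y * (x * ⁅v, x⁆)) := by group
        _ = _ := by rw [← e1, commutatorElement_def x⁻¹]; group
    have hz := (hZ (commutator_mem_commutator (hM (inv_mem hxM)) (hM (inv_mem hyM)))).2
    rw [e2, commutatorElement_mul_left', h3, commutatorElement_eq_one_iff_mul_comm.2 (hz b hb).symm,
      mul_one, ← hz _ (hZ (commutator_mem_commutator (hM hxM) (hM hyM))).1,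
      mul_inv_cancel_right] at h6
    rw [sq]
    nth_rewrite 1 [h6]
    rw [← commutatorElement_inv x y, inv_mul_cancel]
  exact (isEA_omegaOne (isMulCommutative_inf_centralizer B)).2 w (hW hw)

/-! ### replacement -/

/-- the replacement `A* = (A ∩ A^b)[A, b]` -/
def repl (b : G) (A : Subgroup G) : Subgroup G := (A ⊓ cj b⁻¹ A) ⊔ cmA b A

/-- the set-up of Glauberman's replacement theorem -/
structure ReplSetup (A B N : Subgroup G) (b : G) : Prop where
  comm : IsMulCommutative A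
  AN : A ≤ N
  NA : N ≤ normalizer (A : Set G)
  NB : N ≤ normalizer (B : Set G)
  BA : ⁅B, B⁆ ≤ A
  bB : b ∈ B
  bN : b ∈ normalizer (N : Set G)
  odd : IsMulCommutative B ∨ ∀ w ∈ B, w ^ 2 = 1 → w = 1

namespace ReplSetup

variable {A B N : Subgroup G} {b : G}

theorem cjN (h : ReplSetup A B N b) : cj b⁻¹ A ≤ N :=
  cj_le_of_mem_normalizer h.AN (inv_mem h.bN)

theorem N_cj (h : ReplSetup A B N b) : N ≤ normalizer (cj b⁻¹ A : Set G) := by
  rw [← cj_normalizer, ← cj_eq_self_iff.2 (inv_mem h.bN)]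
  exact cj_mono _ h.NA

theorem conj_mem (_h : ReplSetup A B N b) {a : G} (ha : a ∈ A) : b⁻¹ * a * b ∈ cj b⁻¹ A := by
  rw [mem_cj]; simpa [mul_assoc] using ha

theorem cmA_le_sup (h : ReplSetup A B N b) : cmA b A ≤ A ⊔ cj b⁻¹ A :=
  cmA_le_iff.2 fun _ ha => mul_mem (mem_sup_right (h.conj_mem ha)) (mem_sup_left (inv_mem ha))

theorem cmA_le_B (h : ReplSetup A B N b) : cmA b A ≤ B :=
  (cmA_le_commutator h.bB).trans (commutator_le_left' (h.AN.trans h.NB))

theorem repl_le_sup (h : ReplSetup A B N b) : repl b A ≤ A ⊔ cj b⁻¹ A :=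
  sup_le (inf_le_left.trans le_sup_left) h.cmA_le_sup

theorem repl_le (h : ReplSetup A B N b) : repl b A ≤ N := h.repl_le_sup.trans (sup_le h.AN h.cjN)

theorem inf_le_centralizer (h : ReplSetup A B N b) :
    A ⊓ cj b⁻¹ A ≤ centralizer ((A ⊔ cj b⁻¹ A : Subgroup G) : Set G) := by
  rw [centralizer_sup']
  exact inf_le_inf (le_centralizer_self h.comm) (le_centralizer_self (isMulCommutative_cj _ h.comm))

theorem commutator_sup_le (h : ReplSetup A B N b) :
    ⁅A ⊔ cj b⁻¹ A, A ⊔ cj b⁻¹ A⁆ ≤ A ⊓ cj b⁻¹ A := by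
  have h1 : A ≤ normalizer ((A ⊓ cj b⁻¹ A : Subgroup G) : Set G) :=
    le_normalizer_inf le_normalizer (h.AN.trans h.N_cj)
  have h2 : cj b⁻¹ A ≤ normalizer ((A ⊓ cj b⁻¹ A : Subgroup G) : Set G) :=
    le_normalizer_inf (h.cjN.trans h.NA) le_normalizer
  have h3 : ⁅A, cj b⁻¹ A⁆ ≤ A ⊓ cj b⁻¹ A :=
    le_inf (commutator_le_left' (h.cjN.trans h.NA)) (commutator_le_right' (h.AN.trans h.N_cj))
  refine commutator_sup_left_le h1 h2 (commutator_sup_right_le h1 h2 ?_ h3)
    (commutator_sup_right_le h1 h2 (by rwa [commutator_comm]) ?_)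
  · rw [commutator_self_eq_bot h.comm]; exact bot_le
  · rw [commutator_self_eq_bot (isMulCommutative_cj _ h.comm)]; exact bot_le

theorem comm_cmA (h : ReplSetup A B N b) : IsMulCommutative (cmA b A) := by
  rcases h.odd with h1 | h1
  · exact isMulCommutative_of_le h1 h.cmA_le_B
  · refine isMulCommutative_of_commutator (eq_bot_iff.2 fun w hw => mem_bot.2 (h1 w ?_ ?_))
    · exact (commutator_mono h.cmA_le_B h.cmA_le_B).trans (commutator_le_left' le_normalizer) hw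
    · refine sq_eq_one_of_mem_commutator_cmA (h.AN.trans h.NB)
        (commutator_eq_bot_of_le (commutator_self_eq_bot h.comm) h.BA le_rfl) h.comm h.bB ?_ hw
      refine commutator_eq_bot_of_le (commutator_self_eq_bot h.comm) ?_ le_rfl
      exact ((commutator_mono h.cmA_le_sup le_sup_left).trans h.commutator_sup_le).trans inf_le_left

theorem comm_repl (h : ReplSetup A B N b) : IsMulCommutative (repl b A) :=
  isMulCommutative_sup (isMulCommutative_of_le h.comm inf_le_left) h.comm_cmA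
    (h.inf_le_centralizer.trans (centralizer_anti h.cmA_le_sup))

theorem conj_mem_inf (h : ReplSetup A B N b) {x t : G} (hx : x ∈ A ⊓ B) (ht : t ∈ B) :
    t * x * t⁻¹ ∈ A := by
  have : t * x * t⁻¹ = ⁅t, x⁆ * x := by rw [commutatorElement_def]; group
  rw [this]
  exact mul_mem (h.BA (commutator_mem_commutator ht hx.2)) hx.1

theorem inf_le_inf_cj (h : ReplSetup A B N b) : A ⊓ B ≤ A ⊓ cj b⁻¹ A := fun x hx =>
  mem_inf.2 ⟨hx.1, by rw [mem_cj, inv_inv]; exact h.conj_mem_inf hx h.bB⟩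

theorem inf_le_repl (h : ReplSetup A B N b) : A ⊓ B ≤ repl b A := h.inf_le_inf_cj.trans le_sup_left

theorem BB_le (h : ReplSetup A B N b) : ⁅B, B⁆ ≤ repl b A :=
  (le_inf h.BA (commutator_le_left' le_normalizer)).trans h.inf_le_repl

theorem mem_inf_iff (h : ReplSetup A B N b) {a : G} (ha : a ∈ A) :
    a ∈ A ⊓ cj b⁻¹ A ↔ b⁻¹ * a * b * a⁻¹ ∈ A := by
  have hB : b⁻¹ * a * b * a⁻¹ ∈ B := h.cmA_le_B (mem_cmA ha)
  constructor
  · intro h1
    have h2 : b * a * b⁻¹ ∈ A := by simpa [mem_cj] using h1.2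
    have h3 : b * a * b⁻¹ * a⁻¹ ∈ A ⊓ B := by
      refine mem_inf.2 ⟨mul_mem h2 (inv_mem ha), ?_⟩
      have := conj_mem_of_mem_normalizer (le_normalizer h.bB) (B.inv_mem hB)
      convert this using 1; group
    have := h.conj_mem_inf (inv_mem h3) (inv_mem h.bB)
    convert this using 1; group
  · intro h1
    refine mem_inf.2 ⟨ha, ?_⟩
    rw [mem_cj, inv_inv]
    have := mul_mem (h.conj_mem_inf (inv_mem (show _ ∈ A ⊓ B from ⟨h1, hB⟩)) h.bB) ha
    convert this using 1; group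

theorem b_mem [Finite G] (h : ReplSetup A B N b) : b ∈ normalizer (repl b A : Set G) := by
  refine inv_mem_iff.1 (mem_normalizer_of_cj_le ?_)
  rw [repl, cj_sup]
  refine sup_le (cj_le_iff'.2 fun x hx => mem_sup_left (mem_inf.2 ⟨?_, ?_⟩)) (cj_le_iff'.2 fun x hx => ?_)
  · have := mul_mem ((h.mem_inf_iff hx.1).1 hx) hx.1
    simpa using this
  · rw [conj_mem_cj]; exact hx.1
  · have : b⁻¹ * x * b⁻¹⁻¹ = ⁅b⁻¹, x⁆ * x := by rw [commutatorElement_def]; group
    rw [this]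
    exact mul_mem (h.BB_le (commutator_mem_commutator (inv_mem h.bB) (h.cmA_le_B hx)))
      (mem_sup_right hx)

theorem N_le [Finite G] (h : ReplSetup A B N b) : N ≤ normalizer (repl b A : Set G) := by
  intro n hn
  refine mem_normalizer_of_cj_le ?_
  rw [repl, cj_sup]
  refine sup_le (le_sup_left.trans' (cj_eq_self_iff.2 (mem_normalizer_inf (h.NA hn) (h.N_cj hn))).le) ?_
  refine cj_le_iff.2 (cmA_le_iff.2 fun a ha => ?_)
  rw [mem_cj, inv_inv]
  have ha' := conj_mem_of_mem_normalizer (h.NA hn) ha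
  have htB : b⁻¹ * n * b * n⁻¹ ∈ B := by
    have := mul_mem (inv_mem h.bB) (conj_mem_of_mem_normalizer (h.NB hn) h.bB)
    simpa [mul_assoc] using this
  have htN : b⁻¹ * n * b * n⁻¹ ∈ N := mul_mem (conj_mem_of_mem_normalizer' h.bN hn) (inv_mem hn)
  set t := b⁻¹ * n * b * n⁻¹ with ht
  set a' := n * a * n⁻¹ with ha'e
  have e : n * (b⁻¹ * a * b * a⁻¹) * n⁻¹ =
      ⁅t⁻¹, b⁻¹ * a' * b * a'⁻¹⁆ * (b⁻¹ * a' * b * a'⁻¹) * (t⁻¹ * a' * t * a'⁻¹) := by
    rw [ht, ha'e, commutatorElement_def]; group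
  rw [e]
  refine mul_mem (mul_mem (h.BB_le (commutator_mem_commutator (inv_mem htB)
    (h.cmA_le_B (mem_cmA ha')))) (mem_sup_right (mem_cmA ha'))) (h.inf_le_repl (mem_inf.2 ⟨?_, ?_⟩))
  · exact mul_mem (conj_mem_of_mem_normalizer' (h.NA htN) ha') (inv_mem ha')
  · have := mul_mem (inv_mem htB) (conj_mem_of_mem_normalizer (h.NB (h.AN ha')) htB)
    simpa [mul_assoc] using this

theorem inf_lt [Finite G] (h : ReplSetup A B N b) (hb : b ∉ normalizer (A : Set G)) :
    A ⊓ B < repl b A ⊓ B := by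
  refine lt_of_le_of_ne (le_inf h.inf_le_repl inf_le_right) fun he => hb ?_
  refine inv_mem_iff.1 (mem_normalizer_of_conj_mem fun a ha => ?_)
  have : b⁻¹ * a * b * a⁻¹ ∈ A ⊓ B := he ▸ ⟨mem_sup_right (mem_cmA ha), h.cmA_le_B (mem_cmA ha)⟩
  simpa using mul_mem this.1 ha

theorem not_le (h : ReplSetup A B N b) (hb : b ∉ normalizer (A : Set G)) : ¬ B ≤ repl b A :=
  fun hle => hb (h.NA (h.repl_le (hle h.bB)))

theorem pow_eq_one (h : ReplSetup A B N b) {n : ℕ} (hn : Odd n ∨ n = 0)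
    (hA : ∀ a ∈ A, a ^ n = 1) : ∀ x ∈ repl b A, x ^ n = 1 := by
  rcases hn with ⟨k, rfl⟩ | rfl
  swap
  · intro x _; exact pow_zero x
  have h1 : ∀ x ∈ cmA b A, x ^ (2 * k + 1) = 1 := by
    intro x hx
    refine pow_eq_one_of_mem_closure h.comm_cmA ?_ hx
    rintro _ ⟨a, ha, rfl⟩
    set u := b⁻¹ * a * b with hu
    have hu' : u ∈ cj b⁻¹ A := h.conj_mem ha
    have hz : ⁅a⁻¹, u⁆ ∈ A ⊓ cj b⁻¹ A := h.commutator_sup_le
      (commutator_mem_commutator (mem_sup_left (inv_mem ha)) (mem_sup_right hu'))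
    have hz1 := h.inf_le_centralizer hz _ (mem_sup_left (inv_mem ha))
    have hz2 := h.inf_le_centralizer hz _ (mem_sup_right hu')
    have hun : u ^ (2 * k + 1) = 1 := by
      have := conj_pow (a := b⁻¹) (b := a) (i := 2 * k + 1)
      rw [inv_inv] at this
      rw [hu, this, hA a ha]; simp
    have hch : (2 * k + 1).choose 2 = (2 * k + 1) * k := by
      rw [Nat.choose_two_right, Nat.add_sub_cancel, ← mul_assoc, mul_comm _ 2, mul_assoc,
        Nat.mul_div_cancel_left _ two_pos]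
    rw [mul_pow_of_class_two hz2.symm hz1.symm, hun, inv_pow, hA a ha, hch, pow_mul, hA _ hz.1]
    simp
  intro x hx
  obtain ⟨y, hy, z, hz, rfl⟩ := (mem_sup_of_le_normalizer_right
    ((h.inf_le_centralizer.trans (centralizer_anti h.cmA_le_sup)).trans
      (centralizer_le_normalizer _))).1 hx
  have : Commute y z := comm_of_mem h.comm_repl (mem_sup_left hy) (mem_sup_right hz)
  rw [this.mul_pow, hA y hy.1, h1 z hz, one_mul]

theorem card_repl [Finite G] (h : ReplSetup A B N b) : Nat.card (repl b A) = Nat.card A := by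
  set D := A ⊓ cj b⁻¹ A with hD
  have hDR : D ≤ repl b A := le_sup_left
  have := h.comm_repl
  let _ : CommGroup (repl b A) := { (inferInstance : Group (repl b A)) with mul_comm := mul_comm' }
  have hmem : ∀ a : A, b⁻¹ * a * b * (a : G)⁻¹ ∈ repl b A := fun a => mem_sup_right (mem_cmA a.2)
  let f : A →* repl b A ⧸ D.subgroupOf (repl b A) :=
    MonoidHom.mk' (fun a => QuotientGroup.mk ⟨_, hmem a⟩) (by
      intro u v
      rw [← QuotientGroup.mk_mul, QuotientGroup.eq, mem_subgroupOf]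
      have hz : ⁅(u : G), b⁻¹ * v * b * (v : G)⁻¹⁆ ∈ D := h.commutator_sup_le
        (commutator_mem_commutator (mem_sup_left u.2) (h.cmA_le_sup (mem_cmA v.2)))
      have := conj_mem_of_mem_normalizer'
        ((h.repl_le.trans (le_normalizer_inf h.NA h.N_cj)) (hmem v)) (D.inv_mem hz)
      convert this using 1
      simp only [coe_mul, coe_inv, commutatorElement_def]; group)
  have hker : f.ker = D.subgroupOf A := by
    ext a
    rw [MonoidHom.mem_ker, mem_subgroupOf]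
    refine (QuotientGroup.eq_one_iff (N := D.subgroupOf (repl b A)) ⟨_, hmem a⟩).trans ?_
    rw [mem_subgroupOf]
    constructor
    · intro h1; exact (h.mem_inf_iff a.2).2 h1.1
    · intro h1
      exact h.inf_le_inf_cj ⟨(h.mem_inf_iff a.2).1 h1, h.cmA_le_B (mem_cmA a.2)⟩
  have hsurj : f.range = ⊤ := by
    have h1 : repl b A ≤ (f.range.comap (QuotientGroup.mk' _)).map (repl b A).subtype := by
      refine sup_le (fun x hx => ⟨⟨x, hDR hx⟩, ?_, rfl⟩) (cmA_le_iff.2 fun a ha =>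
        ⟨⟨_, hmem ⟨a, ha⟩⟩, ⟨⟨a, ha⟩, rfl⟩, rfl⟩)
      have : (QuotientGroup.mk' (D.subgroupOf (repl b A))) ⟨x, hDR hx⟩ = 1 :=
        (QuotientGroup.eq_one_iff _).2 hx
      rw [SetLike.mem_coe, mem_comap, this]
      exact one_mem _
    refine eq_top_iff.2 fun y _ => ?_
    obtain ⟨x, rfl⟩ := QuotientGroup.mk_surjective y
    obtain ⟨z, hz, e⟩ := h1 x.2
    rwa [← Subtype.ext e]
  have h1 := index_ker f
  rw [hker, hsurj, card_top] at h1
  rw [← card_mul_relIndex hDR, ← card_mul_relIndex (inf_le_left : D ≤ A)]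
  exact congrArg _ h1.symm

end ReplSetup

theorem exists_repl_elem [Finite G] [Fact p.Prime] {S A B : Subgroup G} (hS : IsPGroup p S)
    (hBS : B ≤ S) (hSB : S ≤ normalizer (B : Set G)) (hnot : ¬ B ≤ normalizer (A : Set G)) :
    ∃ b ∈ B, b ∈ normalizer ((S ⊓ normalizer (A : Set G) : Subgroup G) : Set G) ∧
      b ∉ normalizer (A : Set G) := by
  have hlt : S ⊓ normalizer (A : Set G) < (S ⊓ normalizer (A : Set G)) ⊔ B :=
    lt_of_le_of_ne le_sup_left fun he => hnot ((le_sup_right.trans he.ge).trans inf_le_right)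
  obtain ⟨x, hx, hxN, hx'⟩ := exists_mem_normalizer_not_mem (hS.to_le (sup_le inf_le_left hBS)) hlt
  obtain ⟨n, hn, b, hb, rfl⟩ := (mem_sup_of_le_normalizer_right (inf_le_left.trans hSB)).1 hx
  refine ⟨b, hb, ?_, fun h => hx' (mul_mem hn ⟨hBS hb, h⟩)⟩
  simpa using mul_mem (inv_mem (le_normalizer hn)) hxN

theorem eq_one_of_sq_of_isPGroup [hp : Fact p.Prime] (h2 : p ≠ 2) {S : Subgroup G}
    (hS : IsPGroup p S) {w : G} (hw : w ∈ S) (h : w ^ 2 = 1) : w = 1 :=
  eq_one_of_isPGroup_of_coprime hS hw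
    (((Nat.coprime_primes Nat.prime_two hp.out).2 h2.symm).coprime_dvd_left (orderOf_dvd_of_pow_eq_one h))

/-- Glauberman's replacement theorem for the Thompson families of a normal subgroup `D` of `S` -/
theorem exists_replacement [Finite G] [hp : Fact p.Prime] (h2 : p ≠ 2) (he : Odd e ∨ e = 0)
    {S D A B : Subgroup G} (hS : IsPGroup p S) (hSD : S ≤ normalizer (D : Set G)) (hDS : D ≤ S)
    (hBS : B ≤ S) (hSB : S ≤ normalizer (B : Set G)) (hA : A ∈ maxEA e D) (hBA : ⁅B, B⁆ ≤ A)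
    (hnot : ¬ B ≤ normalizer (A : Set G)) :
    ∃ A' ∈ maxEA e D, ⁅B, B⁆ ≤ A' ∧ A ⊓ B < A' ⊓ B ∧ ¬ B ≤ A' ∧ A' ≤ normalizer (A : Set G) := by
  obtain ⟨b, hb, hbN, hbA⟩ := exists_repl_elem hS hBS hSB hnot
  have h : ReplSetup A B (S ⊓ normalizer (A : Set G)) b :=
    ⟨hA.2.1.1, le_inf (hA.1.trans hDS) le_normalizer, inf_le_right, inf_le_left.trans hSB, hBA, hb,
      hbN, Or.inr fun w hw => eq_one_of_sq_of_isPGroup h2 hS (hBS hw)⟩
  refine ⟨repl b A, mem_maxEA_of_card hA ?_ ⟨h.comm_repl, h.pow_eq_one he hA.2.1.2⟩ h.card_repl.ge,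
    h.BB_le, h.inf_lt hbA, h.not_le hbA, h.repl_le.trans inf_le_right⟩
  exact h.repl_le_sup.trans (sup_le hA.1 (cj_le_of_mem_normalizer hA.1 (hSD (inv_mem (hBS hb)))))

end Cfsg.Agent.PLoc
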