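import Cfsg.Agent.PLoc.SL2

/-!
Two quadratic elements generating a non-`p`-group: a homomorphism onto a subgroup of `SL(2, K)`
generated by two transvections.
-/

set_option autoImplicit false

namespace Cfsg.Agent.PLoc

open Subgroup Polynomial
open scoped commutatorElement Pointwise MatrixGroups Matrix

section Lin

variable {K W G : Type*} [Field K] [AddCommGroup W] [Module K W] [Group G] {p : ℕ}

theorem exists_SL2_hom_of_eigen (σ : G →* Module.End K W) {a b : G}
    (hgen : Subgroup.closure {a, b} = ⊤) (ha : (σ a - 1) * (σ a - 1) = 0)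
    (hb : (σ b - 1) * (σ b - 1) = 0) {ν : K} (hν : ν ≠ 0) {w : W} (hw : w ≠ 0)
    (hz : ((σ a - 1) * (σ b - 1) + (σ b - 1) * (σ a - 1)) w = ν • w) :
    ∃ (ι : (Fin 2 → K) →ₗ[K] W) (φ : G →* SL(2, K)), Function.Injective ι ∧ φ a = upT ν ∧
      φ b = loT 1 ∧ ∀ g x, σ g (ι x) = ι ((φ g : Matrix (Fin 2) (Fin 2) K) *ᵥ x) := by
  set α := σ a - 1 with hα
  set β := σ b - 1 with hβ
  have ha' : ∀ x, α (α x) = 0 := fun x => congrArg (fun f : Module.End K W => f x) ha
  have hb' : ∀ x, β (β x) = 0 := fun x => congrArg (fun f : Module.End K W => f x) hb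
  have hz' : α (β w) + β (α w) = ν • w := hz
  obtain ⟨u, hu0, hu1, hu2⟩ : ∃ u, u ≠ 0 ∧ α u = 0 ∧ α (β u) = ν • u := by
    by_cases h : α w = 0
    · refine ⟨w, hw, h, ?_⟩
      rwa [h, map_zero, add_zero] at hz'
    · refine ⟨α w, h, ha' w, ?_⟩
      have := congrArg α hz'
      rwa [map_add, ha', zero_add, map_smul] at this
  let ι : (Fin 2 → K) →ₗ[K] W :=
    { toFun := fun x => x 0 • u + x 1 • β u
      map_add' := fun x y => by simp only [Pi.add_apply, add_smul]; abel
      map_smul' := fun c x => by simp only [Pi.smul_apply, smul_eq_mul, RingHom.id_apply, smul_add, mul_smul] }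
  have hι : ∀ x, ι x = x 0 • u + x 1 • β u := fun _ => rfl
  have hinj : Function.Injective ι := by
    rw [injective_iff_map_eq_zero]
    intro x hx
    have h1 := congrArg α hx
    rw [hι, map_add, map_smul, map_smul, hu1, hu2, smul_zero, zero_add, map_zero, smul_smul,
      smul_eq_zero] at h1
    have h2 : x 1 = 0 := (mul_eq_zero.1 (h1.resolve_right hu0)).resolve_right hν
    rw [hι, h2, zero_smul, add_zero, smul_eq_zero] at hx
    ext i
    fin_cases i
    · exact hx.resolve_right hu0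
    · exact h2
  let Rel : G → SL(2, K) → Prop := fun g M => ∀ x, σ g (ι x) = ι ((M : Matrix (Fin 2) (Fin 2) K) *ᵥ x)
  have huniq : ∀ g M M', Rel g M → Rel g M' → M = M' := fun g M M' h h' =>
    Subtype.ext (Matrix.ext_iff_mulVec.2 fun x => hinj ((h x).symm.trans (h' x)))
  have hmul : ∀ g h M M', Rel g M → Rel h M' → Rel (g * h) (M * M') := fun g h M M' h1 h2 x => by
    rw [map_mul, Module.End.mul_apply, h2, h1, Matrix.mulVec_mulVec]; rfl
  have hσa : ∀ x, σ a x = x + α x := fun x => by simp [hα]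
  have hσb : ∀ x, σ b x = x + β x := fun x => by simp [hβ]
  have hRa : Rel a (upT ν) := fun x => by
    rw [hσa, hι, hι, map_add, map_smul, map_smul, hu1, hu2]
    simp [upT, Matrix.mulVec, dotProduct, Fin.sum_univ_two, add_smul, smul_smul, mul_comm]
    abel
  have hRb : Rel b (loT 1) := fun x => by
    rw [hσb, hι, hι, map_add, map_smul, map_smul, hb']
    simp [loT, Matrix.mulVec, dotProduct, Fin.sum_univ_two, add_smul]
    abel
  have hex : ∀ g, ∃ M, Rel g M := by
    intro g
    have hg : g ∈ Subgroup.closure {a, b} := hgen ▸ mem_top g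
    induction hg using closure_induction with
    | mem x hx =>
      rcases hx with rfl | rfl
      · exact ⟨_, hRa⟩
      · exact ⟨_, hRb⟩
    | one => exact ⟨1, fun x => by simp⟩
    | mul x y _ _ h1 h2 =>
      obtain ⟨M, hM⟩ := h1
      obtain ⟨M', hM'⟩ := h2
      exact ⟨_, hmul _ _ _ _ hM hM'⟩
    | inv g _ h1 =>
      obtain ⟨M, hM⟩ := h1
      refine ⟨M⁻¹, fun x => ?_⟩
      have := hM (((M⁻¹ : SL(2, K)) : Matrix (Fin 2) (Fin 2) K) *ᵥ x)
      rw [Matrix.mulVec_mulVec, ← Matrix.SpecialLinearGroup.coe_mul, mul_inv_cancel,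
        Matrix.SpecialLinearGroup.coe_one, Matrix.one_mulVec] at this
      rw [← this, ← Module.End.mul_apply, ← map_mul, inv_mul_cancel, map_one, Module.End.one_apply]
  choose f hf using hex
  exact ⟨ι, MonoidHom.mk' f fun g h => huniq _ _ _ (hf _) (hmul _ _ _ _ (hf g) (hf h)), hinj,
    huniq _ _ _ (hf a) hRa, huniq _ _ _ (hf b) hRb, hf⟩

theorem exists_eigen_ne_one [FiniteDimensional K W] (c : Module.End K W) {f : K[X]} (hf : f.Splits)
    (hf0 : f ≠ 0) (h : aeval c f = 0) (hn : ¬ IsNilpotent (c - 1)) :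
    ∃ l : K, l ≠ 1 ∧ ∃ w, w ≠ 0 ∧ c w = l • w := by
  by_contra hcon
  push Not at hcon
  have hm := minpoly.monic (Algebra.IsIntegral.isIntegral (R := K) c)
  have hs := (hf.of_dvd hf0 (minpoly.dvd K c h)).eq_prod_roots_of_monic hm
  have hr : (minpoly K c).roots = Multiset.replicate _ 1 := Multiset.eq_replicate_card.2 fun l hl => by
    by_contra hl1
    obtain ⟨w, hw⟩ := (Module.End.hasEigenvalue_of_isRoot
      ((mem_roots hm.ne_zero).1 hl)).exists_hasEigenvector
    exact hcon l hl1 w hw.2 hw.apply_eq_smul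
  have := minpoly.aeval K c
  rw [hs, hr, Multiset.map_replicate, Multiset.prod_replicate, map_pow, map_sub, aeval_X, aeval_C,
    map_one] at this
  exact hn ⟨_, this⟩

theorem isNilpotent_of_quad_pair (σ : G →* Module.End K W) {a b : G}
    (hgen : Subgroup.closure {a, b} = ⊤) (ha : (σ a - 1) * (σ a - 1) = 0)
    (hb : (σ b - 1) * (σ b - 1) = 0)
    (hz : IsNilpotent ((σ a - 1) * (σ b - 1) + (σ b - 1) * (σ a - 1))) (g : G) :
    IsNilpotent (σ g - 1) := by
  set α := σ a - 1 with hα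
  set β := σ b - 1 with hβ
  set z := α * β + β * α with hzd
  let F : ℕ → Submodule K W := fun n => Nat.rec ⊤ (fun _ U => U.map α ⊔ U.map β) n
  have hF : ∀ n, F (n + 1) = (F n).map α ⊔ (F n).map β := fun _ => rfl
  have hanti : ∀ n, F (n + 1) ≤ F n := by
    intro n
    induction n with
    | zero => exact le_top
    | succ n ih => rw [hF (n + 1), hF n]; exact sup_le_sup (Submodule.map_mono ih) (Submodule.map_mono ih)
  have hmap : ∀ (f g : Module.End K W) (U : Submodule K W), (U.map g).map f = U.map (f * g) :=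
    fun f g U => (Submodule.map_comp g f U).symm
  have h3 : ∀ n, F (n + 3) = (F (n + 1)).map z := by
    intro n
    have e1 : α * (β * α) = z * α := by rw [hzd, add_mul, mul_assoc β, ha, mul_zero, add_zero, mul_assoc]
    have e2 : β * (α * β) = z * β := by rw [hzd, add_mul, mul_assoc α, hb, mul_zero, zero_add, mul_assoc]
    rw [hF (n + 2), hF (n + 1), hF n]
    simp only [Submodule.map_sup, hmap, ha, hb, ← mul_assoc, mul_zero, zero_mul]
    simp only [mul_assoc, ha, hb, mul_zero, e1, e2, Submodule.map_zero, bot_sup_eq, sup_bot_eq]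
  have h4 : ∀ j, F (2 * j + 1) = (F 1).map (z ^ j) := by
    intro j
    induction j with
    | zero => simp [Module.End.one_eq_id]
    | succ j ih => rw [show 2 * (j + 1) + 1 = 2 * j + 3 by ring, h3, ih, hmap, pow_succ']
  have hP : ∀ g : G, ∀ n, ∀ w ∈ F n, σ g w - w ∈ F (n + 1) := by
    intro g
    have hg : g ∈ Subgroup.closure {a, b} := hgen ▸ mem_top g
    have hinv : ∀ (c : G), (σ c - 1) * (σ c - 1) = 0 → ∀ w, σ c⁻¹ w - w = -((σ c - 1) w) := by
      intro c hc w
      have : σ c⁻¹ = 1 - (σ c - 1) := by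
        have h1 : σ c * (1 - (σ c - 1)) = 1 := by
          calc σ c * (1 - (σ c - 1)) = 1 - (σ c - 1) * (σ c - 1) := by noncomm_ring
            _ = 1 := by rw [hc, sub_zero]
        calc σ c⁻¹ = σ c⁻¹ * (σ c * (1 - (σ c - 1))) := by rw [h1, mul_one]
          _ = _ := by rw [← mul_assoc, ← map_mul, inv_mul_cancel, map_one, one_mul]
      rw [this]; simp
    induction hg using closure_induction'' with
    | mem x hx =>
      intro n w hw
      rcases hx with rfl | rfl
      · exact Submodule.mem_sup_left (Submodule.mem_map_of_mem (f := α) hw)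
      · exact Submodule.mem_sup_right (Submodule.mem_map_of_mem (f := β) hw)
    | inv_mem x hx =>
      intro n w hw
      rcases hx with rfl | rfl
      · rw [hinv _ ha]
        exact neg_mem (Submodule.mem_sup_left (Submodule.mem_map_of_mem (f := α) hw))
      · rw [hinv _ hb]
        exact neg_mem (Submodule.mem_sup_right (Submodule.mem_map_of_mem (f := β) hw))
    | one => intro n w _; simp
    | mul x y _ _ h1 h2 =>
      intro n w hw
      have e : σ (x * y) w - w = (σ x (σ y w) - σ y w) + (σ y w - w) := by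
        rw [map_mul, Module.End.mul_apply]; abel
      rw [e]
      refine add_mem (h1 n _ ?_) (h2 n w hw)
      simpa using add_mem (hanti n (h2 n w hw)) hw
  obtain ⟨j, hj⟩ := hz
  have h5 : ∀ n w, ((σ g - 1) ^ n) w ∈ F n := by
    intro n w
    induction n with
    | zero => trivial
    | succ n ih => rw [pow_succ', Module.End.mul_apply]; exact hP g n _ ih
  refine ⟨2 * j + 1, LinearMap.ext fun w => ?_⟩
  have := h5 (2 * j + 1) w
  rwa [h4, hj, Submodule.map_zero, Submodule.mem_bot] at this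

theorem exists_SL2_hom_of_not_nilpotent [Fintype K] [Fact p.Prime] [CharP K p]
    [FiniteDimensional K W] (σ : G →* Module.End K W) {a b : G}
    (hgen : Subgroup.closure {a, b} = ⊤) (ha : (σ a - 1) * (σ a - 1) = 0)
    (hb : (σ b - 1) * (σ b - 1) = 0) {e k : ℕ} (hk : σ (a * b) ^ (p ^ e * k) = 1)
    (hk2 : k ∣ Fintype.card K - 1) {g : G} (hg : ¬ IsNilpotent (σ g - 1)) :
    ∃ ν : K, ν ≠ 0 ∧ ∃ (ι : (Fin 2 → K) →ₗ[K] W) (φ : G →* SL(2, K)), Function.Injective ι ∧
      φ a = upT ν ∧ φ b = loT 1 ∧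
      ∀ g x, σ g (ι x) = ι ((φ g : Matrix (Fin 2) (Fin 2) K) *ᵥ x) := by
  set c := σ (a * b) with hc
  set c' := σ (a * b)⁻¹ with hc'
  have hcc : c' * c = 1 := by rw [hc, hc', ← map_mul, inv_mul_cancel, map_one]
  have hinv : ∀ (x : G), (σ x - 1) * (σ x - 1) = 0 → σ x⁻¹ = 1 - (σ x - 1) := by
    intro x hx
    have h1 : σ x * (1 - (σ x - 1)) = 1 := by
      calc σ x * (1 - (σ x - 1)) = 1 - (σ x - 1) * (σ x - 1) := by noncomm_ring
        _ = 1 := by rw [hx, sub_zero]
    calc σ x⁻¹ = σ x⁻¹ * (σ x * (1 - (σ x - 1))) := by rw [h1, mul_one]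
      _ = _ := by rw [← mul_assoc, ← map_mul, inv_mul_cancel, map_one, one_mul]
  have hz : (σ a - 1) * (σ b - 1) + (σ b - 1) * (σ a - 1) = c + c' - (1 + 1) := by
    rw [hc', mul_inv_rev, map_mul, hinv a ha, hinv b hb, hc, map_mul]; noncomm_ring
  have hn : ¬ IsNilpotent (c - 1) := fun hn => by
    refine hg (isNilpotent_of_quad_pair σ hgen ha hb ?_ g)
    have hcc' : c * c' = 1 := by rw [hc, hc', ← map_mul, mul_inv_cancel, map_one]
    have : c + c' - (1 + 1) = (c' * (c - 1)) * (c - 1) := by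
      calc c + c' - (1 + 1) = (c' * c) * c + c' - (c' * c + c' * c) := by rw [hcc, one_mul]
        _ = _ := by noncomm_ring
    rw [hz, this]
    refine Commute.isNilpotent_mul_left ?_ hn
    refine Commute.mul_left (Commute.sub_right ?_ (Commute.one_right _)) (Commute.refl _)
    exact hcc.trans hcc'.symm
  have hq : 1 < Fintype.card K := Fintype.one_lt_card
  have hs : (X ^ Fintype.card K - X : K[X]).Splits := by
    rw [splits_iff_card_roots, FiniteField.roots_X_pow_card_sub_X,
      FiniteField.X_pow_card_sub_X_natDegree_eq K hq]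
    rfl
  obtain ⟨l, hl1, w, hw, hcw⟩ := exists_eigen_ne_one c (hs.pow (p ^ e))
    (pow_ne_zero _ (FiniteField.X_pow_card_sub_X_ne_zero K hq)) (by
      obtain ⟨m, hm⟩ := hk2
      rw [sub_pow_char_pow, ← pow_mul, map_sub, aeval_X_pow, aeval_X_pow,
        show Fintype.card K = k * m + 1 by omega, add_mul, one_mul, pow_add,
        show k * m * p ^ e = p ^ e * k * m by ring, pow_mul, hk, one_pow, one_mul, sub_self]) hn
  have hl0 : l ≠ 0 := fun h => hw (by
    rw [h, zero_smul] at hcw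
    calc w = (c' * c) w := by rw [hcc]; rfl
      _ = 0 := by rw [Module.End.mul_apply, hcw, map_zero])
  have hcw' : c' w = l⁻¹ • w := by
    have : c' (c w) = w := by rw [← Module.End.mul_apply, hcc]; rfl
    rw [hcw, map_smul] at this
    rw [eq_inv_smul_iff₀ hl0, this]
  have hν : l + l⁻¹ - 2 ≠ 0 := fun h => hl1 (by
    have : (l - 1) ^ 2 = 0 := by field_simp at h; linear_combination h
    exact sub_eq_zero.1 (pow_eq_zero_iff two_ne_zero |>.1 this))
  refine ⟨_, hν, exists_SL2_hom_of_eigen σ hgen ha hb hν hw ?_⟩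
  rw [hz, LinearMap.sub_apply, LinearMap.add_apply, hcw, hcw', sub_smul, add_smul,
    LinearMap.add_apply, Module.End.one_apply, two_smul]

theorem pow_eq_one_of_isNilpotent [Fact p.Prime] [CharP K p] {c : Module.End K W}
    (h : IsNilpotent (c - 1)) : ∃ k, c ^ p ^ k = 1 := by
  obtain ⟨n, hn⟩ := h
  refine ⟨n, ?_⟩
  have h1 : aeval c ((X - 1 : K[X]) ^ p ^ n) = 0 := by
    rw [map_pow, map_sub, aeval_X, map_one]
    exact pow_eq_zero_of_le (Nat.lt_pow_self (Fact.out : p.Prime).one_lt).le hn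
  rwa [sub_pow_char_pow, one_pow, map_sub, aeval_X_pow, map_one, sub_eq_zero] at h1

end Lin

theorem closure_pair_eq_top {G : Type*} [Group G] {H : Subgroup G} {a b : H}
    (h : H = Subgroup.closure {(a : G), (b : G)}) : Subgroup.closure {a, b} = ⊤ := by
  apply map_injective H.subtype_injective
  rw [MonoidHom.map_closure, map_top_subtype', Set.image_pair]
  exact h.symm

theorem exists_matrix_rep_aux {M : Type*} [AddCommGroup M] [Finite M] {p : ℕ} [Fact p.Prime]
    [Module (ZMod p) M] : ∃ (n : ℕ) (ε : (Fin n → ZMod p) ≃+ M)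
      (ρ : AddMonoid.End M →* Matrix (Fin n) (Fin n) (ZMod p)), ∀ f x, f (ε x) = ε (ρ f *ᵥ x) := by
  have : Module.Finite (ZMod p) M := Module.Finite.of_finite
  let b := Module.finBasis (ZMod p) M
  let τ : AddMonoid.End M →* Module.End (ZMod p) M :=
    { toFun := fun f => AddMonoidHom.toZModLinearMap p f
      map_one' := by ext; rfl
      map_mul' := fun f g => by ext; rfl }
  refine ⟨_, b.equivFun.symm.toAddEquiv, (LinearMap.toMatrixAlgEquiv b).toMonoidHom.comp τ, ?_⟩
  intro f x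
  obtain ⟨v, rfl⟩ := b.equivFun.surjective x
  have : LinearMap.toMatrixAlgEquiv b (τ f) *ᵥ b.equivFun v = b.equivFun (τ f v) := by
    rw [Module.Basis.equivFun_apply, Module.Basis.equivFun_apply]
    exact LinearMap.toMatrix_mulVec_repr b b _ v
  change f (b.equivFun.symm (b.equivFun v)) =
    b.equivFun.symm (LinearMap.toMatrixAlgEquiv b (τ f) *ᵥ b.equivFun v)
  rw [this, LinearEquiv.symm_apply_apply, LinearEquiv.symm_apply_apply]
  rfl

theorem exists_matrix_rep_aux' {V : Type*} [CommGroup V] [Finite V] {p : ℕ} [Fact p.Prime]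
    (hV : ∀ x : V, x ^ p = 1) : ∃ (n : ℕ) (ε : Multiplicative (Fin n → ZMod p) ≃* V)
      (ρ : MulAut V →* Matrix (Fin n) (Fin n) (ZMod p)),
      ∀ f x, f (ε (Multiplicative.ofAdd x)) = ε (Multiplicative.ofAdd (ρ f *ᵥ x)) := by
  let _ : Module (ZMod p) (Additive V) := AddCommGroup.zmodModule fun x => hV x.toMul
  obtain ⟨n, ε, ρ, h⟩ := exists_matrix_rep_aux (M := Additive V) (p := p)
  let τ : MulAut V →* AddMonoid.End (Additive V) :=
    { toFun := fun f => MonoidHom.toAdditive f.toMonoidHom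
      map_one' := by ext; rfl
      map_mul' := fun f g => by ext; rfl }
  exact ⟨n, AddEquiv.toMultiplicativeLeft ε, ρ.comp τ, fun f x => h (τ f) x⟩

/-- coordinates for the action on an elementary abelian subgroup -/
theorem exists_matrix_rep {G : Type*} [Group G] [Finite G] {p : ℕ} [Fact p.Prime] {V : Subgroup G}
    (hV : IsElementaryAbelian p V) :
    ∃ (n : ℕ) (ε : Multiplicative (Fin n → ZMod p) →* G)
      (ρ : normalizer (V : Set G) →* Matrix (Fin n) (Fin n) (ZMod p)),
      Function.Injective ε ∧ ε.range = V ∧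
      ∀ (g : normalizer (V : Set G)) x,
        g * ε (Multiplicative.ofAdd x) * (g : G)⁻¹ = ε (Multiplicative.ofAdd (ρ g *ᵥ x)) := by
  have := hV.1
  let _ : CommGroup V := { (inferInstance : Group V) with mul_comm := mul_comm' }
  obtain ⟨n, ε, ρ, h⟩ := exists_matrix_rep_aux' (V := V) (p := p) fun x => Subtype.ext (hV.2 x x.2)
  refine ⟨n, V.subtype.comp ε.toMonoidHom, ρ.comp V.normalizerMonoidHom,
    V.subtype_injective.comp ε.injective, ?_,
    fun g x => congrArg Subtype.val (h (V.normalizerMonoidHom g) x)⟩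
  rw [MonoidHom.range_comp, MonoidHom.range_eq_top.2 ε.surjective, map_top_subtype']

theorem quad_matrix {G : Type*} [Group G] {p n : ℕ} {V : Subgroup G}
    {ε : Multiplicative (Fin n → ZMod p) →* G} (hε : Function.Injective ε) (hV : ε.range = V)
    {a : G} {M : Matrix (Fin n) (Fin n) (ZMod p)}
    (h : ∀ x, a * ε (Multiplicative.ofAdd x) * a⁻¹ = ε (Multiplicative.ofAdd (M *ᵥ x)))
    (hq : ⁅⁅V, zpowers a⁆, zpowers a⁆ = ⊥) : (M - 1) * (M - 1) = 0 := by
  refine Matrix.ext_iff_mulVec.2 fun x => ?_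
  have h1 : ⁅a, ε (Multiplicative.ofAdd x)⁆ = ε (Multiplicative.ofAdd ((M - 1) *ᵥ x)) := by
    rw [commutatorElement_def, h, Matrix.sub_mulVec, Matrix.one_mulVec, ofAdd_sub, _root_.map_div,
      div_eq_mul_inv]
  have h2 : ⁅a, ε (Multiplicative.ofAdd x)⁆ ∈ ⁅V, zpowers a⁆ := by
    rw [commutator_comm]
    exact commutator_mem_commutator (mem_zpowers a) (hV ▸ ⟨_, rfl⟩)
  have h3 := commute_of_commutator_eq_bot hq h2 (mem_zpowers a)
  have h4 := h ((M - 1) *ᵥ x)
  rw [← h1, ← h3, mul_inv_cancel_right, h1] at h4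
  rw [← Matrix.mulVec_mulVec, Matrix.sub_mulVec, Matrix.one_mulVec, Matrix.zero_mulVec, sub_eq_zero]
  exact (Multiplicative.ofAdd.injective (hε h4)).symm

/-- the main lemma on a pair of quadratic elements -/
theorem exists_SL2_of_quad {G : Type*} [Group G] [Finite G] {p : ℕ} [hp : Fact p.Prime]
    {V H : Subgroup G} (hV : IsElementaryAbelian p V) (hHV : H ≤ normalizer (V : Set G)) {a b : H}
    (hH : H = Subgroup.closure {(a : G), (b : G)})
    (ha : ⁅⁅V, zpowers (a : G)⁆, zpowers (a : G)⁆ = ⊥)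
    (hb : ⁅⁅V, zpowers (b : G)⁆, zpowers (b : G)⁆ = ⊥)
    (hnp : ¬ pResOf p H ≤ centralizer (V : Set G)) :
    ∃ (m : ℕ) (ν : GaloisField p m) (φ : H →* SL(2, GaloisField p m))
      (θ : Multiplicative (Fin 2 → GaloisField p m) →* G), ν ≠ 0 ∧ φ a = upT ν ∧ φ b = loT 1 ∧
      (∀ h : H, (h : G) ∈ centralizer (V : Set G) → φ h = 1) ∧ θ.range ≤ V ∧
      θ (Multiplicative.ofAdd ![1, 0]) ≠ 1 ∧ ∀ (h : H) x, h * θ (Multiplicative.ofAdd x) * (h : G)⁻¹ =
        θ (Multiplicative.ofAdd ((φ h : Matrix (Fin 2) (Fin 2) (GaloisField p m)) *ᵥ x)) := by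
  obtain ⟨n, ε, ρ, hε, hεV, hρ⟩ := exists_matrix_rep hV
  obtain ⟨e, k, hk, hek⟩ := Nat.exists_eq_pow_mul_and_not_dvd (orderOf_pos (a * b)).ne' p hp.out.ne_one
  have hk0 : 0 < k := Nat.pos_of_ne_zero fun h => hk (h ▸ dvd_zero p)
  set m := Nat.totient k with hm
  have hm0 : m ≠ 0 := (Nat.totient_pos.2 hk0).ne'
  set K := GaloisField p m with hK
  let _ : Fintype K := Fintype.ofFinite K
  have hk2 : k ∣ Fintype.card K - 1 := by
    rw [← Nat.card_eq_fintype_card, GaloisField.card p m hm0]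
    exact (Nat.modEq_iff_dvd' (Nat.one_le_pow _ _ hp.out.pos)).1
      (Nat.ModEq.pow_totient (hp.out.coprime_iff_not_dvd.2 hk)).symm
  let Φ : Matrix (Fin n) (Fin n) (ZMod p) →+* Module.End K (Fin n → K) :=
    (Matrix.toLinAlgEquiv' (R := K) (n := Fin n)).toRingEquiv.toRingHom.comp
      (algebraMap (ZMod p) K).mapMatrix
  have hΦ : ∀ M w, Φ M w = M.map (algebraMap (ZMod p) K) *ᵥ w := fun _ _ => rfl
  have hΦi : Function.Injective Φ := (Matrix.toLinAlgEquiv' (R := K) (n := Fin n)).injective.comp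
    (Matrix.map_injective (algebraMap (ZMod p) K).injective)
  let ρ' : H →* Matrix (Fin n) (Fin n) (ZMod p) := ρ.comp (inclusion hHV)
  have hρ' : ∀ (g : H) x, g * ε (Multiplicative.ofAdd x) * (g : G)⁻¹ =
      ε (Multiplicative.ofAdd (ρ' g *ᵥ x)) := fun g x => hρ (inclusion hHV g) x
  let σ : H →* Module.End K (Fin n → K) := Φ.toMonoidHom.comp ρ'
  have hσ : ∀ g, σ g = Φ (ρ' g) := fun _ => rfl
  have hq : ∀ c : H, ⁅⁅V, zpowers (c : G)⁆, zpowers (c : G)⁆ = ⊥ → (σ c - 1) * (σ c - 1) = 0 := by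
    intro c hc
    rw [hσ, ← map_one Φ, ← map_sub, ← map_mul, quad_matrix hε hεV (hρ' c) hc, map_zero]
  have hker : ∀ g : H, σ g = 1 ↔ (g : G) ∈ centralizer (V : Set G) := by
    intro g
    rw [hσ, ← map_one Φ, hΦi.eq_iff]
    constructor
    · intro h v hv
      rw [← hεV] at hv
      obtain ⟨x, rfl⟩ := hv
      have := hρ' g x.toAdd
      rw [h, Matrix.one_mulVec, mul_inv_eq_iff_eq_mul] at this
      exact this.symm
    · intro h
      refine Matrix.ext_iff_mulVec.2 fun x => ?_
      have := hρ' g x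
      rw [← h _ (hεV ▸ ⟨_, rfl⟩), mul_inv_cancel_right] at this
      rw [Matrix.one_mulVec]
      exact (Multiplicative.ofAdd.injective (hε this)).symm
  rw [pResOf_le_iff] at hnp
  push Not at hnp
  obtain ⟨g, hg, hgo, hgC⟩ := hnp
  obtain ⟨ν, hν, ι, φ, hι, h1, h2, h3⟩ := exists_SL2_hom_of_not_nilpotent σ (closure_pair_eq_top hH)
    (hq a ha) (hq b hb) (e := e) (k := k) (by rw [← map_pow, ← hek, pow_orderOf_eq_one, map_one]) hk2
    (g := ⟨g, hg⟩) (fun hn => by
      obtain ⟨j, hj⟩ := pow_eq_one_of_isNilpotent (p := p) hn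
      rw [← map_pow, hker] at hj
      exact hgC (mem_of_pow_mem_of_coprime hj (hgo.pow_right j)))
  obtain ⟨i, hi⟩ : ∃ i, ι ![1, 0] i ≠ 0 := by
    by_contra hcon
    push Not at hcon
    have := hι ((funext hcon : ι ![1, 0] = 0).trans (map_zero ι).symm)
    simpa using congrFun this 0
  obtain ⟨l, hl⟩ := Module.Projective.exists_dual_ne_zero (ZMod p) hi
  let θ₀ : (Fin 2 → K) →+ (Fin n → ZMod p) :=
    { toFun := fun x j => l (ι x j)
      map_zero' := by ext j; simp
      map_add' := fun x y => by ext j; simp }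
  refine ⟨m, ν, φ, ε.comp (AddMonoidHom.toMultiplicative θ₀), hν, h1, h2, fun h hh => ?_, ?_, ?_, ?_⟩
  · refine Subtype.ext (Matrix.ext_iff_mulVec.2 fun x => hι ?_)
    rw [← h3, (hker h).2 hh]; simp
  · rw [← hεV, MonoidHom.range_comp]; exact map_le_range _ _
  · intro h
    have := hε (h.trans (map_one ε).symm)
    exact hl (congrFun (congrArg Multiplicative.toAdd this) i)
  · intro h x
    refine (hρ' h (θ₀ x)).trans (congrArg (fun y => ε (Multiplicative.ofAdd y)) ?_)
    ext j
    change _ = l (ι ((φ h : Matrix (Fin 2) (Fin 2) K) *ᵥ x) j)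
    rw [← h3, hσ, hΦ]
    simp only [Matrix.mulVec, dotProduct, map_sum, Matrix.map_apply, ← Algebra.smul_def, map_smul]
    rfl

end Cfsg.Agent.PLoc
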