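import Cfsg.Agent.PLoc.NPC

/-!
The holomorph: turning automorphisms into conjugation; solvable groups are `p`-solvable.
-/

set_option autoImplicit false

namespace Cfsg.Agent.PLoc

open Subgroup
open scoped commutatorElement Pointwise

universe u

variable {p : ℕ}

section

variable {G : Type*} [Group G]

theorem isPSolvable_of_step [Finite G] (h : ∀ N : Subgroup G, N.Normal → N ≠ ⊤ →
    ∃ M : Subgroup G, M.Normal ∧ N < M ∧ ((∃ k, N.relIndex M = p ^ k) ∨ (N.relIndex M).Coprime p)) :
    IsPSolvable p G := by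
  suffices H : ∀ N : Subgroup G, N.Normal → ∃ (n : ℕ) (H : Fin (n + 1) → Subgroup G), H 0 = N ∧
      H (Fin.last n) = ⊤ ∧ Monotone H ∧ (∀ i, (H i).Normal) ∧ ∀ i : Fin n,
      (∃ m : ℕ, (H i.castSucc).relIndex (H i.succ) = p ^ m) ∨
        ((H i.castSucc).relIndex (H i.succ)).Coprime p from H ⊥ inferInstance
  intro N
  induction N using (measure fun A : Subgroup G => Nat.card G - Nat.card A).wf.induction with
  | h N ih =>
  intro hN
  by_cases ht : N = ⊤
  · exact ⟨0, fun _ => N, rfl, ht, monotone_const, fun _ => hN, fun i => i.elim0⟩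
  obtain ⟨M, h1, h2, h3⟩ := h N hN ht
  obtain ⟨n, H, a, b, c, d, e⟩ := ih M (by
    have := card_le_card_group M
    have := card_lt_of_lt h2
    show Nat.card G - Nat.card M < Nat.card G - Nat.card N
    omega) h1
  refine ⟨n + 1, Fin.cons N H, rfl, b, ?_, fun i => Fin.cases hN d i, fun i => ?_⟩
  · rw [Fin.monotone_iff_le_succ]
    intro i
    refine Fin.cases ?_ (fun j => ?_) i
    · simpa [a] using h2.le
    · exact c (Fin.castSucc_le_succ j)
  · refine Fin.cases ?_ (fun j => ?_) i
    · simpa [a] using h3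
    · exact e j

theorem isPSolvable_of_isSolvable [Finite G] [hp : Fact p.Prime] (h : Group.IsSolvable G) :
    IsPSolvable p G := isPSolvable_of_step fun N _ hN => by
  have : Nontrivial (G ⧸ N) := QuotientGroup.nontrivial_iff.2 hN
  obtain ⟨M, r, hM, hr, -, hE⟩ := Core.exists_minNormal_elementaryAbelian (G := G ⧸ N)
  have := Fact.mk hr
  have := hM.1
  have hs := QuotientGroup.mk'_surjective N
  have h1 : N.relIndex (M.comap (QuotientGroup.mk' N)) = Nat.card M := by
    nth_rewrite 1 [← QuotientGroup.ker_mk' N]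
    rw [relIndex_ker, map_comap_eq_self_of_surjective hs]
  have h2 : N ≤ M.comap (QuotientGroup.mk' N) := fun x hx => by
    rw [mem_comap, QuotientGroup.mk'_apply, (QuotientGroup.eq_one_iff x).2 hx]; exact one_mem _
  refine ⟨M.comap (QuotientGroup.mk' N), inferInstance, lt_of_le_of_ne h2 fun he => hM.2.1 ?_, ?_⟩
  · rw [← card_eq_one, ← h1, ← he, relIndex_self]
  · obtain ⟨k, hk⟩ := IsPGroup.iff_card.1 hE
    rw [h1, hk]
    by_cases hrp : r = p
    · exact Or.inl ⟨k, by rw [hrp]⟩
    · exact Or.inr (Nat.Coprime.pow_left _ ((Nat.coprime_primes hr hp.out).2 hrp))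

end

/-- the semidirect product of `G` with a group of automorphisms -/
abbrev Hol {G : Type*} [Group G] (A : Subgroup (MulAut G)) := G ⋊[A.subtype] A

section

variable {G : Type*} [Group G] {A : Subgroup (MulAut G)}

instance holFinite [Finite G] : Finite (Hol A) :=
  Finite.of_equiv _ SemidirectProduct.equivProd.symm

/-- the copy of `G` in the holomorph -/
abbrev holL (A : Subgroup (MulAut G)) : G →* Hol A := SemidirectProduct.inl

/-- the copy of `A` in the holomorph -/
abbrev holR (A : Subgroup (MulAut G)) : A →* Hol A := SemidirectProduct.inr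

theorem holL_injective : Function.Injective (holL A) := SemidirectProduct.inl_injective

theorem holR_injective : Function.Injective (holR A) := SemidirectProduct.inr_injective

theorem hol_conj (a : A) (g : G) : holR A a * holL A g * (holR A a)⁻¹ = holL A ((a : MulAut G) g) := by
  rw [← map_inv]; exact (SemidirectProduct.inl_aut a g).symm

theorem card_holR_range : Nat.card (holR A).range = Nat.card A :=
  Nat.card_congr (MonoidHom.ofInjective holR_injective).toEquiv.symm

theorem card_map_holL (H : Subgroup G) : Nat.card (H.map (holL A)) = Nat.card H :=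
  card_map_of_injective holL_injective

theorem holR_le_normalizer [Finite G] {H : Subgroup G} (h : ∀ a ∈ A, ∀ x ∈ H, a x ∈ H) :
    (holR A).range ≤ normalizer (H.map (holL A) : Set (Hol A)) := by
  rintro _ ⟨a, rfl⟩
  refine mem_normalizer_of_conj_mem ?_
  rintro _ ⟨x, hx, rfl⟩
  rw [hol_conj]
  exact mem_map_of_mem _ (h a a.2 x hx)

theorem holL_mem_centralizer_iff {g : G} :
    holL A g ∈ centralizer ((holR A).range : Set (Hol A)) ↔ ∀ a ∈ A, a g = g := by
  constructor
  · intro h a ha
    apply holL_injective (A := A)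
    rw [← hol_conj ⟨a, ha⟩, h _ ⟨_, rfl⟩, mul_inv_cancel_right]
  · rintro h _ ⟨a, rfl⟩
    rw [← mul_inv_eq_iff_eq_mul, hol_conj, h a a.2]

theorem commutator_holL_holR (H : Subgroup G) : ⁅H.map (holL A), (holR A).range⁆ =
    (Subgroup.closure {x : G | ∃ g ∈ H, ∃ a ∈ A, x = g⁻¹ * a g}).map (holL A) := by
  have key : ∀ (g : G) (a : A), ⁅holL A g⁻¹, holR A a⁆ = holL A (g⁻¹ * (a : MulAut G) g) := by
    intro g a
    rw [map_mul, ← hol_conj, commutatorElement_def, map_inv]; group
  apply le_antisymm
  · refine commutator_le.2 ?_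
    rintro _ ⟨g, hg, rfl⟩ _ ⟨a, rfl⟩
    have := key g⁻¹ a
    rw [inv_inv] at this
    rw [this]
    exact mem_map_of_mem _ (subset_closure ⟨g⁻¹, inv_mem hg, a, a.2, by rw [inv_inv]⟩)
  · rw [map_le_iff_le_comap, closure_le]
    rintro _ ⟨g, hg, a, ha, rfl⟩
    rw [SetLike.mem_coe, mem_comap, ← key g ⟨a, ha⟩]
    exact commutator_mem_commutator (mem_map_of_mem _ (inv_mem hg)) ⟨_, rfl⟩

end

end Cfsg.Agent.PLoc
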