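import Cfsg.Agent.PLoc.Basic

/-!
`O_p`, `O_{p'}`, `O^p` and normal `p`-complements.
-/

set_option autoImplicit false

namespace Cfsg.Agent.PLoc

open Subgroup
open scoped commutatorElement Pointwise

variable {G : Type*} [Group G] {p : ℕ}

/-! ### `O_p` -/

theorem pCore_isPGroup : IsPGroup p (pCore p G) :=
  Sylow.sSup_of_normal _ (fun _ h => h.2) (fun _ h => h.1)

theorem le_pCore {N : Subgroup G} (hN : N.Normal) (h : IsPGroup p N) : N ≤ pCore p G :=
  le_sSup ⟨hN, h⟩

theorem pCore_le_sylow (P : Sylow p G) : pCore p G ≤ P := pCore_isPGroup.le_sylow_of_normal P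

theorem map_pCore_le {G' : Type*} [Group G'] (f : G →* G') (hf : Function.Surjective f) :
    (pCore p G).map f ≤ pCore p G' :=
  le_pCore ((pCore_normal p G).map f hf) (pCore_isPGroup.map f)

theorem map_pCore_equiv {G' : Type*} [Group G'] (f : G ≃* G') :
    (pCore p G).map f.toMonoidHom = pCore p G' := by
  refine le_antisymm (map_pCore_le _ f.surjective) fun x hx => ?_
  exact ⟨f.symm x, map_pCore_le f.symm.toMonoidHom f.symm.surjective ⟨x, hx, rfl⟩, by simp⟩

instance pCore_characteristic : (pCore p G).Characteristic :=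
  characteristic_iff_map_eq.mpr fun f => map_pCore_equiv f

theorem comap_pCore_le {G' : Type*} [Group G'] (f : G →* G') (hf : IsPGroup p f.ker) :
    (pCore p G').comap f ≤ pCore p G :=
  le_pCore inferInstance (pCore_isPGroup.comap_of_ker_isPGroup f hf)

theorem pCore_quotient_pCore : pCore p (G ⧸ pCore p G) = ⊥ := by
  have := comap_pCore_le (p := p) (QuotientGroup.mk' (pCore p G))
    (by rw [QuotientGroup.ker_mk']; exact pCore_isPGroup)
  rw [eq_bot_iff]
  intro x hx
  obtain ⟨x, rfl⟩ := QuotientGroup.mk'_surjective _ x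
  exact (QuotientGroup.eq_one_iff x).mpr (this hx)

theorem pCore_eq_top_iff : pCore p G = ⊤ ↔ IsPGroup p G :=
  ⟨fun h => isPGroup_top_iff.mp (h ▸ pCore_isPGroup),
    fun h => top_le_iff.mp (le_pCore inferInstance (h.to_subgroup ⊤))⟩

/-- `O_p(H)` inside the ambient group -/
def pCoreOf (p : ℕ) (H : Subgroup G) : Subgroup G := (pCore p H).map H.subtype

theorem pCoreOf_def (H : Subgroup G) : (pCore p H).map H.subtype = pCoreOf p H := rfl

theorem pCoreOf_le (H : Subgroup G) : pCoreOf p H ≤ H := map_subtype_le _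

theorem pCoreOf_isPGroup (H : Subgroup G) : IsPGroup p (pCoreOf p H) := pCore_isPGroup.map _

theorem pCoreOf_subgroupOf (H : Subgroup G) : (pCoreOf p H).subgroupOf H = pCore p H :=
  comap_map_eq_self_of_injective H.subtype_injective _

theorem mem_pCoreOf {H : Subgroup G} {x : H} : (x : G) ∈ pCoreOf p H ↔ x ∈ pCore p H := by
  rw [← pCoreOf_subgroupOf, mem_subgroupOf]

theorem le_normalizer_map_subtype {H : Subgroup G} (K : Subgroup H) [hK : K.Normal] :
    H ≤ normalizer (K.map H.subtype : Set G) := by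
  rw [← normal_subgroupOf_iff_le_normalizer (map_subtype_le _)]
  rwa [show (K.map H.subtype).subgroupOf H = K from
    comap_map_eq_self_of_injective H.subtype_injective _]

theorem le_normalizer_pCoreOf (H : Subgroup G) : H ≤ normalizer (pCoreOf p H : Set G) :=
  le_normalizer_map_subtype _

theorem le_pCoreOf {H N : Subgroup G} (hNH : N ≤ H) (hN : H ≤ normalizer (N : Set G))
    (h : IsPGroup p N) : N ≤ pCoreOf p H := by
  rw [← map_subgroupOf_eq_of_le hNH]
  exact map_mono (le_pCore (normal_subgroupOf_of_le_normalizer hN) h.comap_subtype)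

theorem pCoreOf_top : pCoreOf p (⊤ : Subgroup G) = pCore p G :=
  le_antisymm (le_pCore (normal_of_top_le_normalizer (le_normalizer_pCoreOf _)) (pCoreOf_isPGroup _))
    (le_pCoreOf le_top le_normalizer_of_normal pCore_isPGroup)

theorem map_pCoreOf_le {G' : Type*} [Group G'] (f : G →* G') (H : Subgroup G) :
    (pCoreOf p H).map f ≤ pCoreOf p (H.map f) :=
  le_pCoreOf (map_mono (pCoreOf_le H))
    ((map_mono (le_normalizer_pCoreOf H)).trans (le_normalizer_map f)) ((pCoreOf_isPGroup H).map f)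

theorem cj_pCoreOf (g : G) (H : Subgroup G) : cj g (pCoreOf p H) = pCoreOf p (cj g H) := by
  refine le_antisymm (map_pCoreOf_le _ _) ?_
  rw [le_cj_iff]
  have := map_pCoreOf_le (p := p) (MulAut.conj g⁻¹).toMonoidHom (cj g H)
  rwa [cj_def, cj_def, cj_inv_cj] at this

theorem normalizer_le_normalizer_pCoreOf (H : Subgroup G) :
    normalizer (H : Set G) ≤ normalizer (pCoreOf p H : Set G) := by
  intro g hg
  rw [← cj_eq_self_iff] at *
  rw [cj_pCoreOf, hg]

instance pCoreOf_normal (H : Subgroup G) [H.Normal] : (pCoreOf p H).Normal :=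
  normal_of_top_le_normalizer (le_normalizer_of_normal.trans (normalizer_le_normalizer_pCoreOf H))

theorem pCoreOf_le_pCore (H : Subgroup G) [H.Normal] : pCoreOf p H ≤ pCore p G :=
  le_pCore inferInstance (pCoreOf_isPGroup H)

theorem pCoreOf_le_pCoreOf_of_normal {H K : Subgroup G} (hHK : H ≤ K)
    (hK : K ≤ normalizer (H : Set G)) : pCoreOf p H ≤ pCoreOf p K :=
  le_pCoreOf ((pCoreOf_le H).trans hHK) (hK.trans (normalizer_le_normalizer_pCoreOf H))
    (pCoreOf_isPGroup H)

theorem pCoreOf_inf_le {H K : Subgroup G} (hHK : H ≤ K) : pCoreOf p K ⊓ H ≤ pCoreOf p H :=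
  le_pCoreOf inf_le_right
    (le_normalizer_inf (hHK.trans (le_normalizer_pCoreOf K)) le_normalizer)
    (pCoreOf_isPGroup K).to_inf_left

theorem pCore_inf_le (H : Subgroup G) : pCore p G ⊓ H ≤ pCoreOf p H := by
  rw [← pCoreOf_top]; exact pCoreOf_inf_le le_top

theorem IsSylowOf.pCoreOf_le [Finite G] [Fact p.Prime] {P H : Subgroup G} (hP : IsSylowOf p P H) :
    pCoreOf p H ≤ P :=
  hP.le_of_normalizes (pCoreOf_isPGroup H) (PLoc.pCoreOf_le H) (hP.le.trans (le_normalizer_pCoreOf H))

theorem pCoreOf_eq_bot_iff {H : Subgroup G} : pCoreOf p H = ⊥ ↔ pCore p H = ⊥ :=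
  map_eq_bot_iff_of_injective _ H.subtype_injective

/-! ### `O_{p'}` -/

theorem coprime_card_sup {H N : Subgroup G} (h : H ≤ normalizer (N : Set G)) {n : ℕ}
    (h1 : (Nat.card H).Coprime n) (h2 : (Nat.card N).Coprime n) :
    (Nat.card (H ⊔ N : Subgroup G)).Coprime n :=
  (h1.mul_left h2).coprime_dvd_left (card_sup_dvd h)

theorem pPrimeCore_coprime [Finite G] : (Nat.card (pPrimeCore p G)).Coprime p := by
  obtain ⟨M, -, hM⟩ := Finite.exists_le_maximal
    (p := fun N : Subgroup G => N.Normal ∧ (Nat.card N).Coprime p) (a := ⊥)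
    ⟨inferInstance, by simp⟩
  have : pPrimeCore p G ≤ M := by
    refine sSup_le fun N hN => ?_
    have := hM.1.1
    have := hN.1
    exact le_sup_left.trans (hM.2 (y := N ⊔ M)
      ⟨inferInstance, coprime_card_sup le_normalizer_of_normal hN.2 hM.1.2⟩ le_sup_right)
  exact hM.1.2.coprime_dvd_left (card_dvd_of_le this)

theorem le_pPrimeCore {N : Subgroup G} (hN : N.Normal) (h : (Nat.card N).Coprime p) :
    N ≤ pPrimeCore p G :=
  le_sSup ⟨hN, h⟩

theorem map_pPrimeCore_le [Finite G] {G' : Type*} [Group G'] (f : G →* G')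
    (hf : Function.Surjective f) : (pPrimeCore p G).map f ≤ pPrimeCore p G' :=
  le_pPrimeCore ((pPrimeCore_normal p G).map f hf)
    (pPrimeCore_coprime.coprime_dvd_left (card_map_dvd _ f))

theorem map_pPrimeCore_equiv [Finite G] {G' : Type*} [Group G'] (f : G ≃* G') :
    (pPrimeCore p G).map f.toMonoidHom = pPrimeCore p G' := by
  have : Finite G' := Finite.of_equiv _ f.toEquiv
  refine le_antisymm (map_pPrimeCore_le _ f.surjective) fun x hx => ?_
  exact ⟨f.symm x, map_pPrimeCore_le f.symm.toMonoidHom f.symm.surjective ⟨x, hx, rfl⟩, by simp⟩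

instance pPrimeCore_characteristic [Finite G] : (pPrimeCore p G).Characteristic :=
  characteristic_iff_map_eq.mpr fun f => map_pPrimeCore_equiv f

theorem card_comap_dvd {G' : Type*} [Group G'] (f : G →* G') (K : Subgroup G') :
    Nat.card (K.comap f) ∣ Nat.card K * Nat.card f.ker := by
  rw [← card_map_mul_card_ker_inf f (K.comap f)]
  exact Nat.mul_dvd_mul (card_dvd_of_le (map_comap_le _ _)) (card_dvd_of_le inf_le_left)

theorem comap_pPrimeCore_le {G' : Type*} [Group G'] [Finite G'] (f : G →* G')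
    (hf : (Nat.card f.ker).Coprime p) : (pPrimeCore p G').comap f ≤ pPrimeCore p G :=
  le_pPrimeCore inferInstance
    ((pPrimeCore_coprime.mul_left hf).coprime_dvd_left (card_comap_dvd f _))

theorem pPrimeCore_quotient_pPrimeCore [Finite G] : pPrimeCore p (G ⧸ pPrimeCore p G) = ⊥ := by
  have := comap_pPrimeCore_le (p := p) (QuotientGroup.mk' (pPrimeCore p G))
    (by rw [QuotientGroup.ker_mk']; exact pPrimeCore_coprime)
  rw [eq_bot_iff]
  intro x hx
  obtain ⟨x, rfl⟩ := QuotientGroup.mk'_surjective _ x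
  exact (QuotientGroup.eq_one_iff x).mpr (this hx)

theorem eq_bot_of_pPrimeCore_eq_bot (h : pPrimeCore p G = ⊥) {N : Subgroup G} (hN : N.Normal)
    (hc : (Nat.card N).Coprime p) : N = ⊥ :=
  eq_bot_iff.mpr (h ▸ le_pPrimeCore hN hc)

theorem eq_bot_of_pCore_eq_bot (h : pCore p G = ⊥) {N : Subgroup G} (hN : N.Normal)
    (hc : IsPGroup p N) : N = ⊥ :=
  eq_bot_iff.mpr (h ▸ le_pCore hN hc)

/-- `O_{p'}(H)` inside the ambient group -/
def pPrimeCoreOf (p : ℕ) (H : Subgroup G) : Subgroup G := (pPrimeCore p H).map H.subtype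

theorem pPrimeCoreOf_def (H : Subgroup G) : (pPrimeCore p H).map H.subtype = pPrimeCoreOf p H := rfl

theorem pPrimeCoreOf_le (H : Subgroup G) : pPrimeCoreOf p H ≤ H := map_subtype_le _

theorem pPrimeCoreOf_coprime [Finite G] (H : Subgroup G) :
    (Nat.card (pPrimeCoreOf p H)).Coprime p := by
  rw [pPrimeCoreOf, card_subtype]; exact pPrimeCore_coprime

theorem pPrimeCoreOf_subgroupOf (H : Subgroup G) :
    (pPrimeCoreOf p H).subgroupOf H = pPrimeCore p H :=
  comap_map_eq_self_of_injective H.subtype_injective _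

theorem mem_pPrimeCoreOf {H : Subgroup G} {x : H} :
    (x : G) ∈ pPrimeCoreOf p H ↔ x ∈ pPrimeCore p H := by
  rw [← pPrimeCoreOf_subgroupOf, mem_subgroupOf]

theorem le_normalizer_pPrimeCoreOf (H : Subgroup G) : H ≤ normalizer (pPrimeCoreOf p H : Set G) :=
  le_normalizer_map_subtype _

theorem card_subgroupOf_of_le {H K : Subgroup G} (h : H ≤ K) :
    Nat.card (H.subgroupOf K) = Nat.card H := Nat.card_congr (subgroupOfEquivOfLe h).toEquiv

theorem le_pPrimeCoreOf {H N : Subgroup G} (hNH : N ≤ H) (hN : H ≤ normalizer (N : Set G))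
    (h : (Nat.card N).Coprime p) : N ≤ pPrimeCoreOf p H := by
  rw [← map_subgroupOf_eq_of_le hNH]
  exact map_mono (le_pPrimeCore (normal_subgroupOf_of_le_normalizer hN)
    (by rwa [card_subgroupOf_of_le hNH]))

theorem pPrimeCoreOf_top [Finite G] : pPrimeCoreOf p (⊤ : Subgroup G) = pPrimeCore p G :=
  le_antisymm (le_pPrimeCore (normal_of_top_le_normalizer (le_normalizer_pPrimeCoreOf _))
    (pPrimeCoreOf_coprime _))
    (le_pPrimeCoreOf le_top le_normalizer_of_normal pPrimeCore_coprime)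

theorem map_pPrimeCoreOf_le [Finite G] {G' : Type*} [Group G'] (f : G →* G') (H : Subgroup G) :
    (pPrimeCoreOf p H).map f ≤ pPrimeCoreOf p (H.map f) :=
  le_pPrimeCoreOf (map_mono (pPrimeCoreOf_le H))
    ((map_mono (le_normalizer_pPrimeCoreOf H)).trans (le_normalizer_map f))
    ((pPrimeCoreOf_coprime H).coprime_dvd_left (card_map_dvd _ f))

theorem cj_pPrimeCoreOf [Finite G] (g : G) (H : Subgroup G) :
    cj g (pPrimeCoreOf p H) = pPrimeCoreOf p (cj g H) := by
  refine le_antisymm (map_pPrimeCoreOf_le _ _) ?_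
  rw [le_cj_iff]
  have := map_pPrimeCoreOf_le (p := p) (MulAut.conj g⁻¹).toMonoidHom (cj g H)
  rwa [cj_def, cj_def, cj_inv_cj] at this

theorem normalizer_le_normalizer_pPrimeCoreOf [Finite G] (H : Subgroup G) :
    normalizer (H : Set G) ≤ normalizer (pPrimeCoreOf p H : Set G) := by
  intro g hg
  rw [← cj_eq_self_iff] at *
  rw [cj_pPrimeCoreOf, hg]

instance pPrimeCoreOf_normal [Finite G] (H : Subgroup G) [H.Normal] : (pPrimeCoreOf p H).Normal :=
  normal_of_top_le_normalizer
    (le_normalizer_of_normal.trans (normalizer_le_normalizer_pPrimeCoreOf H))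

theorem pPrimeCoreOf_le_pPrimeCore [Finite G] (H : Subgroup G) [H.Normal] :
    pPrimeCoreOf p H ≤ pPrimeCore p G :=
  le_pPrimeCore inferInstance (pPrimeCoreOf_coprime H)

theorem pPrimeCoreOf_le_pPrimeCoreOf_of_normal [Finite G] {H K : Subgroup G} (hHK : H ≤ K)
    (hK : K ≤ normalizer (H : Set G)) : pPrimeCoreOf p H ≤ pPrimeCoreOf p K :=
  le_pPrimeCoreOf ((pPrimeCoreOf_le H).trans hHK)
    (hK.trans (normalizer_le_normalizer_pPrimeCoreOf H)) (pPrimeCoreOf_coprime H)

theorem pPrimeCoreOf_inf_le [Finite G] {H K : Subgroup G} (hHK : H ≤ K) :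
    pPrimeCoreOf p K ⊓ H ≤ pPrimeCoreOf p H :=
  le_pPrimeCoreOf inf_le_right
    (le_normalizer_inf (hHK.trans (le_normalizer_pPrimeCoreOf K)) le_normalizer)
    ((pPrimeCoreOf_coprime K).coprime_dvd_left (card_dvd_of_le inf_le_left))

theorem pPrimeCore_inf_le [Finite G] (H : Subgroup G) : pPrimeCore p G ⊓ H ≤ pPrimeCoreOf p H := by
  rw [← pPrimeCoreOf_top]; exact pPrimeCoreOf_inf_le le_top

theorem pPrimeCoreOf_eq_bot_iff {H : Subgroup G} : pPrimeCoreOf p H = ⊥ ↔ pPrimeCore p H = ⊥ :=
  map_eq_bot_iff_of_injective _ H.subtype_injective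

theorem commutator_eq_bot_of_inf_eq_bot {H K : Subgroup G} (h1 : H ≤ normalizer (K : Set G))
    (h2 : K ≤ normalizer (H : Set G)) (h : H ⊓ K = ⊥) : ⁅H, K⁆ = ⊥ := by
  rw [eq_bot_iff, ← h]
  exact le_inf (le_normalizer_iff_commutator_le_left.mp h2)
    (le_normalizer_iff_commutator_le_right.mp h1)

theorem le_centralizer_of_inf_eq_bot {H K : Subgroup G} (h1 : H ≤ normalizer (K : Set G))
    (h2 : K ≤ normalizer (H : Set G)) (h : H ⊓ K = ⊥) : H ≤ centralizer (K : Set G) :=
  commutator_eq_bot_iff_le_centralizer.mp (commutator_eq_bot_of_inf_eq_bot h1 h2 h)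

theorem pPrimeCore_le_centralizer_pCore [Finite G] :
    pPrimeCore p G ≤ centralizer (pCore p G : Set G) :=
  le_centralizer_of_inf_eq_bot le_normalizer_of_normal le_normalizer_of_normal
    (by rw [inf_comm]; exact inf_eq_bot_of_isPGroup_of_coprime pCore_isPGroup pPrimeCore_coprime)

theorem pPrimeCore_eq_bot_of_centralizer_le [Finite G]
    (h : centralizer (pCore p G : Set G) ≤ pCore p G) : pPrimeCore p G = ⊥ :=
  eq_bot_of_isPGroup_of_coprime (pCore_isPGroup.to_le (pPrimeCore_le_centralizer_pCore.trans h))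
    pPrimeCore_coprime

/-! ### `O^p` -/

/-- `O^p(H)` inside the ambient group -/
def pResOf (p : ℕ) (H : Subgroup G) : Subgroup G :=
  closure {g : G | g ∈ H ∧ (orderOf g).Coprime p}

theorem pResOf_top : pResOf p (⊤ : Subgroup G) = pResidual p G := by
  simp [pResOf, pResidual]

theorem map_pResidual_subtype (H : Subgroup G) : (pResidual p H).map H.subtype = pResOf p H := by
  rw [pResidual, MonoidHom.map_closure, pResOf]
  congr 1
  ext x
  constructor
  · rintro ⟨y, hy, rfl⟩
    exact ⟨y.2, by simpa using hy⟩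
  · rintro ⟨h1, h2⟩
    exact ⟨⟨x, h1⟩, by simpa using h2, rfl⟩

theorem pResOf_le (H : Subgroup G) : pResOf p H ≤ H := (closure_le _).mpr fun _ h => h.1

theorem mem_pResOf {H : Subgroup G} {x : G} (hx : x ∈ H) (h : (orderOf x).Coprime p) :
    x ∈ pResOf p H := subset_closure ⟨hx, h⟩

theorem mem_pResidual {x : G} (h : (orderOf x).Coprime p) : x ∈ pResidual p G := subset_closure h

theorem pResOf_mono {H K : Subgroup G} (h : H ≤ K) : pResOf p H ≤ pResOf p K :=
  closure_mono fun _ hx => ⟨h hx.1, hx.2⟩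

theorem pResOf_le_iff {H K : Subgroup G} :
    pResOf p H ≤ K ↔ ∀ x ∈ H, (orderOf x).Coprime p → x ∈ K := by
  rw [pResOf, closure_le]; exact ⟨fun h x a b => h ⟨a, b⟩, fun h x hx => h x hx.1 hx.2⟩

theorem pResidual_le_iff {K : Subgroup G} :
    pResidual p G ≤ K ↔ ∀ x, (orderOf x).Coprime p → x ∈ K := by
  rw [pResidual, closure_le]; rfl

theorem pResOf_pResOf (H : Subgroup G) : pResOf p (pResOf p H) = pResOf p H :=
  le_antisymm (pResOf_le _) (pResOf_le_iff.mpr fun _ hx hc => mem_pResOf (mem_pResOf hx hc) hc)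

theorem normalizer_le_normalizer_pResOf (H : Subgroup G) :
    normalizer (H : Set G) ≤ normalizer (pResOf p H : Set G) := by
  rw [pResOf, le_normalizer_closure_iff]
  intro g hg x hx
  exact subset_closure ⟨conj_mem_of_mem_normalizer hg hx.1, by rw [orderOf_conj']; exact hx.2⟩

theorem le_normalizer_pResOf (H : Subgroup G) : H ≤ normalizer (pResOf p H : Set G) :=
  le_normalizer.trans (normalizer_le_normalizer_pResOf H)

instance pResOf_normal (H : Subgroup G) [H.Normal] : (pResOf p H).Normal :=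
  normal_of_top_le_normalizer (le_normalizer_of_normal.trans (normalizer_le_normalizer_pResOf H))

instance pResidual_normal : (pResidual p G).Normal := pResOf_top (p := p) (G := G) ▸ inferInstance

theorem map_pResOf_le {G' : Type*} [Group G'] (f : G →* G') (H : Subgroup G) :
    (pResOf p H).map f ≤ pResOf p (H.map f) := by
  rw [map_le_iff_le_comap, pResOf_le_iff]
  intro x hx hc
  exact mem_pResOf (mem_map_of_mem f hx) (hc.coprime_dvd_left (orderOf_map_dvd f x))

instance pResidual_characteristic : (pResidual p G).Characteristic := by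
  rw [characteristic_iff_map_le]
  intro f
  rw [← pResOf_top]
  exact (map_pResOf_le _ _).trans (pResOf_mono le_top)

theorem pResOf_le_of_relIndex {H N : Subgroup G} (hN : H ≤ normalizer (N : Set G))
    (h : ∃ k, N.relIndex H = p ^ k) : pResOf p H ≤ N := by
  obtain ⟨k, hk⟩ := h
  rw [pResOf_le_iff]
  intro x hx hc
  exact mem_of_pow_mem_of_coprime (hk ▸ pow_relIndex_mem' hN hx) (hc.pow_right k)

theorem pResidual_le_of_index {N : Subgroup G} [N.Normal] (h : ∃ k, N.index = p ^ k) :
    pResidual p G ≤ N := by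
  rw [← pResOf_top]
  exact pResOf_le_of_relIndex le_normalizer_of_normal (by simpa using h)

theorem pResidual_le_ker {G' : Type*} [Group G'] (f : G →* G') (h : IsPGroup p f.range) :
    pResidual p G ≤ f.ker := by
  rw [pResidual_le_iff]
  intro x hx
  exact eq_one_of_isPGroup_of_coprime h ⟨x, rfl⟩ (hx.coprime_dvd_left (orderOf_map_dvd f x))

section

variable [Finite G] [hp : Fact p.Prime]

theorem exists_pow_mem_pResOf {H : Subgroup G} {x : G} (hx : x ∈ H) :
    ∃ k, x ^ p ^ k ∈ pResOf p H := by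
  obtain ⟨a, -, b, hb, e, hc, ⟨k, hk⟩, hb'⟩ := exists_p_part p x
  refine ⟨k, ?_⟩
  rw [e, Commute.mul_pow hc, hk, one_mul]
  exact pow_mem (mem_pResOf (zpowers_le.mpr hx hb) hb') _

theorem relIndex_eq_pow_of_forall {H N : Subgroup G} (hN : H ≤ normalizer (N : Set G))
    (h : ∀ x ∈ H, ∃ k, x ^ p ^ k ∈ N) : ∃ k, N.relIndex H = p ^ k := by
  have : (N.subgroupOf H).Normal := normal_subgroupOf_of_le_normalizer hN
  refine isPGroup_quotient_iff.mp fun x => ?_
  obtain ⟨x, rfl⟩ := QuotientGroup.mk_surjective x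
  obtain ⟨k, hk⟩ := h x x.2
  exact ⟨k, by rw [← QuotientGroup.mk_pow, QuotientGroup.eq_one_iff]; exact hk⟩

theorem relIndex_pResOf (H : Subgroup G) : ∃ k, (pResOf p H).relIndex H = p ^ k :=
  relIndex_eq_pow_of_forall (le_normalizer_pResOf H) fun _ hx => exists_pow_mem_pResOf hx

theorem index_pResidual : ∃ k, (pResidual p G).index = p ^ k := by
  simpa [pResOf_top] using relIndex_pResOf (p := p) (⊤ : Subgroup G)

theorem isPGroup_quotient_pResidual : IsPGroup p (G ⧸ pResidual p G) :=
  isPGroup_quotient_iff.mpr index_pResidual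

theorem IsSylowOf.sup_pResOf {P H : Subgroup G} (hP : IsSylowOf p P H) : P ⊔ pResOf p H = H :=
  hP.sup_eq_of_relIndex (pResOf_le H) (relIndex_pResOf H)

theorem sylow_sup_pResidual (P : Sylow p G) : (P : Subgroup G) ⊔ pResidual p G = ⊤ := by
  rw [← pResOf_top]; exact (isSylowOf_top P).sup_pResOf

theorem pResOf_eq_bot_iff {H : Subgroup G} : pResOf p H = ⊥ ↔ IsPGroup p H := by
  rw [eq_bot_iff, pResOf_le_iff]
  exact ⟨fun h => isPGroup_of_forall_coprime h, fun h x hx hc => eq_one_of_isPGroup_of_coprime h hx hc⟩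

theorem exists_coprime_preimage {G' : Type*} [Group G'] (f : G →* G') {H : Subgroup G} {x : G}
    (hx : x ∈ H) (hc : (orderOf (f x)).Coprime p) :
    ∃ y ∈ H, (orderOf y).Coprime p ∧ f y = f x := by
  obtain ⟨a, ha, b, hb, e, hab, ⟨k, hk⟩, hb'⟩ := exists_p_part p x
  refine ⟨b, zpowers_le.mpr hx hb, hb', ?_⟩
  have h1 : f a = 1 := by
    have h2 : f a ∈ zpowers (f x) := by
      rw [← MonoidHom.map_zpowers]; exact mem_map_of_mem f ha
    have h3 := orderOf_dvd_card_of_mem h2
    rw [Nat.card_zpowers] at h3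
    exact eq_one_of_isPGroup_of_coprime (isPGroup_zpowers (x := f a) (k := k)
      (by rw [← map_pow, hk, map_one])) (mem_zpowers _) (hc.coprime_dvd_left h3)
  rw [e, map_mul, h1, one_mul]

theorem map_pResOf {G' : Type*} [Group G'] (f : G →* G') (H : Subgroup G) :
    (pResOf p H).map f = pResOf p (H.map f) := by
  refine le_antisymm (map_pResOf_le f H) (pResOf_le_iff.mpr ?_)
  rintro _ ⟨x, hx, rfl⟩ hc
  obtain ⟨y, hy, hy', e⟩ := exists_coprime_preimage f hx hc
  exact ⟨y, mem_pResOf hy hy', e⟩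

/-! ### normal `p`-complements -/

/-- `H` has a normal `p`-complement: the `p'`-elements of `H` are closed under products. -/
def NPC (p : ℕ) (H : Subgroup G) : Prop :=
  ∀ x ∈ H, ∀ y ∈ H, (orderOf x).Coprime p → (orderOf y).Coprime p → (orderOf (x * y)).Coprime p

omit [Finite G] hp in
theorem NPC.mono {H K : Subgroup G} (h : NPC p K) (hle : H ≤ K) : NPC p H :=
  fun x hx y hy => h x (hle hx) y (hle hy)

omit [Finite G] hp in
theorem npc_iff_forall_pResOf {H : Subgroup G} :
    NPC p H ↔ ∀ x ∈ pResOf p H, (orderOf x).Coprime p := by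
  constructor
  · intro h x hx
    induction hx using closure_induction with
    | mem y hy => exact hy.2
    | one => simp
    | mul a b ha hb iha ihb => exact h a (pResOf_le H ha) b (pResOf_le H hb) iha ihb
    | inv a ha iha => simpa using iha
  · intro h x hx y hy h1 h2
    exact h _ (mul_mem (mem_pResOf hx h1) (mem_pResOf hy h2))

theorem npc_iff_coprime {H : Subgroup G} : NPC p H ↔ (Nat.card (pResOf p H)).Coprime p := by
  rw [npc_iff_forall_pResOf, coprime_card_iff hp.out]

theorem npc_of_normal {H N : Subgroup G} (hN : H ≤ normalizer (N : Set G))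
    (hc : (Nat.card N).Coprime p) (h : ∃ k, N.relIndex H = p ^ k) : NPC p H :=
  npc_iff_coprime.mpr (hc.coprime_dvd_left (card_dvd_of_le (pResOf_le_of_relIndex hN h)))

theorem npc_of_isPGroup {H : Subgroup G} (h : IsPGroup p H) : NPC p H := by
  rw [npc_iff_coprime, pResOf_eq_bot_iff.mpr h]; simp

theorem npc_of_coprime {H : Subgroup G} (h : (Nat.card H).Coprime p) : NPC p H :=
  npc_iff_coprime.mpr (h.coprime_dvd_left (card_dvd_of_le (pResOf_le H)))

theorem IsSylowOf.npc_iff {P H : Subgroup G} (hP : IsSylowOf p P H) :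
    NPC p H ↔ P ⊓ pResOf p H = ⊥ := by
  rw [npc_iff_coprime,
    (hP.inf_of_le (pResOf_le H) (hP.le.trans (le_normalizer_pResOf H))).eq_bot_iff]

theorem isComplement'_pResidual (h : NPC p (⊤ : Subgroup G)) (P : Sylow p G) :
    (pResidual p G).IsComplement' P := by
  refine isComplement'_of_disjoint_and_mul_eq_univ ?_ ?_
  · rw [disjoint_iff, inf_comm, ← pResOf_top]
    exact (isSylowOf_top P).npc_iff.mp h
  · rw [← normal_mul, sup_comm, sylow_sup_pResidual, coe_top]

theorem npc_of_isComplement' {P : Sylow p G} {N : Subgroup G} (hN : N.Normal)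
    (h : N.IsComplement' P) : NPC p (⊤ : Subgroup G) := by
  refine npc_of_normal (N := N) le_normalizer_of_normal ?_ ?_
  · rw [← h.index_eq_card]
    exact (hp.out.coprime_iff_not_dvd.mpr P.not_dvd_index).symm
  · rw [relIndex_top_right, h.symm.index_eq_card]
    exact P.2.exists_card_eq

theorem hasNPC_iff_top : HasNormalPComplement p G ↔ NPC p (⊤ : Subgroup G) :=
  ⟨fun ⟨_, _, hN, h⟩ => npc_of_isComplement' hN h,
    fun h => ⟨default, _, inferInstance, isComplement'_pResidual h _⟩⟩

theorem exists_complement_iff_npc (P : Sylow p G) :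
    (∃ N : Subgroup G, N.Normal ∧ N.IsComplement' (P : Subgroup G)) ↔ NPC p (⊤ : Subgroup G) :=
  ⟨fun ⟨_, hN, h⟩ => npc_of_isComplement' hN h,
    fun h => ⟨_, inferInstance, isComplement'_pResidual h _⟩⟩

omit [Finite G] hp in
theorem npc_subgroupOf_iff {H K : Subgroup G} (h : H ≤ K) : NPC p (H.subgroupOf K) ↔ NPC p H := by
  constructor
  · intro h' x hx y hy h1 h2
    simpa using h' ⟨x, h hx⟩ hx ⟨y, h hy⟩ hy (by simpa using h1) (by simpa using h2)
  · intro h' x hx y hy h1 h2
    rw [← orderOf_coe] at *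
    exact h' x hx y hy h1 h2

theorem hasNPC_iff {H : Subgroup G} : HasNormalPComplement p H ↔ NPC p H := by
  rw [hasNPC_iff_top, ← subgroupOf_self, npc_subgroupOf_iff le_rfl]

theorem NPC.map {G' : Type*} [Group G'] (f : G →* G') {H : Subgroup G} (h : NPC p H) :
    NPC p (H.map f) := by
  rw [npc_iff_forall_pResOf, ← map_pResOf] 
  rintro _ ⟨x, hx, rfl⟩
  exact (npc_iff_forall_pResOf.mp h x hx).coprime_dvd_left (orderOf_map_dvd f x)

theorem NPC.cj {H : Subgroup G} (h : NPC p H) (g : G) : NPC p (cj g H) := h.map _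

theorem npc_of_map {G' : Type*} [Group G'] (f : G →* G') {H : Subgroup G}
    (hk : (Nat.card (f.ker ⊓ H : Subgroup G)).Coprime p) (h : NPC p (H.map f)) : NPC p H := by
  rw [npc_iff_coprime, ← card_map_mul_card_ker_inf f (pResOf p H)]
  refine Nat.Coprime.mul_left ?_
    (hk.coprime_dvd_left (card_dvd_of_le (inf_le_inf_left _ (pResOf_le H))))
  have : Finite (H.map f) := Finite.of_surjective _ (f.subgroupMap_surjective H)
  rw [map_pResOf, ← map_pResidual_subtype, card_subtype, ← pResOf_top, ← npc_iff_coprime,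
    ← subgroupOf_self, npc_subgroupOf_iff le_rfl]
  exact h

theorem NPC.pResOf_eq_pPrimeCoreOf {H : Subgroup G} (h : NPC p H) :
    pResOf p H = pPrimeCoreOf p H := by
  refine le_antisymm (le_pPrimeCoreOf (pResOf_le H) (le_normalizer_pResOf H)
    (npc_iff_coprime.mp h)) fun x hx => ?_
  exact mem_pResOf (pPrimeCoreOf_le H hx)
    ((pPrimeCoreOf_coprime H).coprime_dvd_left (orderOf_dvd_card_of_mem hx))

/-- in a group with a normal `p`-complement, `p'`-elements centralize normal `p`-subgroups -/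
theorem NPC.pResOf_le_centralizer {H Q : Subgroup G} (h : NPC p H) (hQ : IsPGroup p Q)
    (hQH : Q ≤ H) (hH : H ≤ normalizer (Q : Set G)) : pResOf p H ≤ centralizer (Q : Set G) :=
  le_centralizer_of_inf_eq_bot ((pResOf_le H).trans hH) (hQH.trans (le_normalizer_pResOf H))
    (by rw [inf_comm]; exact inf_eq_bot_of_isPGroup_of_coprime hQ (npc_iff_coprime.mp h))

theorem NPC.mem_centralizer {H Q : Subgroup G} (h : NPC p H) (hQ : IsPGroup p Q) (hQH : Q ≤ H)
    {g : G} (hg : g ∈ H) (hgN : g ∈ normalizer (Q : Set G)) (hc : (orderOf g).Coprime p) :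
    g ∈ centralizer (Q : Set G) :=
  (h.mono (inf_le_left : H ⊓ normalizer (Q : Set G) ≤ H)).pResOf_le_centralizer hQ
    (le_inf hQH le_normalizer) inf_le_right (mem_pResOf ⟨hg, hgN⟩ hc)

/-- Burnside's transfer theorem, ambient form -/
theorem IsSylowOf.npc_of_burnside {P H : Subgroup G} (hP : IsSylowOf p P H)
    (h : H ⊓ normalizer (P : Set G) ≤ centralizer (P : Set G)) : NPC p H := by
  obtain ⟨S, hS, -⟩ := hP.exists_sylow
  rw [← hasNPC_iff]
  refine ⟨S, _, inferInstance, MonoidHom.ker_transferSylow_isComplement' S ?_⟩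
  intro g hg
  rw [← S.coe_coe, hS, ← subgroupOf_normalizer_eq hP.le] at hg
  intro y hy
  rw [← S.coe_coe, hS] at hy
  exact Subtype.ext (h ⟨g.2, hg⟩ y hy)

end

end Cfsg.Agent.PLoc
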