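import Mathlib
import Cfsg.Prelude.Def_PLocal
import Cfsg.Prelude.Def_Local

/-!
Basic ambient-subgroup toolkit: conjugate subgroups `cj g H`, products, orders,
`IsSylowOf p P H` (Sylow subgroups of a subgroup, inside the ambient group), Frattini argument.
-/

set_option autoImplicit false

namespace Cfsg.Agent.PLoc

open Subgroup
open scoped commutatorElement Pointwise

variable {G : Type*} [Group G]

/-! ### conjugates -/

/-- the conjugate `g H g⁻¹` -/
def cj (g : G) (H : Subgroup G) : Subgroup G := H.map (MulAut.conj g).toMonoidHom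

theorem cj_def (g : G) (H : Subgroup G) : H.map (MulAut.conj g).toMonoidHom = cj g H := rfl

@[simp] theorem mem_cj {g x : G} {H : Subgroup G} : x ∈ cj g H ↔ g⁻¹ * x * g ∈ H := by
  constructor
  · rintro ⟨y, hy, rfl⟩
    simpa [mul_assoc] using hy
  · intro h
    exact ⟨_, h, by simp [mul_assoc]⟩

theorem conj_mem_cj {g x : G} {H : Subgroup G} : g * x * g⁻¹ ∈ cj g H ↔ x ∈ H := by
  rw [mem_cj]; simp [mul_assoc]

theorem cj_eq_smul (g : G) (H : Subgroup G) : cj g H = MulAut.conj g • H := rfl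

theorem cj_one (H : Subgroup G) : cj 1 H = H := by ext x; simp [mem_cj]

theorem cj_mul (a b : G) (H : Subgroup G) : cj (a * b) H = cj a (cj b H) := by
  ext x; simp [mem_cj, mul_assoc]

theorem cj_inv_cj (a : G) (H : Subgroup G) : cj a⁻¹ (cj a H) = H := by
  rw [← cj_mul, inv_mul_cancel, cj_one]

theorem cj_cj_inv (a : G) (H : Subgroup G) : cj a (cj a⁻¹ H) = H := by
  rw [← cj_mul, mul_inv_cancel, cj_one]

theorem cj_mono (g : G) {H K : Subgroup G} (h : H ≤ K) : cj g H ≤ cj g K := map_mono h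

theorem cj_le_cj_iff {g : G} {H K : Subgroup G} : cj g H ≤ cj g K ↔ H ≤ K :=
  ⟨fun h => by simpa [cj_inv_cj] using cj_mono g⁻¹ h, cj_mono g⟩

theorem cj_injective (g : G) : Function.Injective (cj g : Subgroup G → Subgroup G) := by
  intro H K h
  rw [← cj_inv_cj g H, h, cj_inv_cj]

theorem cj_le_iff {g : G} {H K : Subgroup G} : cj g H ≤ K ↔ H ≤ cj g⁻¹ K := by
  rw [← cj_le_cj_iff (g := g⁻¹), cj_inv_cj]

theorem le_cj_iff {g : G} {H K : Subgroup G} : H ≤ cj g K ↔ cj g⁻¹ H ≤ K := by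
  rw [cj_le_iff, inv_inv]

theorem cj_le_iff' {g : G} {H K : Subgroup G} : cj g H ≤ K ↔ ∀ x ∈ H, g * x * g⁻¹ ∈ K := by
  rw [cj_le_iff]; simp [SetLike.le_def, mem_cj]

theorem cj_eq_self_iff {g : G} {H : Subgroup G} : cj g H = H ↔ g ∈ normalizer (H : Set G) :=
  mem_normalizer_iff_map_conj_eq.symm

theorem cj_eq_of_mem {g : G} {H : Subgroup G} (h : g ∈ H) : cj g H = H :=
  cj_eq_self_iff.mpr (le_normalizer h)

theorem cj_eq_of_normal (g : G) (H : Subgroup G) [H.Normal] : cj g H = H :=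
  cj_eq_self_iff.mpr (by rw [normalizer_eq_top]; trivial)

theorem cj_inf (g : G) (H K : Subgroup G) : cj g (H ⊓ K) = cj g H ⊓ cj g K := by
  ext x; simp [mem_cj]

theorem cj_sup (g : G) (H K : Subgroup G) : cj g (H ⊔ K) = cj g H ⊔ cj g K := map_sup _ _ _

theorem cj_bot (g : G) : cj g (⊥ : Subgroup G) = ⊥ := map_bot _

theorem cj_top (g : G) : cj g (⊤ : Subgroup G) = ⊤ := cj_eq_of_normal _ _

theorem cj_eq_bot_iff {g : G} {H : Subgroup G} : cj g H = ⊥ ↔ H = ⊥ :=
  ⟨fun h => cj_injective g (by rw [h, cj_bot]), fun h => by rw [h, cj_bot]⟩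

theorem cj_commutator (g : G) (H K : Subgroup G) : cj g ⁅H, K⁆ = ⁅cj g H, cj g K⁆ :=
  map_commutator _ _ _

theorem card_cj (g : G) (H : Subgroup G) : Nat.card (cj g H) = Nat.card H :=
  card_map_of_injective (MulAut.conj g).injective

theorem relIndex_cj (g : G) (H K : Subgroup G) : (cj g H).relIndex (cj g K) = H.relIndex K :=
  relIndex_map_map_of_injective _ _ (MulAut.conj g).injective

theorem index_cj (g : G) (H : Subgroup G) : (cj g H).index = H.index := by
  rw [← relIndex_top_right, ← cj_top g, relIndex_cj, relIndex_top_right]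

theorem cj_normalizer (g : G) (H : Subgroup G) :
    cj g (normalizer (H : Set G)) = normalizer (cj g H : Set G) :=
  map_normalizer_eq_of_bijective H (f := (MulAut.conj g).toMonoidHom) (MulAut.conj g).bijective

theorem cj_centralizer (g : G) (H : Subgroup G) :
    cj g (centralizer (H : Set G)) = centralizer (cj g H : Set G) := by
  ext x
  rw [mem_cj, mem_centralizer_iff, mem_centralizer_iff]
  constructor
  · intro h y hy
    have := h _ (mem_cj.mp hy)
    calc y * x = g * (g⁻¹ * y * g * (g⁻¹ * x * g)) * g⁻¹ := by group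
      _ = g * (g⁻¹ * x * g * (g⁻¹ * y * g)) * g⁻¹ := by rw [this]
      _ = x * y := by group
  · intro h y hy
    have := h _ (conj_mem_cj.mpr hy)
    calc y * (g⁻¹ * x * g) = g⁻¹ * (g * y * g⁻¹ * x) * g := by group
      _ = g⁻¹ * (x * (g * y * g⁻¹)) * g := by rw [this]
      _ = g⁻¹ * x * g * y := by group

theorem cj_zpowers (g x : G) : cj g (zpowers x) = zpowers (g * x * g⁻¹) := by
  rw [cj, MonoidHom.map_zpowers]; rfl

theorem isPGroup_cj {p : ℕ} (g : G) {H : Subgroup G} (h : IsPGroup p H) : IsPGroup p (cj g H) :=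
  h.map _

theorem cj_le_of_mem {g : G} {H K : Subgroup G} (hHK : H ≤ K) (hg : g ∈ K) : cj g H ≤ K :=
  (cj_mono g hHK).trans (cj_eq_of_mem hg).le

theorem cj_le_of_mem_normalizer {g : G} {H K : Subgroup G} (hHK : H ≤ K)
    (hg : g ∈ normalizer (K : Set G)) : cj g H ≤ K :=
  (cj_mono g hHK).trans (cj_eq_self_iff.mpr hg).le

theorem map_cj {G' : Type*} [Group G'] (f : G →* G') (g : G) (H : Subgroup G) :
    (cj g H).map f = cj (f g) (H.map f) := by
  rw [cj, cj, map_map, map_map]; congr 1; ext x; simp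

theorem coe_smul_sylow {p : ℕ} (g : G) (P : Sylow p G) :
    ((g • P : Sylow p G) : Subgroup G) = cj g (P : Subgroup G) := rfl

theorem isMulCommutative_cj (g : G) {H : Subgroup G} (h : IsMulCommutative H) :
    IsMulCommutative (cj g H) := by
  rw [← le_centralizer_iff_isMulCommutative, ← cj_centralizer]
  exact cj_mono g (le_centralizer_iff_isMulCommutative.mpr h)

/-! ### normalizers, centralizers -/

theorem mem_normalizer_of_conj_mem [Finite G] {H : Subgroup G} {g : G}
    (h : ∀ x ∈ H, g * x * g⁻¹ ∈ H) : g ∈ normalizer (H : Set G) :=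
  mem_normalizer_fintype (S := (H : Set G)) h

theorem mem_normalizer_of_cj_le [Finite G] {H : Subgroup G} {g : G} (h : cj g H ≤ H) :
    g ∈ normalizer (H : Set G) :=
  mem_normalizer_of_conj_mem (cj_le_iff'.mp h)

theorem conj_mem_of_mem_normalizer {H : Subgroup G} {g x : G} (hg : g ∈ normalizer (H : Set G))
    (hx : x ∈ H) : g * x * g⁻¹ ∈ H := (mem_normalizer_iff.mp hg x).mp hx

theorem conj_mem_of_mem_normalizer' {H : Subgroup G} {g x : G} (hg : g ∈ normalizer (H : Set G))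
    (hx : x ∈ H) : g⁻¹ * x * g ∈ H := (mem_normalizer_iff''.mp hg x).mp hx

theorem normalizer_le_normalizer_centralizer (H : Subgroup G) :
    normalizer (H : Set G) ≤ normalizer (centralizer (H : Set G) : Set G) := by
  intro g hg
  rw [← cj_eq_self_iff, cj_centralizer, cj_eq_self_iff.mpr hg]

theorem normalizer_le_normalizer_normalizer (H : Subgroup G) :
    normalizer (H : Set G) ≤ normalizer (normalizer (H : Set G) : Set G) := le_normalizer

theorem mem_normalizer_inf {H K : Subgroup G} {g : G} (h1 : g ∈ normalizer (H : Set G))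
    (h2 : g ∈ normalizer (K : Set G)) : g ∈ normalizer ((H ⊓ K : Subgroup G) : Set G) :=
  inf_normalizer_le_normalizer_inf ⟨h1, h2⟩

theorem mem_normalizer_sup {H K : Subgroup G} {g : G} (h1 : g ∈ normalizer (H : Set G))
    (h2 : g ∈ normalizer (K : Set G)) : g ∈ normalizer ((H ⊔ K : Subgroup G) : Set G) :=
  normalizer_inf_normalizer_le_normalizer_sup H K ⟨h1, h2⟩

theorem mem_normalizer_commutator {H K : Subgroup G} {g : G} (h1 : g ∈ normalizer (H : Set G))
    (h2 : g ∈ normalizer (K : Set G)) : g ∈ normalizer ((⁅H, K⁆ : Subgroup G) : Set G) := by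
  rw [← cj_eq_self_iff] at *
  rw [cj_commutator, h1, h2]

theorem le_normalizer_inf {A H K : Subgroup G} (h1 : A ≤ normalizer (H : Set G))
    (h2 : A ≤ normalizer (K : Set G)) : A ≤ normalizer ((H ⊓ K : Subgroup G) : Set G) :=
  fun _ hg => mem_normalizer_inf (h1 hg) (h2 hg)

theorem le_normalizer_sup {A H K : Subgroup G} (h1 : A ≤ normalizer (H : Set G))
    (h2 : A ≤ normalizer (K : Set G)) : A ≤ normalizer ((H ⊔ K : Subgroup G) : Set G) :=
  fun _ hg => mem_normalizer_sup (h1 hg) (h2 hg)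

theorem le_normalizer_commutator {A H K : Subgroup G} (h1 : A ≤ normalizer (H : Set G))
    (h2 : A ≤ normalizer (K : Set G)) : A ≤ normalizer ((⁅H, K⁆ : Subgroup G) : Set G) :=
  fun _ hg => mem_normalizer_commutator (h1 hg) (h2 hg)

theorem le_normalizer_centralizer {A H : Subgroup G} (h1 : A ≤ normalizer (H : Set G)) :
    A ≤ normalizer (centralizer (H : Set G) : Set G) :=
  h1.trans (normalizer_le_normalizer_centralizer H)

theorem mem_normalizer_of_normal (H : Subgroup G) [H.Normal] (g : G) :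
    g ∈ normalizer (H : Set G) := by rw [normalizer_eq_top]; trivial

theorem normal_of_top_le_normalizer {H : Subgroup G} (h : ⊤ ≤ normalizer (H : Set G)) : H.Normal :=
  normalizer_eq_top_iff.mp (top_le_iff.mp h)

theorem normal_of_forall_mem_normalizer {H : Subgroup G} (h : ∀ g, g ∈ normalizer (H : Set G)) :
    H.Normal := normal_of_top_le_normalizer fun g _ => h g

theorem mem_sup_of_le_normalizer_right {H N : Subgroup G} (h : H ≤ normalizer (N : Set G)) {x : G} :
    x ∈ H ⊔ N ↔ ∃ y ∈ H, ∃ z ∈ N, y * z = x := by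
  rw [← SetLike.mem_coe, coe_mul_of_left_le_normalizer_right H N h]; rfl

theorem mem_sup_of_le_normalizer_left {N H : Subgroup G} (h : H ≤ normalizer (N : Set G)) {x : G} :
    x ∈ N ⊔ H ↔ ∃ y ∈ N, ∃ z ∈ H, y * z = x := by
  rw [← SetLike.mem_coe, coe_mul_of_right_le_normalizer_left N H h]; rfl

theorem comm_of_mem {H : Subgroup G} (h : IsMulCommutative H) {x y : G} (hx : x ∈ H) (hy : y ∈ H) :
    x * y = y * x :=
  (le_centralizer_iff_isMulCommutative.mpr h hy x hx)

theorem isMulCommutative_of_forall {H : Subgroup G} (h : ∀ x ∈ H, ∀ y ∈ H, x * y = y * x) :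
    IsMulCommutative H :=
  le_centralizer_iff_isMulCommutative.mp fun y hy x hx => h x hx y hy

theorem isMulCommutative_iff_forall {H : Subgroup G} :
    IsMulCommutative H ↔ ∀ x ∈ H, ∀ y ∈ H, x * y = y * x :=
  ⟨fun h _ hx _ hy => comm_of_mem h hx hy, isMulCommutative_of_forall⟩

theorem isMulCommutative_of_le {H K : Subgroup G} (h : IsMulCommutative K) (hle : H ≤ K) :
    IsMulCommutative H :=
  isMulCommutative_of_forall fun _ hx _ hy => comm_of_mem h (hle hx) (hle hy)

theorem centralizer_sup' (H K : Subgroup G) :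
    centralizer ((H ⊔ K : Subgroup G) : Set G) = centralizer (H : Set G) ⊓ centralizer (K : Set G) := by
  apply le_antisymm
  · exact le_inf (centralizer_le (SetLike.coe_subset_coe.mpr le_sup_left))
      (centralizer_le (SetLike.coe_subset_coe.mpr le_sup_right))
  · rw [le_centralizer_iff]
    exact sup_le (le_centralizer_iff.mp inf_le_left) (le_centralizer_iff.mp inf_le_right)

theorem centralizer_zpowers (x : G) :
    centralizer (zpowers x : Set G) = centralizer {x} := by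
  rw [zpowers_eq_closure, centralizer_closure]

theorem centralizer_anti {H K : Subgroup G} (h : H ≤ K) :
    centralizer (K : Set G) ≤ centralizer (H : Set G) := centralizer_le h

theorem isMulCommutative_sup {H K : Subgroup G} (hH : IsMulCommutative H) (hK : IsMulCommutative K)
    (h : H ≤ centralizer (K : Set G)) : IsMulCommutative (H ⊔ K : Subgroup G) := by
  rw [← le_centralizer_iff_isMulCommutative, centralizer_sup'] 
  rw [← le_centralizer_iff_isMulCommutative] at hH hK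
  exact sup_le (le_inf hH h) (le_inf (le_centralizer_iff.mp h) hK)

/-- Dedekind's modular law, normalizer version -/
theorem sup_inf_of_le_normalizer {A N H : Subgroup G} (hA : A ≤ normalizer (N : Set G))
    (hAH : A ≤ H) : (A ⊔ N) ⊓ H = A ⊔ (N ⊓ H) := by
  apply le_antisymm
  · rintro x ⟨hx, hxH⟩
    obtain ⟨a, ha, n, hn, rfl⟩ := (mem_sup_of_le_normalizer_right hA).mp hx
    refine mul_mem_sup ha ⟨hn, ?_⟩
    simpa using H.mul_mem (H.inv_mem (hAH ha)) hxH
  · exact sup_le (le_inf le_sup_left hAH) (inf_le_inf_right _ le_sup_right)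

theorem sup_inf_of_le_normalizer' {A N H : Subgroup G} (hA : A ≤ normalizer (N : Set G))
    (hNH : N ≤ H) : (N ⊔ A) ⊓ H = N ⊔ (A ⊓ H) := by
  apply le_antisymm
  · rintro x ⟨hx, hxH⟩
    obtain ⟨n, hn, a, ha, rfl⟩ := (mem_sup_of_le_normalizer_left hA).mp hx
    refine mul_mem_sup hn ⟨ha, ?_⟩
    simpa using H.mul_mem (H.inv_mem (hNH hn)) hxH
  · exact sup_le (le_inf le_sup_left hNH) (inf_le_inf_right _ le_sup_right)

/-! ### orders -/

theorem card_mul_relIndex {H K : Subgroup G} (h : H ≤ K) :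
    Nat.card H * H.relIndex K = Nat.card K := by
  rw [relIndex, ← (H.subgroupOf K).card_mul_index,
    Nat.card_congr (subgroupOfEquivOfLe h).toEquiv]

theorem card_inf_mul_relIndex (H K : Subgroup G) :
    Nat.card (H ⊓ K : Subgroup G) * H.relIndex K = Nat.card K := by
  rw [← inf_relIndex_right, card_mul_relIndex inf_le_right]

theorem relIndex_pos' [Finite G] (H K : Subgroup G) : 0 < H.relIndex K :=
  Nat.pos_of_ne_zero index_ne_zero_of_finite

theorem index_pos' [Finite G] (H : Subgroup G) : 0 < H.index :=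
  Nat.pos_of_ne_zero index_ne_zero_of_finite

theorem relIndex_sup_of_le_normalizer {H N : Subgroup G} (h : H ≤ normalizer (N : Set G)) :
    N.relIndex (H ⊔ N) = N.relIndex H := by
  have hN : (N.subgroupOf (H ⊔ N)).Normal := normal_subgroupOf_of_le_normalizer (sup_le h le_normalizer)
  have := relIndex_sup_right (H.subgroupOf (H ⊔ N)) (N.subgroupOf (H ⊔ N))
  rw [← subgroupOf_sup le_sup_left le_sup_right, subgroupOf_self, relIndex_top_right,
    relIndex_subgroupOf le_sup_left] at this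
  exact this

theorem card_sup_mul_card_inf {H N : Subgroup G} (h : H ≤ normalizer (N : Set G)) :
    Nat.card (H ⊔ N : Subgroup G) * Nat.card (H ⊓ N : Subgroup G) = Nat.card H * Nat.card N := by
  rw [← card_mul_relIndex (le_sup_right : N ≤ H ⊔ N), relIndex_sup_of_le_normalizer h,
    ← card_inf_mul_relIndex N H, inf_comm N H]
  ring

theorem card_sup_dvd {H N : Subgroup G} (h : H ≤ normalizer (N : Set G)) :
    Nat.card (H ⊔ N : Subgroup G) ∣ Nat.card H * Nat.card N :=
  ⟨_, (card_sup_mul_card_inf h).symm⟩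

theorem card_sup_of_disjoint {H N : Subgroup G} (h : H ≤ normalizer (N : Set G))
    (hd : H ⊓ N = ⊥) : Nat.card (H ⊔ N : Subgroup G) = Nat.card H * Nat.card N := by
  rw [← card_sup_mul_card_inf h, hd, card_bot, mul_one]

theorem card_lt_of_lt [Finite G] {H K : Subgroup G} (h : H < K) : Nat.card H < Nat.card K :=
  lt_of_le_of_ne (card_le_of_le h.le) fun e => h.ne (eq_of_le_of_card_ge h.le e.ge)

theorem card_lt_of_ne_top [Finite G] {H : Subgroup G} (h : H ≠ ⊤) : Nat.card H < Nat.card G := by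
  rw [← card_top (G := G)]; exact card_lt_of_lt (lt_top_iff_ne_top.mpr h)

theorem card_quotient_lt [Finite G] {N : Subgroup G} (h : N ≠ ⊥) : Nat.card (G ⧸ N) < Nat.card G := by
  rw [← N.card_mul_index, ← index_eq_card]
  have : 1 < Nat.card N := (one_lt_card_iff_ne_bot N).mpr h
  have := index_pos' N
  nlinarith

theorem card_map_mul_card_ker_inf {G' : Type*} [Group G'] (f : G →* G') (H : Subgroup G) :
    Nat.card (H.map f) * Nat.card (f.ker ⊓ H : Subgroup G) = Nat.card H := by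
  rw [← relIndex_ker, mul_comm, card_inf_mul_relIndex]

theorem card_map_mk (N H : Subgroup G) [N.Normal] :
    Nat.card (H.map (QuotientGroup.mk' N)) = N.relIndex H := by
  rw [← relIndex_ker, QuotientGroup.ker_mk']

theorem mem_of_pow_mem_of_coprime {H : Subgroup G} {x : G} {n : ℕ} (h : x ^ n ∈ H)
    (hc : (orderOf x).Coprime n) : x ∈ H :=
  (zpowers_le.mpr h) (mem_zpowers_pow_iff.mpr hc.symm)

theorem pow_relIndex_mem' {H K : Subgroup G} (h : K ≤ normalizer (H : Set G)) {x : G} (hx : x ∈ K) :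
    x ^ H.relIndex K ∈ H := by
  have hN : (H.subgroupOf K).Normal := normal_subgroupOf_of_le_normalizer h
  exact (H.subgroupOf K).pow_index_mem ⟨x, hx⟩

theorem orderOf_dvd_card_of_mem {H : Subgroup G} {x : G} (hx : x ∈ H) : orderOf x ∣ Nat.card H :=
  Subgroup.orderOf_dvd_natCard H hx

theorem isPGroup_iff_forall {p : ℕ} {H : Subgroup G} :
    IsPGroup p H ↔ ∀ x ∈ H, ∃ k : ℕ, x ^ p ^ k = 1 := by
  simp [IsPGroup, Subtype.ext_iff]

theorem IsPGroup_orderOf {p : ℕ} [Fact p.Prime] {H : Subgroup G} (h : IsPGroup p H) {x : G}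
    (hx : x ∈ H) : ∃ k, orderOf x = p ^ k := by
  obtain ⟨k, hk⟩ := IsPGroup.iff_orderOf.mp h ⟨x, hx⟩
  exact ⟨k, by simpa using hk⟩

theorem eq_one_of_isPGroup_of_coprime {p : ℕ} {H : Subgroup G} (h : IsPGroup p H)
    {x : G} (hx : x ∈ H) (hc : (orderOf x).Coprime p) : x = 1 := by
  obtain ⟨k, hk⟩ := isPGroup_iff_forall.mp h x hx
  have : x ∈ (⊥ : Subgroup G) := mem_of_pow_mem_of_coprime (n := p ^ k) (by simp [hk]) (hc.pow_right k)
  simpa using this

theorem isPGroup_zpowers {p : ℕ} {x : G} {k : ℕ} (h : x ^ p ^ k = 1) : IsPGroup p (zpowers x) := by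
  rw [isPGroup_iff_forall]
  rintro _ ⟨n, rfl⟩
  refine ⟨k, ?_⟩
  show (x ^ n) ^ p ^ k = 1
  rw [← zpow_natCast, ← zpow_mul, mul_comm, zpow_mul, zpow_natCast, h, one_zpow]

theorem exists_mem_orderOf_eq_prime [Finite G] {H : Subgroup G} {p : ℕ} (hp : p.Prime)
    (h : p ∣ Nat.card H) : ∃ x ∈ H, orderOf x = p := by
  have := Fact.mk hp
  obtain ⟨x, hx⟩ := exists_prime_orderOf_dvd_card' p h
  exact ⟨x, x.2, by simpa using hx⟩

theorem coprime_card_iff [Finite G] {H : Subgroup G} {p : ℕ} (hp : p.Prime) :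
    (Nat.card H).Coprime p ↔ ∀ x ∈ H, (orderOf x).Coprime p := by
  constructor
  · intro h x hx
    exact h.coprime_dvd_left (orderOf_dvd_card_of_mem hx)
  · intro h
    rw [Nat.coprime_comm, hp.coprime_iff_not_dvd]
    intro hd
    obtain ⟨x, hx, ho⟩ := exists_mem_orderOf_eq_prime hp hd
    have := h x hx
    rw [ho, Nat.coprime_self] at this
    exact hp.ne_one this

theorem inf_eq_bot_of_isPGroup_of_coprime {p : ℕ} {P K : Subgroup G} (hP : IsPGroup p P)
    (hK : (Nat.card K).Coprime p) : P ⊓ K = ⊥ := by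
  rw [eq_bot_iff]
  rintro x ⟨h1, h2⟩
  exact eq_one_of_isPGroup_of_coprime hP h1 (hK.coprime_dvd_left (orderOf_dvd_card_of_mem h2))

theorem coprime_card_of_isPGroup [Finite G] {p n : ℕ} [Fact p.Prime] {P : Subgroup G}
    (hP : IsPGroup p P) (hn : n.Coprime p) : n.Coprime (Nat.card P) := by
  obtain ⟨k, hk⟩ := hP.exists_card_eq
  rw [hk]; exact hn.pow_right k

theorem eq_bot_of_isPGroup_of_coprime {p : ℕ} {P : Subgroup G} (hP : IsPGroup p P)
    (hK : (Nat.card P).Coprime p) : P = ⊥ := by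
  simpa using inf_eq_bot_of_isPGroup_of_coprime hP hK

/-- decomposition of an element into its `p`-part and `p'`-part -/
theorem exists_p_part [Finite G] (p : ℕ) [hp : Fact p.Prime] (g : G) :
    ∃ a ∈ zpowers g, ∃ b ∈ zpowers g, g = a * b ∧ a * b = b * a ∧ (∃ k, a ^ p ^ k = 1) ∧
      (orderOf b).Coprime p := by
  obtain ⟨e, m, hm, hn⟩ := Nat.exists_eq_pow_mul_and_not_dvd (orderOf_pos g).ne' p hp.out.ne_one
  have hc : Nat.Coprime (p ^ e) m := (hp.out.coprime_iff_not_dvd.mpr hm).pow_left e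
  have hb := Nat.gcd_eq_gcd_ab (p ^ e) m
  rw [hc] at hb
  refine ⟨g ^ ((m : ℤ) * Nat.gcdB (p ^ e) m), zpow_mem_zpowers _ _,
    g ^ (((p ^ e : ℕ) : ℤ) * Nat.gcdA (p ^ e) m), zpow_mem_zpowers _ _, ?_, ?_, ⟨e, ?_⟩, ?_⟩
  · rw [← zpow_add, add_comm, ← hb]; simp
  · rw [← zpow_add, ← zpow_add, add_comm]
  · rw [← zpow_natCast, ← zpow_mul, ← orderOf_dvd_iff_zpow_eq_one, hn]
    exact ⟨Nat.gcdB (p ^ e) m, by push_cast; ring⟩
  · have : orderOf (g ^ (((p ^ e : ℕ) : ℤ) * Nat.gcdA (p ^ e) m)) ∣ m := by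
      rw [orderOf_dvd_iff_pow_eq_one, ← zpow_natCast, ← zpow_mul, ← orderOf_dvd_iff_zpow_eq_one, hn]
      exact ⟨Nat.gcdA (p ^ e) m, by push_cast; ring⟩
    exact ((hp.out.coprime_iff_not_dvd.mpr hm).symm).coprime_dvd_left this

theorem isPGroup_of_forall_coprime [Finite G] {p : ℕ} [hp : Fact p.Prime] {H : Subgroup G}
    (h : ∀ x ∈ H, (orderOf x).Coprime p → x = 1) : IsPGroup p H := by
  rw [isPGroup_iff_forall]
  intro x hx
  obtain ⟨a, -, b, hb, e, -, hk, hc⟩ := exists_p_part p x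
  rw [h b (zpowers_le.mpr hx hb) hc, mul_one] at e
  rwa [e]

theorem isPGroup_top_iff {p : ℕ} : IsPGroup p (⊤ : Subgroup G) ↔ IsPGroup p G :=
  ⟨fun h => h.of_equiv topEquiv, fun h => h.to_subgroup ⊤⟩

theorem orderOf_conj' (g x : G) : orderOf (g * x * g⁻¹) = orderOf x :=
  orderOf_injective (MulAut.conj g).toMonoidHom (MulAut.conj g).injective x

theorem isPGroup_quotient_iff [Finite G] {p : ℕ} [Fact p.Prime] {N : Subgroup G} [N.Normal] :
    IsPGroup p (G ⧸ N) ↔ ∃ k, N.index = p ^ k := IsPGroup.iff_card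

theorem relIndex_eq_pow_of_isPGroup [Finite G] {p : ℕ} [Fact p.Prime] {P : Subgroup G}
    (hP : IsPGroup p P) (H : Subgroup G) : ∃ k, H.relIndex P = p ^ k :=
  hP.index _

theorem isPGroup_of_relIndex [Finite G] {p : ℕ} [Fact p.Prime] {N H : Subgroup G}
    (hN : IsPGroup p N) (h : ∃ k, N.relIndex H = p ^ k) : IsPGroup p H := by
  obtain ⟨k, hk⟩ := h
  obtain ⟨m, hm⟩ := (hN.to_inf_left (K := H)).exists_card_eq
  exact IsPGroup.of_card (n := m + k) (by rw [← card_inf_mul_relIndex N H, hm, hk, pow_add])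

/-! ### Sylow subgroups of subgroups -/

/-- `P` is a Sylow `p`-subgroup of the subgroup `H`. -/
structure IsSylowOf (p : ℕ) (P H : Subgroup G) : Prop where
  le : P ≤ H
  isP : IsPGroup p P
  not_dvd : ¬ p ∣ P.relIndex H

section Sylow

variable {p : ℕ} [hp : Fact p.Prime] [Finite G]

theorem isSylowOf_map_subtype {H : Subgroup G} (S : Sylow p H) :
    IsSylowOf p ((S : Subgroup H).map H.subtype) H := by
  refine ⟨map_subtype_le _, S.2.map _, ?_⟩
  have : ((S : Subgroup H).map H.subtype).subgroupOf H = S :=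
    comap_map_eq_self_of_injective H.subtype_injective _
  rw [relIndex, this]
  exact S.not_dvd_index

theorem IsSylowOf.exists_sylow {P H : Subgroup G} (h : IsSylowOf p P H) :
    ∃ S : Sylow p H, (S : Subgroup H) = P.subgroupOf H ∧ (S : Subgroup H).map H.subtype = P :=
  ⟨(h.isP.comap_subtype (K := H)).toSylow h.not_dvd, rfl, map_subgroupOf_eq_of_le h.le⟩

theorem isSylowOf_sylow (S : Sylow p G) {H : Subgroup G} (h : (S : Subgroup G) ≤ H) :
    IsSylowOf p S H :=
  ⟨h, S.2, fun hd => S.not_dvd_index (hd.trans (relIndex_dvd_index_of_le h))⟩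

theorem isSylowOf_top (S : Sylow p G) : IsSylowOf p (S : Subgroup G) ⊤ := isSylowOf_sylow S le_top

theorem IsSylowOf.exists_sylow_top {P : Subgroup G} (h : IsSylowOf p P ⊤) :
    ∃ S : Sylow p G, (S : Subgroup G) = P :=
  ⟨h.isP.toSylow (by simpa using h.not_dvd), rfl⟩

theorem exists_isSylowOf_ge {Q H : Subgroup G} (hQ : IsPGroup p Q) (hQH : Q ≤ H) :
    ∃ P, IsSylowOf p P H ∧ Q ≤ P := by
  obtain ⟨S, hS⟩ := (hQ.comap_subtype (K := H)).exists_le_sylow
  refine ⟨_, isSylowOf_map_subtype S, ?_⟩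
  rw [← map_subgroupOf_eq_of_le hQH]
  exact map_mono hS

variable (p) in
theorem exists_isSylowOf (H : Subgroup G) : ∃ P, IsSylowOf p P H :=
  (exists_isSylowOf_ge IsPGroup.of_bot bot_le).imp fun _ h => h.1

theorem IsSylowOf.eq_of_le {P Q H : Subgroup G} (h : IsSylowOf p P H) (hQ : IsPGroup p Q)
    (hQH : Q ≤ H) (hPQ : P ≤ Q) : Q = P := by
  obtain ⟨k, hk⟩ := relIndex_eq_pow_of_isPGroup hQ P
  have h1 : P.relIndex Q ∣ P.relIndex H := ⟨_, (relIndex_mul_relIndex P Q H hPQ hQH).symm⟩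
  rcases k with _ | k
  · exact le_antisymm (relIndex_eq_one.mp (by simpa using hk)) hPQ
  · exact absurd ((dvd_pow_self p (Nat.succ_ne_zero k)).trans (hk ▸ h1)) h.not_dvd

theorem isSylowOf_of_maximal {P H : Subgroup G} (hP : IsPGroup p P) (hPH : P ≤ H)
    (h : ∀ Q : Subgroup G, IsPGroup p Q → Q ≤ H → P ≤ Q → Q = P) : IsSylowOf p P H := by
  obtain ⟨Q, hQ, hPQ⟩ := exists_isSylowOf_ge hP hPH
  rwa [h Q hQ.isP hQ.le hPQ] at hQ

theorem IsSylowOf.exists_cj_eq {P Q H : Subgroup G} (hP : IsSylowOf p P H) (hQ : IsSylowOf p Q H) :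
    ∃ h ∈ H, cj h P = Q := by
  obtain ⟨S, -, rfl⟩ := hP.exists_sylow
  obtain ⟨T, -, rfl⟩ := hQ.exists_sylow
  obtain ⟨h, rfl⟩ := MulAction.exists_smul_eq H S T
  exact ⟨h, h.2, by rw [coe_smul_sylow, map_cj]; rfl⟩

theorem IsSylowOf.exists_cj_le {P Q H : Subgroup G} (hP : IsSylowOf p P H) (hQ : IsPGroup p Q)
    (hQH : Q ≤ H) : ∃ h ∈ H, cj h Q ≤ P := by
  obtain ⟨R, hR, hQR⟩ := exists_isSylowOf_ge hQ hQH
  obtain ⟨h, hh, e⟩ := hR.exists_cj_eq hP
  exact ⟨h, hh, e ▸ cj_mono h hQR⟩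

omit hp [Finite G] in
theorem IsSylowOf.cj {P H : Subgroup G} (hP : IsSylowOf p P H) (g : G) :
    IsSylowOf p (cj g P) (cj g H) :=
  ⟨cj_mono g hP.le, isPGroup_cj g hP.isP, by rw [relIndex_cj]; exact hP.not_dvd⟩

omit hp [Finite G] in
theorem IsSylowOf.cj_of_mem_normalizer {P H : Subgroup G} (hP : IsSylowOf p P H) {g : G}
    (hg : g ∈ normalizer (H : Set G)) : IsSylowOf p (PLoc.cj g P) H := by
  simpa [cj_eq_self_iff.mpr hg] using hP.cj g

omit hp [Finite G] in
theorem IsSylowOf.of_le {P K H : Subgroup G} (hP : IsSylowOf p P H) (hPK : P ≤ K) (hKH : K ≤ H) :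
    IsSylowOf p P K :=
  ⟨hPK, hP.isP, fun hd => hP.not_dvd (hd.trans ⟨_, (relIndex_mul_relIndex P K H hPK hKH).symm⟩)⟩

theorem IsSylowOf.card_eq {P H : Subgroup G} (hP : IsSylowOf p P H) :
    Nat.card P = p ^ (Nat.card H).factorization p := by
  obtain ⟨S, -, rfl⟩ := hP.exists_sylow
  rw [card_subtype, S.card_eq_multiplicity]

theorem IsSylowOf.card_eq_card {P Q H : Subgroup G} (hP : IsSylowOf p P H) (hQ : IsSylowOf p Q H) :
    Nat.card P = Nat.card Q := by rw [hP.card_eq, hQ.card_eq]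

theorem IsSylowOf.card_le {P Q H : Subgroup G} (hP : IsSylowOf p P H) (hQ : IsPGroup p Q)
    (hQH : Q ≤ H) : Nat.card Q ≤ Nat.card P := by
  obtain ⟨h, -, hh⟩ := hP.exists_cj_le hQ hQH
  rw [← card_cj h Q]; exact card_le_of_le hh

theorem IsSylowOf.of_card_ge {P Q H : Subgroup G} (hP : IsSylowOf p P H) (hQ : IsPGroup p Q)
    (hQH : Q ≤ H) (hc : Nat.card P ≤ Nat.card Q) : IsSylowOf p Q H := by
  obtain ⟨R, hR, hQR⟩ := exists_isSylowOf_ge hQ hQH
  rwa [← eq_of_le_of_card_ge hQR (by rw [hR.card_eq_card hP]; exact hc)] at hR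

omit hp [Finite G] in
/-- a Sylow subgroup meets a normal subgroup in a Sylow subgroup -/
theorem IsSylowOf.inf_normal {P H N : Subgroup G} (hP : IsSylowOf p P H)
    (hN : P ≤ normalizer ((H ⊓ N : Subgroup G) : Set G)) [Finite G] :
    IsSylowOf p (P ⊓ N) (H ⊓ N) := by
  refine ⟨inf_le_inf_right _ hP.le, hP.isP.to_inf_left, fun hd => hP.not_dvd (hd.trans ?_)⟩
  have h1 : (P ⊓ N).relIndex (H ⊓ N) = P.relIndex (P ⊔ (H ⊓ N)) := by
    have e1 := card_mul_relIndex (inf_le_inf_right N hP.le)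
    have e2 := card_mul_relIndex (le_sup_left : P ≤ P ⊔ (H ⊓ N))
    have e3 := card_sup_mul_card_inf hN
    rw [← inf_assoc, inf_eq_left.mpr hP.le, ← e1, ← e2] at e3
    have p1 : 0 < Nat.card P := Nat.card_pos
    have p2 : 0 < Nat.card (P ⊓ N : Subgroup G) := Nat.card_pos
    have : Nat.card P * Nat.card (P ⊓ N : Subgroup G) * P.relIndex (P ⊔ (H ⊓ N)) =
      Nat.card P * Nat.card (P ⊓ N : Subgroup G) * (P ⊓ N).relIndex (H ⊓ N) := by linarith
    exact (Nat.eq_of_mul_eq_mul_left (Nat.mul_pos p1 p2) this).symm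
  rw [h1]
  exact ⟨_, (relIndex_mul_relIndex P _ H le_sup_left (sup_le hP.le inf_le_left)).symm⟩

omit hp in
theorem IsSylowOf.inf_of_le {P H N : Subgroup G} (hP : IsSylowOf p P H) (hNH : N ≤ H)
    (hN : P ≤ normalizer (N : Set G)) : IsSylowOf p (P ⊓ N) N := by
  have := hP.inf_normal (N := N) (by rwa [inf_eq_right.mpr hNH])
  rwa [inf_eq_right.mpr hNH] at this

theorem isSylowOf_inf_normal (S : Sylow p G) (N : Subgroup G) [N.Normal] :
    IsSylowOf p ((S : Subgroup G) ⊓ N) N :=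
  (isSylowOf_top S).inf_of_le le_top le_normalizer_of_normal

omit hp in
theorem IsSylowOf.map {G' : Type*} [Group G'] (f : G →* G') {P H : Subgroup G}
    (hP : IsSylowOf p P H) : IsSylowOf p (P.map f) (H.map f) := by
  refine ⟨map_mono hP.le, hP.isP.map f, fun hd => hP.not_dvd (hd.trans ?_)⟩
  have e : (P.map f).relIndex (H.map f) = ((P.map f).comap f).relIndex H := (relIndex_comap _ _ _).symm
  rw [e]
  exact relIndex_dvd_of_le_left _ (le_comap_map f P)

omit hp [Finite G] in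
theorem IsSylowOf.subgroupOf {P H K : Subgroup G} (hP : IsSylowOf p P H) (hHK : H ≤ K) :
    IsSylowOf p (P.subgroupOf K) (H.subgroupOf K) :=
  ⟨comap_mono hP.le, hP.isP.comap_subtype, by rw [relIndex_subgroupOf hHK]; exact hP.not_dvd⟩

theorem IsSylowOf.le_of_le_normalizer {P Q H : Subgroup G} (hP : IsSylowOf p P H) (hQ : IsPGroup p Q)
    (hQH : Q ≤ H) (h : Q ≤ normalizer (P : Set G)) : Q ≤ P := by
  have := hP.eq_of_le (hQ.to_sup_of_normal_right' hP.isP h) (sup_le hQH hP.le) le_sup_right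
  exact le_sup_left.trans this.le

theorem IsSylowOf.le_of_normalizes {P Q H : Subgroup G} (hP : IsSylowOf p P H) (hQ : IsPGroup p Q)
    (hQH : Q ≤ H) (h : P ≤ normalizer (Q : Set G)) : Q ≤ P := by
  have := hP.eq_of_le (hP.isP.to_sup_of_normal_right' hQ h) (sup_le hP.le hQH) le_sup_left
  exact le_sup_right.trans this.le

/-- Frattini argument -/
theorem IsSylowOf.frattini {P N : Subgroup G} (hP : IsSylowOf p P N) {h : G}
    (hh : h ∈ normalizer (N : Set G)) : ∃ n ∈ N, ∃ x ∈ normalizer (P : Set G), h = n * x := by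
  obtain ⟨n, hn, e⟩ := hP.exists_cj_eq (hP.cj_of_mem_normalizer hh)
  refine ⟨n, hn, n⁻¹ * h, ?_, by group⟩
  rw [← cj_eq_self_iff, cj_mul, ← e, cj_inv_cj]

theorem IsSylowOf.frattini' {P N : Subgroup G} (hP : IsSylowOf p P N) {h : G}
    (hh : h ∈ normalizer (N : Set G)) : ∃ x ∈ normalizer (P : Set G), ∃ n ∈ N, h = x * n := by
  obtain ⟨n, hn, x, hx, e⟩ := hP.frattini (inv_mem hh)
  exact ⟨x⁻¹, inv_mem hx, n⁻¹, inv_mem hn, by rw [← mul_inv_rev, ← e, inv_inv]⟩

theorem IsSylowOf.frattini_sup {P N : Subgroup G} [N.Normal] (hP : IsSylowOf p P N) :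
    N ⊔ normalizer (P : Set G) = ⊤ := by
  rw [eq_top_iff]
  intro g _
  obtain ⟨n, hn, x, hx, rfl⟩ := hP.frattini (mem_normalizer_of_normal N g)
  exact mul_mem_sup hn hx

theorem IsSylowOf.eq_bot_iff {P H : Subgroup G} (hP : IsSylowOf p P H) :
    P = ⊥ ↔ (Nat.card H).Coprime p := by
  constructor
  · rintro rfl
    have := hP.not_dvd
    rw [relIndex_bot_left] at this
    exact (hp.out.coprime_iff_not_dvd.mpr this).symm
  · intro h
    exact eq_bot_of_isPGroup_of_coprime hP.isP (h.coprime_dvd_left (card_dvd_of_le hP.le))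

theorem IsSylowOf.coprime_relIndex {P H : Subgroup G} (hP : IsSylowOf p P H) :
    (P.relIndex H).Coprime p := (hp.out.coprime_iff_not_dvd.mpr hP.not_dvd).symm

/-- `H = P N` when `N` is normal of `p`-power index in `H` and `P` is Sylow in `H`. -/
theorem IsSylowOf.sup_eq_of_relIndex {P H N : Subgroup G} (hP : IsSylowOf p P H) (hNH : N ≤ H)
    (h : ∃ k, N.relIndex H = p ^ k) : P ⊔ N = H := by
  obtain ⟨k, hk⟩ := h
  have hle : P ⊔ N ≤ H := sup_le hP.le hNH
  have h1 : (P ⊔ N).relIndex H ∣ p ^ k := hk ▸ relIndex_dvd_of_le_left _ le_sup_right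
  have h2 : (P ⊔ N).relIndex H ∣ P.relIndex H := relIndex_dvd_of_le_left _ le_sup_left
  have := Nat.eq_one_of_dvd_coprimes (hP.coprime_relIndex.pow_right k) h2 h1
  exact le_antisymm hle (relIndex_eq_one.mp this)

theorem sylow_sup_eq_top_of_index (P : Sylow p G) {N : Subgroup G} (h : ∃ k, N.index = p ^ k) :
    (P : Subgroup G) ⊔ N = ⊤ :=
  (isSylowOf_top P).sup_eq_of_relIndex le_top (by simpa using h)

/-- In a finite `p`-group normalizers grow (ambient form). -/
theorem exists_mem_normalizer_not_mem {P Q : Subgroup G} (hP : IsPGroup p P) (hQ : Q < P) :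
    ∃ x ∈ P, x ∈ normalizer (Q : Set G) ∧ x ∉ Q := by
  have := hP.isNilpotent
  have h1 : Q.subgroupOf P < ⊤ := by
    rw [lt_top_iff_ne_top, Ne, subgroupOf_eq_top]; exact hQ.not_ge
  obtain ⟨x, hx, hx'⟩ := SetLike.exists_of_lt (Group.normalizerCondition_of_isNilpotent _ h1)
  rw [← subgroupOf_normalizer_eq hQ.le] at hx
  exact ⟨x, x.2, hx, hx'⟩

theorem lt_inf_normalizer {P Q : Subgroup G} (hP : IsPGroup p P) (hQ : Q < P) :
    Q < P ⊓ normalizer (Q : Set G) := by
  obtain ⟨x, h1, h2, h3⟩ := exists_mem_normalizer_not_mem hP hQ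
  exact lt_of_le_of_ne (le_inf hQ.le le_normalizer) fun e => h3 (e ▸ ⟨h1, h2⟩)

/-- a `p`-subgroup that is Sylow in its normalizer (within `H`) is Sylow in `H` -/
theorem isSylowOf_of_normalizer {P H : Subgroup G} (hP : IsSylowOf p P (H ⊓ normalizer (P : Set G))) :
    IsSylowOf p P H := by
  refine isSylowOf_of_maximal hP.isP (hP.le.trans inf_le_left) fun Q hQ hQH hPQ => ?_
  by_contra hne
  have hlt := lt_inf_normalizer hQ (lt_of_le_of_ne hPQ (Ne.symm hne))
  exact hlt.ne' (hP.eq_of_le hQ.to_inf_left (inf_le_inf_right _ hQH) hlt.le)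

end Sylow

end Cfsg.Agent.PLoc
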