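import Cfsg.Agent.BG.S04a
import Cfsg.Agent.Inv.Two
/-!
Regular `p`-groups (P. Hall), uniserial action and `p`-groups of maximal class.
-/
set_option autoImplicit false

namespace Cfsg.Agent.PLoc.MC
open Subgroup Cfsg.Agent.BG

variable {G : Type*} [Group G] {A B H K N : Subgroup G} {p q n : ℕ} {a b x y : G}

/-- closure of the `q`-th powers -/
def Pw (q : ℕ) (H : Subgroup G) : Subgroup G := closure {y : G | ∃ x ∈ H, y = x ^ q}

theorem pow_mem_Pw (h : x ∈ H) : x ^ q ∈ Pw q H := subset_closure ⟨x, h, rfl⟩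
theorem Pw_le_iff : Pw q H ≤ K ↔ ∀ x ∈ H, x ^ q ∈ K := by
  rw [Pw, closure_le]
  exact ⟨fun h x hx => h ⟨x, hx, rfl⟩, fun h y ⟨x, hx, e⟩ => e ▸ h x hx⟩
theorem Pw_mono (h : H ≤ K) : Pw q H ≤ Pw q K := Pw_le_iff.2 fun _ hx => pow_mem_Pw (h hx)
theorem Pw_le (q : ℕ) (H : Subgroup G) : Pw q H ≤ H := Pw_le_iff.2 fun _ hx => H.pow_mem hx q

/-- the subgroup generated by two elements -/
abbrev gen (a b : G) : Subgroup G := closure ({a, b} : Set G)
theorem gen_l (a b : G) : a ∈ gen a b := subset_closure (by simp)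
theorem gen_r (a b : G) : b ∈ gen a b := subset_closure (by simp)
theorem gen_le (ha : a ∈ K) (hb : b ∈ K) : gen a b ≤ K := by
  rw [closure_le]; rintro x (rfl | rfl) <;> assumption

def Reg (q : ℕ) (G : Type*) [Group G] : Prop :=
  ∀ a b : G, ∃ c ∈ Pw q ⁅gen a b, gen a b⁆, (a * b) ^ q = a ^ q * b ^ q * c

theorem Reg.mul [Finite G] (h : Reg q G) (hG : Nil (⊤ : Subgroup G)) (K : Subgroup G) :
    ∀ a ∈ K, ∀ b ∈ K, ∃ c ∈ K, a ^ q * b ^ q = c ^ q := by
  induction K using lt_wf_ind with | h K ih => ?_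
  have set : ∀ L < K, ∀ y ∈ Pw q L, ∃ x ∈ L, y = x ^ q := by
    intro L hL y hy
    induction hy using closure_induction with
    | mem y hy => exact hy
    | one => exact ⟨1, one_mem _, by simp⟩
    | mul y z _ _ hy hz =>
      obtain ⟨u, hu, rfl⟩ := hy
      obtain ⟨v, hv, rfl⟩ := hz
      exact ih L hL u hu v hv
    | inv y _ hy =>
      obtain ⟨u, hu, rfl⟩ := hy
      exact ⟨u⁻¹, inv_mem hu, by simp⟩
  intro a ha b hb
  have hle := gen_le ha hb
  by_cases hc : a * b = b * a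
  · exact ⟨a * b, mul_mem ha hb, ((Commute.mul_pow hc q)).symm⟩
  have hH : Nil (gen a b) := hG.of_le le_top
  have hne : gen a b ≠ ⊥ := fun e => hc (by
    have h1 : a = 1 := by simpa [e] using gen_l a b
    simp [h1])
  obtain ⟨c, hc1, e⟩ := h a b
  obtain ⟨d, hd, rfl⟩ := set _ ((hH.sol.der_lt hne).trans_le hle) c hc1
  have hL : zpowers (a * b) ⊔ ⁅gen a b, gen a b⁆ < gen a b := by
    refine lt_of_le_of_ne (sup_le ((zpowers_le_of_mem (mul_mem (gen_l a b) (gen_r a b))))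
      (der_le _)) fun e => hc ?_
    have := hH.eq_of_sup_der (zpowers_le_of_mem (mul_mem (gen_l a b) (gen_r a b))) e.ge
    exact mem_C_comm (abel_zpowers (a * b)) (this ▸ gen_l a b) (this ▸ gen_r a b)
  obtain ⟨c, hc2, e2⟩ := ih _ (hL.trans_le hle) (a * b) (mem_sup_left (mem_zpowers _)) d⁻¹
    (mem_sup_right (inv_mem hd))
  exact ⟨c, hle (hL.le hc2), by rw [← e2, e]; simp⟩

theorem Reg.mem_Pw [Finite G] (h : Reg q G) (hG : Nil (⊤ : Subgroup G)) :
    y ∈ Pw q K ↔ ∃ x ∈ K, y = x ^ q := by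
  refine ⟨fun hy => ?_, fun ⟨x, hx, e⟩ => e ▸ pow_mem_Pw hx⟩
  induction hy using closure_induction with
  | mem y hy => exact hy
  | one => exact ⟨1, one_mem _, by simp⟩
  | mul y z _ _ hy hz =>
    obtain ⟨u, hu, rfl⟩ := hy
    obtain ⟨v, hv, rfl⟩ := hz
    exact h.mul hG K u hu v hv
  | inv y _ hy =>
    obtain ⟨u, hu, rfl⟩ := hy
    exact ⟨u⁻¹, inv_mem hu, by simp⟩

theorem Reg.comm_le [Finite G] (h : Reg q G) (hG : Nil (⊤ : Subgroup G)) (H : Subgroup G) :
    ⁅Pw q H, H⁆ ≤ Pw q ⁅H, H⁆ := by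
  rw [commC, comm_le_iff]
  intro y hy z hz
  obtain ⟨x, hx, rfl⟩ := (h.mem_Pw hG).1 hz
  -- y x⁻¹ y⁻¹ = x⁻¹ * c
  have hc : x * y * x⁻¹ * y⁻¹ ∈ ⁅H, H⁆ := comm_mem hx hy
  obtain ⟨d, hd, e⟩ := h x⁻¹ (x * y * x⁻¹ * y⁻¹)
  have hd' : d ∈ Pw q ⁅H, H⁆ := Pw_mono (derS (gen_le (inv_mem hx) (der_le H hc))) hd
  have e1 : x⁻¹ * (x * y * x⁻¹ * y⁻¹) = y * x⁻¹ * y⁻¹ := by group
  rw [e1, conj_pow, inv_pow] at e
  have h1 : x ^ q * (y * (x ^ q)⁻¹ * y⁻¹) ∈ Pw q ⁅H, H⁆ := by
    rw [e, ← mul_assoc, ← mul_assoc, mul_inv_cancel, one_mul]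
    exact mul_mem (pow_mem_Pw hc) hd'
  have := inv_mem h1
  convert this using 1
  group

theorem Reg.succ [Finite G] (h : Reg p G) (hG : Nil (⊤ : Subgroup G)) (hq : Reg q G) :
    Reg (p * q) G := by
  intro a b
  set H := gen a b
  have key : ∀ u ∈ Pw p H, ∀ v ∈ Pw p H, Pw q ⁅gen u v, gen u v⁆ ≤ Pw (p * q) ⁅H, H⁆ := by
    intro u hu v hv
    have h1 : ⁅gen u v, gen u v⁆ ≤ Pw p ⁅H, H⁆ :=
      (commS (gen_le hu hv) ((gen_le hu hv).trans (Pw_le _ _))).trans (h.comm_le hG H)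
    refine Pw_le_iff.2 fun x hx => ?_
    obtain ⟨z, hz, rfl⟩ := (h.mem_Pw hG).1 (h1 hx)
    rw [← pow_mul]
    exact pow_mem_Pw hz
  obtain ⟨c, hc, e⟩ := h a b
  obtain ⟨d, hd, rfl⟩ := (h.mem_Pw hG).1 hc
  have ha : a ^ p ∈ Pw p H := pow_mem_Pw (gen_l a b)
  have hb : b ^ p ∈ Pw p H := pow_mem_Pw (gen_r a b)
  have hd' : d ^ p ∈ Pw p H := pow_mem_Pw (der_le _ hd)
  obtain ⟨c1, hc1, e1⟩ := hq (a ^ p * b ^ p) (d ^ p)
  obtain ⟨c2, hc2, e2⟩ := hq (a ^ p) (b ^ p)
  refine ⟨c2 * d ^ (p * q) * c1, mul_mem (mul_mem (key _ ha _ hb hc2) (pow_mem_Pw hd))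
    (key _ (mul_mem ha hb) _ hd' hc1), ?_⟩
  rw [pow_mul, e, e1, e2]
  simp only [pow_mul, mul_assoc]

theorem Reg.pow [Finite G] (h : Reg p G) (hG : Nil (⊤ : Subgroup G)) (n : ℕ) :
    Reg (p ^ n) G := by
  induction n with
  | zero => exact fun a b => ⟨1, one_mem _, by simp⟩
  | succ n ih => rw [pow_succ']; exact h.succ hG ih

theorem s0643 [Finite G] [Fact p.Prime] (hG : IsPGroup p G) :
    Cfsg.IsRegularPGroup p G ↔ ∀ a b : G, ∃ c ∈ ⁅gen a b, gen a b⁆,
      (a * b) ^ p = a ^ p * b ^ p * c ^ p := by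
  have hN : Nil (⊤ : Subgroup G) := nil_top.2 hG.isNilpotent
  constructor
  · intro h a b
    have h1 : Reg (p ^ 1) G := fun a b => h.2 a b 1
    rw [pow_one] at h1
    obtain ⟨c, hc, e⟩ := h1 a b
    obtain ⟨d, hd, rfl⟩ := (h1.mem_Pw hN).1 hc
    exact ⟨d, hd, e⟩
  · intro h
    have h1 : Reg p G := fun a b => by
      obtain ⟨c, hc, e⟩ := h a b
      exact ⟨_, pow_mem_Pw hc, e⟩
    exact ⟨hG, fun a b n => h1.pow hN n a b⟩

theorem s0644 [Finite G] [Fact p.Prime] (hG : Cfsg.IsRegularPGroup p G) (H : Subgroup G) (n : ℕ) :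
    {y : G | ∃ x ∈ H, y = x ^ (p ^ n)} = (Cfsg.powerClosure p n H : Set G) ∧
      ⁅Cfsg.powerClosure p n H, Cfsg.powerClosure p n H⁆ ≤ Cfsg.powerClosure p n ⁅H, H⁆ := by
  have hN : Nil (⊤ : Subgroup G) := nil_top.2 hG.1.isNilpotent
  have h1 : Reg (p ^ n) G := fun a b => hG.2 a b n
  refine ⟨?_, (commS le_rfl (Pw_le _ _)).trans (h1.comm_le hN H)⟩
  ext y
  exact (h1.mem_Pw hN).symm

/-! ### uniserial action -/
section Uni
variable {V X : Subgroup G}
open Cfsg (iterCommutator)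

theorem iter_succ (V X : Subgroup G) (i : ℕ) :
    iterCommutator V X (i + 1) = ⁅iterCommutator V X i, X⁆ := rfl

theorem iter_succ' (V X : Subgroup G) (i : ℕ) :
    iterCommutator V X (i + 1) = iterCommutator ⁅V, X⁆ X i := by
  induction i with
  | zero => rfl
  | succ i ih => rw [iter_succ, ih]; rfl

theorem iter_norm (h : X ≤ N[V]) (i : ℕ) : X ≤ N[iterCommutator V X i] := by
  cases i with
  | zero => exact h
  | succ i => exact comm_normr _ _

theorem iter_succ_le (h : X ≤ N[V]) (i : ℕ) :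
    iterCommutator V X (i + 1) ≤ iterCommutator V X i := commL (iter_norm h i)

theorem iter_le (h : X ≤ N[V]) (i : ℕ) : iterCommutator V X i ≤ V := by
  induction i with
  | zero => exact le_rfl
  | succ i ih => exact (iter_succ_le h i).trans ih

theorem iter_anti (h : X ≤ N[V]) {i j : ℕ} (hij : i ≤ j) :
    iterCommutator V X j ≤ iterCommutator V X i := by
  induction hij with
  | refl => exact le_rfl
  | step _ ih => exact (iter_succ_le h _).trans ih

theorem iter_mono {Y : Subgroup G} (h : X ≤ Y) (i : ℕ) :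
    iterCommutator V X i ≤ iterCommutator V Y i := by
  induction i with
  | zero => exact le_rfl
  | succ i ih => exact commS ih h

variable [Finite G]

theorem card_lt_pow (hp : p.Prime) (h : A < B) (hB : #B ∣ p ^ (n + 1)) : #A ∣ p ^ n := by
  obtain ⟨k, hk, e⟩ := (Nat.dvd_prime_pow hp).1 hB
  obtain ⟨j, hj, e'⟩ := (Nat.dvd_prime_pow hp).1 (e ▸ cardS h.le)
  have := card_lt h
  rw [e, e', Nat.pow_lt_pow_iff_right hp.one_lt] at this
  rw [e']
  exact pow_dvd_pow _ (by omega)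

theorem pow_dvd_of_lt (hp : p.Prime) (h : A < B) (hB : PiG {p} B) (hA : p ^ n ∣ #A) :
    p ^ (n + 1) ∣ #B := by
  obtain ⟨k, e⟩ := PiG.card_pow hB hp
  obtain ⟨j, e'⟩ := PiG.card_pow (PiG.of_le hB h.le) hp
  have := card_lt h
  rw [e, e', Nat.pow_lt_pow_iff_right hp.one_lt] at this
  rw [e', Nat.pow_dvd_pow_iff_le_right hp.one_lt] at hA
  rw [e]
  exact pow_dvd_pow _ (by omega)

theorem iter_card_dvd (hp : p.Prime) (hX : PiG {p} X) (h : X ≤ N[V]) (hV : #V = p ^ n) (i : ℕ) :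
    #(iterCommutator V X i) ∣ p ^ (n - i) := by
  have hV' : PiG {p} V := pig_of_card_pow hp hV
  induction i with
  | zero => exact hV.dvd
  | succ i ih =>
    by_cases h0 : iterCommutator V X i = ⊥
    · rw [iter_succ, h0]; simp
    have := PiG.comm_lt (PiG.of_le hV' (iter_le h i)) hX (iter_norm h i) h0
    apply card_lt_pow hp this
    rcases Nat.eq_zero_or_pos (n - i) with e | e
    · rw [e] at ih
      exact absurd (card_eq_one.1 (Nat.dvd_one.1 ih)) h0
    · rwa [show n - (i + 1) + 1 = n - i by omega]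

theorem iter_card (hp : p.Prime) (hX : PiG {p} X) (h : X ≤ N[V]) (hV : #V = p ^ n)
    (h1 : iterCommutator V X (n - 1) ≠ ⊥ ∨ n = 0) {i : ℕ} (hi : i ≤ n) :
    #(iterCommutator V X i) = p ^ (n - i) := by
  have hV' : PiG {p} V := pig_of_card_pow hp hV
  refine Nat.dvd_antisymm (iter_card_dvd hp hX h hV i) ?_
  have : ∀ k ≤ n, p ^ k ∣ #(iterCommutator V X (n - k)) := by
    intro k hk
    induction k with
    | zero => simp
    | succ k ih =>
      have h0 : iterCommutator V X (n - (k + 1)) ≠ ⊥ := fun e =>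
        (h1.resolve_right (by omega)) (le_bot_iff.1 (e ▸ iter_anti h (by omega)))
      have := PiG.comm_lt (PiG.of_le hV' (iter_le h _)) hX (iter_norm h _) h0
      rw [← iter_succ, show n - (k + 1) + 1 = n - k by omega] at this
      exact pow_dvd_of_lt hp this (PiG.of_le hV' (iter_le h _)) (ih (by omega))
  have := this (n - i) (by omega)
  rwa [show n - (n - i) = i by omega] at this

/-- a proper invariant subgroup lies in `[V, X]` when this has index `p` -/
theorem le_comm_of_lt (hp : p.Prime) (hV : PiG {p} V) (hX : PiG {p} X) (h : X ≤ N[V])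
    (hi : (⁅V, X⁆).relIndex V = p) (h1 : H < V) (h2 : X ≤ N[H]) : H ≤ ⁅V, X⁆ := by
  obtain ⟨M, hHM, ⟨hM1, hM2⟩, hmax⟩ :=
    exists_maximal (P := fun M => M < V ∧ X ≤ N[M]) (A := H) ⟨h1, h2⟩
  have hn : V ≤ N[M] := by
    have := (PiG.nil hV).lt_norm hM1
    by_contra hc
    have h3 : V ⊓ N[M] < V := lt_of_le_of_ne inf_le_left fun e => hc (e ▸ inf_le_right)
    exact this.ne' (hmax _ ⟨h3, normI h (normN hM2)⟩ this.le)
  have hle : ⁅V, X⁆ ≤ M := by
    have h3 : M ⊔ ⁅V, X⁆ < V := by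
      refine lt_of_le_of_ne (sup_le hM1.le (commL h)) fun e => ?_
      have hb : V ÷ M ≠ ⊥ := fun e => hM1.not_ge ((quo_bot_iff hn).1 e)
      have := PiG.comm_lt (PiG.im hV (quo M)) (PiG.im hX (quo M)) (PHom.im_norm h) hb
      rw [← PHom.im_comm hn hM2, ← quo_sup_l ((commL h).trans hn), e] at this
      exact this.ne rfl
    have := hmax _ ⟨h3, normY hM2 (comm_normr _ _)⟩ le_sup_left
    exact this ▸ le_sup_right
  rcases eq_or_eq_of_relIndex_prime (hi ▸ hp) hle hM1.le with e | e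
  · exact e ▸ hHM
  · exact absurd e hM1.ne

theorem eq_iter (hp : p.Prime) (hX : PiG {p} X) (h : X ≤ N[V]) (hV : #V = p ^ n)
    (h1 : iterCommutator V X (n - 1) ≠ ⊥ ∨ n = 0) (hH : H ≤ V) (h2 : X ≤ N[H]) :
    ∃ i ≤ n, H = iterCommutator V X i := by
  have hV' : PiG {p} V := pig_of_card_pow hp hV
  have : ∀ i ≤ n, H ≤ iterCommutator V X i ∨ ∃ j ≤ n, H = iterCommutator V X j := by
    intro i hi
    induction i with
    | zero => exact Or.inl hH
    | succ i ih =>
      rcases ih (by omega) with h3 | h3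
      · rcases h3.eq_or_lt with e | h4
        · exact Or.inr ⟨i, by omega, e⟩
        refine Or.inl (le_comm_of_lt hp (PiG.of_le hV' (iter_le h _)) hX (iter_norm h i) ?_ h4 h2)
        have := card_mul_relIndex (iter_succ_le h i)
        rw [iter_card hp hX h hV h1 hi, iter_card hp hX h hV h1 (i := i) (by omega),
          show n - i = n - (i + 1) + 1 by omega, pow_succ] at this
        exact Nat.eq_of_mul_eq_mul_left (pow_pos hp.pos _) this
      · exact Or.inr h3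
  rcases this n le_rfl with h3 | h3
  · refine ⟨n, le_rfl, le_antisymm h3 ?_⟩
    have := iter_card hp hX h hV h1 le_rfl
    rw [Nat.sub_self, pow_zero, card_eq_one] at this
    rw [this]; exact bot_le
  · exact h3

theorem norm_iter (hp : p.Prime) (hX : PiG {p} X) (h : X ≤ N[V]) (hV : #V = p ^ n)
    (h1 : iterCommutator V X (n - 1) ≠ ⊥ ∨ n = 0) {i : ℕ} (hi : i ≤ n) :
    V ≤ N[iterCommutator V X i] := by
  have hV' : PiG {p} V := pig_of_card_pow hp hV
  have h2 : V ⊔ X ≤ N[V] := sup_le (normG _) h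
  have e : iterCommutator V X i = iterCommutator V (V ⊔ X) i := by
    refine eq_of_card_le (iter_mono le_sup_right i) ?_
    rw [iter_card hp hX h hV h1 hi]
    exact Nat.le_of_dvd (pow_pos hp.pos _) (iter_card_dvd hp (PiG.sup_l hV' hX h) h2 hV i)
  rw [e]
  exact le_sup_left.trans (iter_norm h2 i)

theorem s0663 (hp : p.Prime) (hX : PiG {p} X) (h : X ≤ N[V]) (hV : #V = p ^ n) :
    ((∀ H : Subgroup G, H ≤ V → X ≤ N[H] → H ≠ ⊥ → (⁅H, X⁆).relIndex H = p) ↔
      iterCommutator V X (n - 1) ≠ ⊥ ∨ n = 0) ∧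
    ((∀ H : Subgroup G, H ≤ V → X ≤ N[H] → H ≠ ⊥ → (⁅H, X⁆).relIndex H = p) →
      ∀ H : Subgroup G, H ≤ V → X ≤ N[H] → (∃ i ≤ n, H = iterCommutator V X i) ∧ V ≤ N[H]) := by
  have key : (∀ H : Subgroup G, H ≤ V → X ≤ N[H] → H ≠ ⊥ → (⁅H, X⁆).relIndex H = p) →
      iterCommutator V X (n - 1) ≠ ⊥ ∨ n = 0 := by
    intro hu
    have : ∀ i ≤ n, #(iterCommutator V X i) = p ^ (n - i) := by
      intro i hi
      induction i with
      | zero => exact hV
      | succ i ih =>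
        have ih := ih (by omega)
        have h0 : iterCommutator V X i ≠ ⊥ := by
          intro e
          rw [e, card_bot'] at ih
          have := Nat.pow_right_injective hp.two_le (ih.symm.trans (pow_zero p).symm)
          omega
        have := card_mul_relIndex (iter_succ_le h i)
        rw [iter_succ, hu _ (iter_le h i) (iter_norm h i) h0, ih,
          show n - i = n - (i + 1) + 1 by omega, pow_succ] at this
        exact Nat.eq_of_mul_eq_mul_right hp.pos this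
    rcases Nat.eq_zero_or_pos n with e | e
    · exact Or.inr e
    · refine Or.inl fun e' => ?_
      have := this (n - 1) (by omega)
      rw [e', card_bot'] at this
      have := Nat.pow_right_injective hp.two_le (this.symm.trans (pow_zero p).symm)
      omega
  refine ⟨⟨key, fun h1 H hH h2 h0 => ?_⟩, fun hu H hH h2 => ?_⟩
  · obtain ⟨i, hi, rfl⟩ := eq_iter hp hX h hV h1 hH h2
    have hi' : i < n := by
      refine lt_of_le_of_ne hi fun e => h0 ?_
      have := iter_card hp hX h hV h1 hi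
      rwa [e, Nat.sub_self, pow_zero, card_eq_one, ← e] at this
    have := card_mul_relIndex (iter_succ_le h i)
    rw [iter_card hp hX h hV h1 hi', iter_card hp hX h hV h1 hi,
      show n - i = n - (i + 1) + 1 by omega, pow_succ] at this
    exact Nat.eq_of_mul_eq_mul_left (pow_pos hp.pos _) this
  · obtain ⟨i, hi, rfl⟩ := eq_iter hp hX h hV (key hu) hH h2
    exact ⟨⟨i, hi, rfl⟩, norm_iter hp hX h hV (key hu) hi⟩

end Uni

/-! ### groups of maximal class -/
section Max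
open Cfsg (iterCommutator)
variable [Finite G]

omit [Finite G] in
theorem lcs_eq (i : ℕ) : (⊤ : Subgroup G).lowerCentralSeries i = iterCommutator ⊤ ⊤ i := by
  induction i with
  | zero => rfl
  | succ i ih => rw [Subgroup.lowerCentralSeries_succ, ih]; rfl

theorem ncard_fibers {α β : Type*} [Finite α] [Finite β] (f : α → β) (S : Set α) (T : Set β) (k : ℕ)
    (h1 : ∀ s ∈ S, f s ∈ T) (h2 : ∀ t ∈ T, {s | s ∈ S ∧ f s = t}.ncard = k) :
    S.ncard = T.ncard * k := by
  classical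
  have := Fintype.ofFinite α
  have := Fintype.ofFinite β
  rw [Set.ncard_eq_toFinset_card', Set.ncard_eq_toFinset_card',
    Finset.card_eq_sum_card_fiberwise (f := f) (t := T.toFinset)
      (fun s hs => by simpa using h1 s (by simpa using hs)), Finset.sum_const_nat]
  intro t ht
  rw [← h2 t (by simpa using ht), Set.ncard_eq_toFinset_card']
  congr 1; ext; simp

theorem pig_top (hp : p.Prime) (hG : Nat.card G = p ^ n) : PiG {p} (⊤ : Subgroup G) :=
  pig_of_card_pow hp (by rw [card_top, hG])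

theorem card_of_index (hp : p.Prime) (hG : Nat.card G = p ^ n) {r : ℕ} (h : H.index = p ^ r) :
    r ≤ n ∧ #H = p ^ (n - r) := by
  have e := H.card_mul_index
  rw [h, hG] at e
  have h1 : r ≤ n := (Nat.pow_dvd_pow_iff_le_right hp.one_lt).1 (Dvd.intro_left _ e)
  refine ⟨h1, Nat.eq_of_mul_eq_mul_right (pow_pos hp.pos r) ?_⟩
  rw [e, ← pow_add, Nat.sub_add_cancel h1]

theorem index_of_card (hp : p.Prime) (hG : Nat.card G = p ^ n) {r : ℕ} (hr : r ≤ n)
    (h : #H = p ^ (n - r)) : H.index = p ^ r := by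
  have e := H.card_mul_index
  rw [h, hG] at e
  refine Nat.eq_of_mul_eq_mul_left (pow_pos hp.pos (n - r)) ?_
  rw [e, ← pow_add, Nat.sub_add_cancel hr]

theorem card_between (hp : p.Prime) (h1 : A < B) (h2 : B < H) (hA : #A = p ^ n)
    (hH : #H = p ^ (n + 2)) : #B = p ^ (n + 1) :=
  Nat.dvd_antisymm (card_lt_pow hp h2 hH.dvd)
    (pow_dvd_of_lt hp h1 (PiG.of_le (pig_of_card_pow hp hH) h2.le) hA.symm.dvd)

theorem card_der_dvd (hp : p.Prime) (hG : Nat.card G = p ^ n) (hn : 2 ≤ n) :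
    #⁅(⊤ : Subgroup G), (⊤ : Subgroup G)⁆ ∣ p ^ (n - 2) := by
  obtain ⟨K, -, hK, e⟩ := PiG.exists_normal (n := n - 2) (pig_top hp hG) hp le_rfl (norm_top _)
    (by rw [card_top, hG]; exact pow_dvd_pow _ (by omega))
  rw [← e]
  exact cardS (der_le_of_idx_sq hp hK (by rw [relIndex_top_right, index_of_card hp hG hn e]))

theorem mc_der (hp : p.Prime) (hG : Nat.card G = p ^ n) (hcl : Group.nilpotencyClass G = n - 1)
    (hn : 3 ≤ n) : #⁅(⊤ : Subgroup G), (⊤ : Subgroup G)⁆ = p ^ (n - 2) ∧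
      iterCommutator ⁅(⊤ : Subgroup G), (⊤ : Subgroup G)⁆ ⊤ (n - 2 - 1) ≠ ⊥ := by
  have hN : Group.IsNilpotent G := nil_top.1 (PiG.nil (pig_top hp hG))
  have h1 : iterCommutator ⁅(⊤ : Subgroup G), (⊤ : Subgroup G)⁆ ⊤ (n - 2 - 1) ≠ ⊥ := by
    rw [← iter_succ', ← lcs_eq, Ne, Subgroup.lowerCentralSeries_eq_bot_iff_nilpotencyClass_le]
    omega
  refine ⟨?_, h1⟩
  obtain ⟨k, hk, e⟩ := (Nat.dvd_prime_pow hp).1 (card_der_dvd hp hG (by omega))
  have h2 := iter_card_dvd hp (pig_top hp hG) (der_norm _) e (n - 2 - 1)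
  by_contra hc
  have : k - (n - 2 - 1) = 0 := by
    have : k ≠ n - 2 := fun e' => hc (e' ▸ e)
    omega
  rw [this, pow_zero, Nat.dvd_one, card_eq_one] at h2
  exact h1 h2

theorem le_der_of_index (hp : p.Prime) (hG : Nat.card G = p ^ n)
    (hD : #⁅(⊤ : Subgroup G), (⊤ : Subgroup G)⁆ = p ^ (n - 2)) (hN : ⊤ ≤ N[N]) (h : p ^ 2 ∣ N.index) :
    N ≤ ⁅(⊤ : Subgroup G), (⊤ : Subgroup G)⁆ := by
  have hn : 2 ≤ n := by
    have := h.trans (hG ▸ N.index_dvd_card)
    exact (Nat.pow_dvd_pow_iff_le_right hp.one_lt).1 this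
  have hT := pig_top hp hG
  obtain ⟨k, hk⟩ := PiG.card_pow (PiG.im hT (quo N)) hp
  have hk' := hk
  rw [card_quo hN, relIndex_top_right] at hk'
  have h2 : 2 ≤ k := (Nat.pow_dvd_pow_iff_le_right hp.one_lt).1 (hk' ▸ h)
  obtain ⟨L, hL1, hL2, e⟩ := PiG.exists_normal (n := k - 2) (PiG.im hT (quo N)) hp le_rfl
    (normG _) (by rw [hk]; exact pow_dvd_pow _ (by omega))
  obtain ⟨K, h3, -, rfl⟩ := exists_quo_eq hN le_top hL1
  rw [card_quo (le_top.trans hN)] at e
  have h4 : K.index = p ^ 2 := by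
    have := relIndex_mul_index h3
    rw [e, hk'] at this
    refine Nat.eq_of_mul_eq_mul_left (pow_pos hp.pos (k - 2)) ?_
    rw [this, ← pow_add, Nat.sub_add_cancel h2]
  have h5 : ⊤ ≤ N[K] := by
    have := PHom.pre_norm (φ := quo N) hL2
    rwa [pre_quo hN, pre_quo (le_top.trans hN), top_sup_eq, sup_eq_left.2 h3] at this
  have h6 := der_le_of_idx_sq hp h5 (by rw [relIndex_top_right, h4])
  rw [eq_of_card_le h6 (by rw [hD, (card_of_index hp hG h4).2])]
  exact h3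

theorem s0662 (hp : p.Prime) (hG : Nat.card G = p ^ n) (hcl : Group.nilpotencyClass G = n - 1)
    (hn : 3 ≤ n) :
    (∀ (N : Subgroup G) [N.Normal] (r : ℕ), 2 ≤ r → N.index = p ^ r →
      N = (⊤ : Subgroup G).lowerCentralSeries (r - 1)) ∧
    Nat.card {N : Subgroup G // N.Normal ∧ N.index = p} = p + 1 := by
  obtain ⟨hD, h1⟩ := mc_der hp hG hcl hn
  have hT := pig_top hp hG
  constructor
  · intro N hN r hr e
    have h2 := le_der_of_index hp hG hD (normal_iff.1 hN) (e ▸ pow_dvd_pow _ hr)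
    obtain ⟨i, hi, rfl⟩ := eq_iter hp hT (der_norm _) hD (Or.inl h1) h2 (normal_iff.1 hN)
    obtain ⟨h3, h4⟩ := card_of_index hp hG e
    rw [iter_card hp hT (der_norm _) hD (Or.inl h1) hi] at h4
    have := Nat.pow_right_injective hp.two_le h4
    rw [lcs_eq, ← iter_succ']
    congr 1
    omega
  · have hD0 : ⁅(⊤ : Subgroup G), (⊤ : Subgroup G)⁆ ≠ ⊥ := by
      intro e
      rw [e, card_bot'] at hD
      have := Nat.pow_right_injective hp.two_le (hD.symm.trans (pow_zero p).symm)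
      omega
    have k : ∀ x : G, x ∉ ⁅(⊤ : Subgroup G), (⊤ : Subgroup G)⁆ → #(zpowers x ⊔ ⁅(⊤ : Subgroup G), (⊤ : Subgroup G)⁆) = p ^ (n - 1) := by
      intro x hx
      rw [show n - 1 = n - 2 + 1 by omega]
      refine card_between hp (H := ⊤) (lt_of_le_of_ne le_sup_right fun e => hx ?_)
        (lt_of_le_of_ne le_top fun e => hD0 ?_) hD (by rw [card_top, hG]; congr 1; omega)
      · rw [e]; exact mem_sup_left (mem_zpowers x)
      · have := (PiG.nil hT).eq_of_sup_der le_top e.ge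
        rw [← this]
        exact abel_iff_der.1 (abel_zpowers x)
    have a := ncard_fibers (fun x => zpowers x ⊔ ⁅(⊤ : Subgroup G), (⊤ : Subgroup G)⁆)
      ((⊤ : Subgroup G) \ (⁅(⊤ : Subgroup G), (⊤ : Subgroup G)⁆ : Subgroup G) : Set G)
      {N : Subgroup G | N.Normal ∧ N.index = p} (p ^ (n - 1) - p ^ (n - 2))
      (fun x hx => ⟨normal_iff.2 (norm_of_der_le le_sup_right le_top), by
        simpa using index_of_card hp hG (r := 1) (by omega) (k x hx.2)⟩) fun N ⟨a, b⟩ => by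
        have c : ⁅(⊤ : Subgroup G), (⊤ : Subgroup G)⁆ ≤ N := der_le_of_idx_sq hp (normal_iff.1 a)
          (by rw [relIndex_top_right, b]; exact dvd_pow_self _ two_ne_zero)
        have d := (card_of_index hp hG (r := 1) (by simpa using b)).2
        rw [← d, ← hD]
        refine Eq.trans ?_ (Set.ncard_sdiff c)
        congr 1; ext x
        exact ⟨fun e => ⟨e.2 ▸ mem_sup_left (mem_zpowers x), e.1.2⟩, fun e => ⟨⟨mem_top _, e.2⟩,
          eq_of_card_le (sup_le (zpowers_le.2 e.1) c) (by rw [d, k x e.2])⟩⟩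
    have b : ((⊤ : Subgroup G) \ (⁅(⊤ : Subgroup G), (⊤ : Subgroup G)⁆ : Subgroup G) : Set G).ncard =
        #(⊤ : Subgroup G) - #⁅(⊤ : Subgroup G), (⊤ : Subgroup G)⁆ := Set.ncard_sdiff le_top
    rw [b, card_top, hG, hD] at a
    obtain ⟨m, rfl⟩ := Nat.exists_eq_add_of_le' (show 2 ≤ n by omega)
    have c : p ^ (m + 2) - p ^ m = (p + 1) * (p ^ (m + 1) - p ^ m) := by
      obtain ⟨t, rfl⟩ := Nat.exists_eq_add_of_le hp.pos
      have e1 : (1 + t) ^ (m + 2) - (1 + t) ^ m = (1 + t) ^ m * (t * (t + 2)) :=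
        Nat.sub_eq_of_eq_add (by ring)
      have e2 : (1 + t) ^ (m + 1) - (1 + t) ^ m = (1 + t) ^ m * t := Nat.sub_eq_of_eq_add (by ring)
      rw [e1, e2]; ring
    simp only [Nat.add_sub_cancel, show m + 2 - 1 = m + 1 from rfl] at a
    exact Nat.eq_of_mul_eq_mul_right
      (Nat.sub_pos_of_lt (Nat.pow_lt_pow_right hp.one_lt (Nat.lt_succ_self m))) (a.symm.trans c)

end Max

/-! ### cyclic subgroups of index `p` -/
section CycIdx
variable [Finite G]

theorem zpow_eq_iff {m : ℕ} (h : orderOf a = m) {i j : ℤ} : a ^ i = a ^ j ↔ (m : ℤ) ∣ i - j := by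
  rw [← h, orderOf_dvd_iff_zpow_eq_one, zpow_sub, mul_inv_eq_one]

theorem zpow_eq_one_iff {m : ℕ} (h : orderOf a = m) {i : ℤ} : a ^ i = 1 ↔ (m : ℤ) ∣ i := by
  rw [← h, orderOf_dvd_iff_zpow_eq_one]

theorem sup_eq_top_of_index (hp : p.Prime) (h : A.index = p) (hb : b ∉ A) : A ⊔ zpowers b = ⊤ := by
  rcases eq_or_eq_of_relIndex_prime (Y := ⊤) (X := A ⊔ zpowers b)
    (by rw [relIndex_top_right, h]; exact hp) le_sup_left le_top with e | e
  · exact absurd (e ▸ mem_sup_right (mem_zpowers b)) hb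
  · exact e

/-- the basic data of a nonabelian `p`-group with a cyclic subgroup of index `p` -/
theorem cyc_data (hp : p.Prime) (hG : Nat.card G = p ^ (n + 1)) (hC : IsCyclic A)
    (hi : A.index = p) (hna : ∃ x y : G, x * y ≠ y * x) :
    ∃ (a b : G) (k s : ℤ), orderOf a = p ^ n ∧ zpowers a = A ∧ b ∉ A ∧ b * a * b⁻¹ = a ^ k ∧
      b ^ p = a ^ s ∧ ¬ ((p : ℤ) ^ n ∣ k - 1) ∧ (p : ℤ) ^ n ∣ k ^ p - 1 ∧
      (p : ℤ) ^ n ∣ s * (k - 1) := by
  obtain ⟨a, rfl⟩ := cyc_iff.1 hC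
  have ha : orderOf a = p ^ n := by
    rw [← card_zpowers']; exact (card_of_index hp hG (r := 1) (by simpa using hi)).2
  have hn : ⊤ ≤ N[zpowers a] :=
    PiG.norm_of_relIndex (pig_top hp hG) hp le_top (by rw [relIndex_top_right, hi])
  obtain ⟨b, hb⟩ : ∃ b, b ∉ zpowers a := by
    by_contra h
    push Not at h
    rw [(eq_top_iff' _).2 h, index_top] at hi
    exact hp.one_lt.ne hi
  obtain ⟨k, hk⟩ := mem_zpowers_iff.1 (conj_mem (hn (mem_top b)) (mem_zpowers a))
  have := pow_relIndex_mem hn (mem_top b)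
  rw [relIndex_top_right, hi] at this
  obtain ⟨s, hs⟩ := mem_zpowers_iff.1 this
  refine ⟨a, b, k, s, ha, rfl, hb, hk.symm, hs.symm, fun h => ?_, ?_, ?_⟩
  · obtain ⟨x, y, hxy⟩ := hna
    have e : a ^ k = a ^ (1 : ℤ) := (zpow_eq_iff ha).2 (by exact_mod_cast h)
    rw [hk, zpow_one, mul_inv_eq_iff_eq_mul] at e
    have : Abel (zpowers a ⊔ zpowers b) := (abel_zpowers a).sup (abel_zpowers b)
      (by rw [C_zpowers]; exact zpowers_le.2 (mem_C1.2 e.symm))
    rw [sup_eq_top_of_index hp hi hb] at this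
    exact hxy (mem_C_comm this (mem_top x) (mem_top y))
  · have := Core.pow_conj_of_conj_eq_zpow hk.symm p
    rw [← hs, mem_C_comm (abel_zpowers a) (zpow_mem (mem_zpowers a) s) (mem_zpowers a),
      mul_inv_cancel_right] at this
    have e : a ^ (k ^ p) = a ^ (1 : ℤ) := by rw [← this, zpow_one]
    exact_mod_cast (zpow_eq_iff ha).1 e
  · have e : b * b ^ p * b⁻¹ = b ^ p := by group
    rw [← hs, ← conj_zpow, ← hk, ← zpow_mul] at e
    have := (zpow_eq_iff ha).1 e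
    push_cast at this
    convert this using 1; ring

theorem not_mem_mul (hb : b ∉ A) (ha : a ∈ A) : a * b ∉ A := fun h =>
  hb (by simpa using mul_mem (inv_mem ha) h)

theorem s0646 (hn : 3 ≤ n) (hG : Nat.card G = 2 ^ n) (hC : IsCyclic A) (hi : A.index = 2)
    (hna : ∃ x y : G, x * y ≠ y * x) :
    ∃ a b : G, orderOf a = 2 ^ (n - 1) ∧ b ∉ zpowers a ∧ ((b ^ 2 = 1 ∧ b * a * b⁻¹ = a⁻¹) ∨
      (b ^ 2 = a ^ (2 ^ (n - 2)) ∧ b * a * b⁻¹ = a⁻¹) ∨
      (4 ≤ n ∧ b ^ 2 = 1 ∧ b * a * b⁻¹ = a ^ (1 + 2 ^ (n - 2))) ∨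
      (4 ≤ n ∧ b ^ 2 = 1 ∧ b * a * b⁻¹ = a ^ (2 ^ (n - 2) - 1))) := by
  obtain ⟨m, rfl⟩ := Nat.exists_eq_add_of_le' hn
  obtain ⟨a, b, k, s, ha, rfl, hb, hk, hs, h1, h2, h3⟩ := cyc_data Nat.prime_two hG hC hi hna
  simp only [show m + 3 - 1 = m + 2 from rfl, show m + 3 - 2 = m + 1 from rfl]
  push_cast at h1 h2 h3
  have ez : ∀ i j : ℤ, a ^ i = a ^ j ↔ (2 : ℤ) ^ (m + 2) ∣ i - j := fun i j => by
    rw [zpow_eq_iff ha]; push_cast; rfl
  have cop : ∀ (j : ℕ) (u : ℤ), Odd u → IsCoprime ((2 : ℤ) ^ j) u := fun j u hu =>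
    IsCoprime.pow_left (Int.isCoprime_two_left.2 hu)
  obtain ⟨u, rfl⟩ : Odd k := by
    have : (2 : ℤ) ∣ k ^ 2 - 1 := (dvd_pow_self 2 (by omega)).trans h2
    rcases Int.even_or_odd k with ⟨u, rfl⟩ | h
    · exfalso
      have e : (u + u) ^ 2 - 1 = 2 * (2 * u ^ 2 - 1) + 1 := by ring
      omega
    · exact h
  have h4 : (2 : ℤ) ^ m ∣ u * (u + 1) := by
    have e : (2 * u + 1) ^ 2 - 1 = 2 ^ 2 * (u * (u + 1)) := by ring
    rw [e, pow_add, mul_comm] at h2
    exact (mul_dvd_mul_iff_left (by norm_num)).1 h2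
  have sq : ∀ j : ℤ, (a ^ j * b) ^ 2 = a ^ (j * (1 + (2 * u + 1)) + s) := fun j => by
    rw [Core.mul_pow_of_conj_eq_zpow hk, hs, ← zpow_add]
    simp [Finset.sum_range_succ]
  have cj : ∀ j : ℤ, (a ^ j * b) * a * (a ^ j * b)⁻¹ = a ^ (2 * u + 1) := fun j => by
    have : (a ^ j * b) * a * (a ^ j * b)⁻¹ = a ^ j * (b * a * b⁻¹) * (a ^ j)⁻¹ := by group
    rw [this, hk]; group
  have nm : ∀ j : ℤ, a ^ j * b ∉ zpowers a := fun j => not_mem_mul hb (zpow_mem (mem_zpowers a) j)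
  have inv : (2 : ℤ) ^ (m + 1) ∣ u + 1 → (b ^ 2 = 1 ∧ b * a * b⁻¹ = a⁻¹) ∨
      (b ^ 2 = a ^ (2 ^ (m + 1)) ∧ b * a * b⁻¹ = a⁻¹) := by
    rintro ⟨v, hv⟩
    have e1 : b * a * b⁻¹ = a⁻¹ := by
      rw [hk, ← zpow_neg_one, ez]
      exact ⟨v, by rw [pow_succ]; linear_combination 2 * hv⟩
    have e2 : (2 : ℤ) ^ (m + 1) ∣ s := by
      have e : s * (2 * u + 1 - 1) = s * u * 2 := by ring
      rw [e, pow_succ] at h3
      refine (cop _ u ⟨2 ^ m * v - 1, ?_⟩).dvd_of_dvd_mul_right ((mul_dvd_mul_iff_right two_ne_zero).1 h3)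
      rw [pow_succ] at hv
      linear_combination hv
    obtain ⟨w, rfl⟩ := e2
    rcases Int.even_or_odd' w with ⟨t, rfl | rfl⟩
    · refine Or.inl ⟨?_, e1⟩
      rw [hs, ← zpow_zero a, ez]
      exact ⟨t, by ring⟩
    · refine Or.inr ⟨?_, e1⟩
      rw [hs, ← zpow_natCast, ez]
      exact ⟨t, by push_cast; ring⟩
  rcases Int.even_or_odd u with hu | hu
  · -- `k ≡ 1 mod 4`
    obtain ⟨v, hv⟩ := (cop m (u + 1) hu.add_one).dvd_of_dvd_mul_right h4
    obtain ⟨w, rfl⟩ : Odd v := by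
      rcases Int.even_or_odd v with ⟨w, rfl⟩ | h
      · exact absurd ⟨w, by rw [hv]; ring⟩ h1
      · exact h
    obtain rfl | ⟨m, rfl⟩ : m = 0 ∨ ∃ l, m = l + 1 := by
      rcases m with _ | m
      · exact Or.inl rfl
      · exact Or.inr ⟨m, rfl⟩
    · exfalso
      obtain ⟨t, ht⟩ := hu
      omega
    have e2 : (2 : ℤ) ∣ s := by
      have e : s * (2 * u + 1 - 1) = 2 ^ (m + 1 + 1) * (s * (2 * w + 1)) := by rw [hv]; ring
      rw [e, pow_succ _ (m + 1 + 1)] at h3
      have := (mul_dvd_mul_iff_left (by positivity)).1 h3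
      exact (cop 1 (2 * w + 1) ⟨w, rfl⟩).dvd_of_dvd_mul_right (by simpa using this)
    obtain ⟨t, rfl⟩ := e2
    obtain ⟨c, d, hcd⟩ := cop (m + 1 + 1) (u + 1) hu.add_one
    refine ⟨a, a ^ (-(t * d)) * b, ha, nm _, Or.inr (Or.inr (Or.inl ⟨by omega, ?_, ?_⟩))⟩
    · rw [sq, ← zpow_zero a, ez]
      exact ⟨t * c, by rw [pow_succ _ (m + 1 + 1)]; linear_combination (-2 * t) * hcd⟩
    · rw [cj, ← zpow_natCast, ez]
      exact ⟨w, by push_cast; rw [hv]; ring⟩
  · obtain ⟨v, hv⟩ := (cop m u hu).dvd_of_dvd_mul_left h4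
    rcases Int.even_or_odd' v with ⟨w, rfl | rfl⟩
    · exact ⟨a, b, ha, hb, (inv ⟨w, by rw [hv]; ring⟩).imp_right Or.inl⟩
    obtain rfl | ⟨m, rfl⟩ : m = 0 ∨ ∃ l, m = l + 1 := by
      rcases m with _ | m
      · exact Or.inl rfl
      · exact Or.inr ⟨m, rfl⟩
    · exfalso
      obtain ⟨t, ht⟩ := hu
      omega
    have e1 : a ^ (2 * u + 1) = a ^ (2 ^ (m + 1 + 1) - 1) := by
      rw [← zpow_natCast, ez, Nat.cast_sub Nat.one_le_two_pow]
      exact ⟨w, by push_cast; linear_combination 2 * hv⟩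
    have e2 : (2 : ℤ) ^ (m + 1 + 1) ∣ s := by
      have e : s * (2 * u + 1 - 1) = s * u * 2 := by ring
      rw [e, pow_succ] at h3
      exact (cop _ u hu).dvd_of_dvd_mul_right ((mul_dvd_mul_iff_right two_ne_zero).1 h3)
    obtain ⟨t, rfl⟩ := e2
    refine ⟨a, a ^ t * b, ha, nm _, Or.inr (Or.inr (Or.inr ⟨by omega, ?_, by rw [cj, e1]⟩))⟩
    rw [sq, ← zpow_zero a, ez]
    exact ⟨t * (w + 1), by linear_combination (2 * t) * hv⟩

theorem sq_dvd_pow_sub {R : Type*} [CommRing R] (d : R) (t : ℕ) :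
    d ^ 2 ∣ (1 + d) ^ t - 1 - t * d := by
  induction t with
  | zero => simp
  | succ t ih =>
    obtain ⟨c, hc⟩ := ih
    exact ⟨c * (1 + d) + t, by push_cast; linear_combination (1 + d) * hc⟩

theorem sq_dvd_sum_sub {R : Type*} [CommRing R] (d : R) (t : ℕ) :
    d ^ 2 ∣ (∑ i ∈ Finset.range t, (1 + d) ^ i) - t - t.choose 2 * d := by
  induction t with
  | zero => simp
  | succ t ih =>
    obtain ⟨c, hc⟩ := ih
    obtain ⟨e, he⟩ := sq_dvd_pow_sub d t
    refine ⟨c + e, ?_⟩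
    rw [Finset.sum_range_succ, Nat.choose_succ_succ' t 1, Nat.choose_one_right]
    push_cast
    linear_combination hc + he

theorem s0645 (hp : p.Prime) (h2 : p ≠ 2) (hn : 3 ≤ n) (hG : Nat.card G = p ^ n) (hC : IsCyclic A)
    (hi : A.index = p) (hna : ∃ x y : G, x * y ≠ y * x) :
    ∃ a b : G, orderOf a = p ^ (n - 1) ∧ orderOf b = p ∧ b ∉ zpowers a ∧
      b * a * b⁻¹ = a ^ (1 + p ^ (n - 2)) := by
  obtain ⟨m, rfl⟩ := Nat.exists_eq_add_of_le' hn
  obtain ⟨a, b, k, s, ha, rfl, hb, hk, hs, h1, h3, -⟩ := cyc_data hp hG hC hi hna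
  simp only [show m + 3 - 1 = m + 2 from rfl, show m + 3 - 2 = m + 1 from rfl]
  have ez : ∀ i j : ℤ, a ^ i = a ^ j ↔ (p : ℤ) ^ (m + 2) ∣ i - j := fun i j => by
    rw [zpow_eq_iff ha]; push_cast; rfl
  have hp' : Prime (p : ℤ) := Nat.prime_iff_prime_int.1 hp
  have := Fact.mk hp
  have ho := hp.odd_of_ne_two h2
  have h4 : (p : ℤ) ∣ k - 1 := by
    have e : (p : ℤ) ∣ k ^ p - 1 := (dvd_pow_self _ (by omega)).trans h3
    rw [← ZMod.intCast_zmod_eq_zero_iff_dvd] at e ⊢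
    push_cast at e ⊢
    rwa [ZMod.pow_card] at e
  have h5 : (p : ℤ) ^ (m + 1) ∣ k - 1 := by
    have e := Int.emultiplicity_pow_sub_pow hp ho (x := k) (y := 1) h4 (fun h => hp'.not_dvd_one (by
      simpa using dvd_sub h h4)) p
    rw [one_pow] at e
    have e1 := pow_dvd_iff_le_emultiplicity.1 h3
    have e2 : emultiplicity p p = 1 := hp.emultiplicity_self
    rw [e, e2] at e1
    rw [pow_dvd_iff_le_emultiplicity]
    push_cast at e1 ⊢
    rw [show (m : ℕ∞) + 2 = m + 1 + 1 by rw [add_assoc]; rfl] at e1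
    exact (ENat.add_le_add_iff_right ENat.one_ne_top).1 e1
  obtain ⟨u, hu⟩ := h5
  have h6 : ¬ (p : ℤ) ∣ u := fun ⟨v, hv⟩ => h1 ⟨v, by rw [hu, hv]; ring⟩
  obtain ⟨j, hj⟩ : ∃ j : ℕ, (p : ℤ) ∣ j * u - 1 := by
    obtain ⟨c, d, hcd⟩ := (hp'.coprime_iff_not_dvd.2 h6)
    refine ⟨(d % p).toNat, ?_⟩
    rw [Int.toNat_of_nonneg (Int.emod_nonneg _ hp'.ne_zero)]
    exact ⟨-c - d / p * u, by rw [Int.emod_def]; linear_combination hcd⟩
  obtain ⟨v, hv⟩ := hj
  have hd : (p : ℤ) ^ (m + 2) ∣ ((p : ℤ) ^ (m + 1)) ^ 2 := by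
    rw [← pow_mul]; exact pow_dvd_pow _ (by omega)
  have hk1 : b ^ j * a * (b ^ j)⁻¹ = a ^ (1 + (p : ℤ) ^ (m + 1)) := by
    rw [Core.pow_conj_of_conj_eq_zpow hk, ez]
    obtain ⟨c, hc⟩ := sq_dvd_pow_sub (k - 1) j
    obtain ⟨d, hd⟩ := hd
    rw [add_sub_cancel, hu, mul_pow, hd] at hc
    exact ⟨d * u ^ 2 * c + v, by linear_combination hc + p ^ (m + 1) * hv⟩
  have ne : a ^ (1 + (p : ℤ) ^ (m + 1)) ≠ a := by
    intro e
    have := (ez _ 1).1 (by rw [e, zpow_one])
    rw [add_sub_cancel_left, pow_dvd_pow_iff hp'.ne_zero hp'.not_isUnit] at this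
    omega
  have hb1 : b ^ j ∉ zpowers a := fun h => ne (by
    rw [← hk1, mem_C_comm (abel_zpowers a) h (mem_zpowers a), mul_inv_cancel_right])
  have hs1 : (b ^ j) ^ p = a ^ (s * j) := by rw [← pow_mul, mul_comm, pow_mul, hs, zpow_mul, zpow_natCast]
  have h7 : (p : ℤ) ∣ s * j := by
    have e : b ^ j * (b ^ j) ^ p * (b ^ j)⁻¹ = (b ^ j) ^ p := by group
    rw [hs1, ← conj_zpow, hk1, ← zpow_mul, ez] at e
    have e' : (1 + (p : ℤ) ^ (m + 1)) * (s * j) - s * j = p ^ (m + 1) * (s * j) := by ring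
    rw [e', pow_succ _ (m + 1)] at e
    exact (mul_dvd_mul_iff_left (pow_ne_zero _ hp'.ne_zero)).1 e
  obtain ⟨t, ht⟩ := h7
  have nm := not_mem_mul hb1 (zpow_mem (mem_zpowers a) (-t))
  refine ⟨a, a ^ (-t) * b ^ j, ha, orderOf_of_pow hp ?_ fun e => nm (e ▸ one_mem _), nm, ?_⟩
  · rw [Core.mul_pow_of_conj_eq_zpow hk1, hs1, ← zpow_add, ← zpow_zero a, ez, ht]
    obtain ⟨c, hc⟩ := hd.trans (sq_dvd_sum_sub ((p : ℤ) ^ (m + 1)) p)
    obtain ⟨e, he⟩ := dvd_choose_two ho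
    rw [he] at hc
    push_cast at hc
    exact ⟨-t * (c + e), by linear_combination (-t) * hc⟩
  · have : (a ^ (-t) * b ^ j) * a * (a ^ (-t) * b ^ j)⁻¹ =
      a ^ (-t) * (b ^ j * a * (b ^ j)⁻¹) * (a ^ (-t))⁻¹ := by group
    rw [this, hk1, ← zpow_natCast]
    push_cast
    group

end CycIdx

/-! ### Suzuki's and Taussky's criteria -/
section Tau
open Cfsg (iterCommutator)
universe u

theorem class_le [Finite G] (hp : p.Prime) (hG : Nat.card G = p ^ n) (hn : 2 ≤ n) :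
    Group.nilpotencyClass G ≤ n - 1 := by
  have hN : Group.IsNilpotent G := nil_top.1 (PiG.nil (pig_top hp hG))
  obtain ⟨k, hk, e⟩ := (Nat.dvd_prime_pow hp).1 (card_der_dvd hp hG hn)
  have h2 := iter_card_dvd hp (pig_top hp hG) (der_norm _) e (n - 2)
  rw [show k - (n - 2) = 0 by omega, pow_zero, Nat.dvd_one, card_eq_one, ← iter_succ', ← lcs_eq,
    Subgroup.lowerCentralSeries_eq_bot_iff_nilpotencyClass_le] at h2
  omega

theorem center_eq : center G = Z[(⊤ : Subgroup G)] := by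
  rw [top_inf_eq, coe_top, centralizer_univ]

theorem sq_dvd_card_C1 [Finite G] (hp : p.Prime) (hG : Nat.card G = p ^ n) (hn : 2 ≤ n) (x : G) :
    p ^ 2 ∣ #C1[x] := by
  have hT := pig_top hp hG
  by_cases h : x ∈ C[(⊤ : Subgroup G)]
  · rw [top_le_iff.1 (le_C1_iff.2 h), card_top, hG]
    exact pow_dvd_pow _ hn
  have h0 : (⊤ : Subgroup G) ≠ ⊥ := fun e => h (by rw [e, C_bot]; trivial)
  have h1 : Z[(⊤ : Subgroup G)] < C1[x] :=
    lt_of_le_of_ne (inf_le_right.trans (C_le_C1 (mem_top x))) fun e => h (e.ge (mem_C1_self x)).2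
  exact pow_dvd_of_lt hp h1 (PiG.of_le hT le_top) (pow_dvd_of_lt hp
    (bot_lt_iff_ne_bot.2 ((PiG.nil hT).Z_ne_bot h0)) (PiG.of_le hT le_top) (by simp))

theorem class_of_C1 (hp : p.Prime) (n : ℕ) : ∀ {G : Type u} [Group G] [Finite G] (a : G),
    Nat.card G = p ^ (n + 2) → #C1[a] = p ^ 2 → Group.nilpotencyClass G = n + 1 := by
  induction n with
  | zero =>
    intro G _ _ a hG _
    have hN : Group.IsNilpotent G := nil_top.1 (PiG.nil (pig_top hp hG))
    have h1 := class_le hp hG le_rfl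
    have h2 : Group.nilpotencyClass G ≠ 0 := fun e => by
      have := Group.nilpotencyClass_zero_iff_subsingleton.1 e
      rw [Nat.card_of_subsingleton (1 : G)] at hG
      exact absurd (Nat.pow_right_injective hp.two_le (hG.symm.trans (pow_zero p).symm)) (by omega)
    omega
  | succ n ih =>
    intro G _ _ a hG hC
    have hT := pig_top hp hG
    have hN : Group.IsNilpotent G := nil_top.1 (PiG.nil hT)
    have : Nontrivial G := Finite.one_lt_card_iff_nontrivial.1 (hG ▸ Nat.one_lt_pow (by omega) hp.one_lt)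
    have hZ : #(center G) = p ^ 1 := by
      refine card_between hp (A := ⊥) (H := C1[a]) (n := 0)
        (bot_lt_iff_ne_bot.2 (Group.IsNilpotent.center_ne_bot G)) (lt_of_le_of_ne
          (center_le_centralizer _) fun e => ?_) (by simp) hC
      have h1 : C1[a] = ⊤ := top_le_iff.1 (le_C1_iff.2 (center_eq.le (e.ge (mem_C1_self a))).2)
      rw [h1, card_top, hG] at hC
      exact absurd (Nat.pow_right_injective hp.two_le hC) (by omega)
    have hQ : Nat.card (G ⧸ center G) = p ^ (n + 2) :=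
      index_of_card hp hG (r := n + 2) (by omega) (by rw [hZ]; congr 1; omega)
    rw [Group.nilpotencyClass_eq_quotient_center_plus_one, ih (QuotientGroup.mk' _ a) hQ]
    refine Nat.dvd_antisymm ?_ (sq_dvd_card_C1 hp hQ (by omega) _)
    set R := (C1[QuotientGroup.mk' (center G) a]).comap (QuotientGroup.mk' (center G))
    have h1 : (C1[a]).relIndex R ∣ #(center G) := by
      refine idx_C1_dvd ((abel_Z ⊤).of_le center_eq.le) (center_le_centralizer _) fun g hg => ?_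
      rw [← QuotientGroup.ker_mk' (center G), MonoidHom.mem_ker]
      have := mem_C1.1 (mem_comap.1 hg)
      simp only [map_mul, map_inv]
      rw [this]; group
    have h2 : C1[a] ≤ R := fun g hg => mem_comap.2 (mem_C1.2 (by
      rw [← map_mul, mem_C1.1 hg, map_mul]))
    have h3 : R.index = (C1[QuotientGroup.mk' (center G) a]).index :=
      index_comap_of_surjective _ (QuotientGroup.mk'_surjective _)
    have h4 := R.card_mul_index
    have h5 := (C1[QuotientGroup.mk' (center G) a]).card_mul_index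
    have h6 := card_mul_relIndex h2
    rw [hQ, ← h3] at h5
    rw [hG, pow_succ _ (n + 2), ← h5, mul_right_comm] at h4
    have h7 := Nat.eq_of_mul_eq_mul_right (Nat.pos_of_ne_zero index_ne_zero_of_finite) h4
    rw [hZ, pow_one] at h1
    exact Nat.dvd_of_mul_dvd_mul_right hp.pos (by rw [← h7, ← h6, hC]; exact mul_dvd_mul_left _ h1)

theorem s0112 [Finite G] (hp : p.Prime) (hG : Nat.card G = p ^ n) (hA : #A = p ^ 2)
    (hC : C[A] = A) : Group.nilpotencyClass G = n - 1 := by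
  have hn : 2 ≤ n := (Nat.pow_dvd_pow_iff_le_right hp.one_lt).1 (hA ▸ hG ▸ card_subgroup_dvd_card A)
  obtain ⟨m, rfl⟩ := Nat.exists_eq_add_of_le' hn
  have hT := pig_top hp hG
  have hZ : Z[(⊤ : Subgroup G)] ≤ A := hC ▸ inf_le_right.trans (centS le_top)
  rcases hZ.eq_or_lt with e | h
  · have : A = ⊤ := hC ▸ top_le_iff.1 (cent_symm (e ▸ inf_le_right))
    exact class_of_C1 hp m 1 hG (by rw [C1_one, ← this, hA])
  obtain ⟨a, ha, ha'⟩ := SetLike.exists_of_lt h
  refine class_of_C1 hp m a hG ?_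
  have h0 : Z[(⊤ : Subgroup G)] ≠ ⊥ :=
    (PiG.nil hT).Z_ne_bot fun e => ha' (by rw [e, C_bot] ; exact ⟨e ▸ mem_top a, trivial⟩)
  have h1 : Z[(⊤ : Subgroup G)] ⊔ zpowers a = A := by
    by_contra hne
    have h2 := lt_of_le_of_ne (sup_le hZ (zpowers_le.2 ha)) hne
    have h3 := card_sub_of_sq hp hA h2 fun e => h0 (le_bot_iff.1 (e ▸ le_sup_left))
    have h4 := eq_of_card_le (le_sup_left (a := Z[(⊤ : Subgroup G)]) (b := zpowers a))
      (by rw [h3, card_sub_of_sq hp hA h h0])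
    exact ha' (h4 ▸ mem_sup_right (mem_zpowers a))
  rw [← hA, ← hC, ← h1, C_sup, C_zpowers, top_le_iff.1 (cent_symm inf_le_right), top_inf_eq]

theorem taussky_aux (n : ℕ) : ∀ {G : Type u} [Group G] [Finite G], Nat.card G = 2 ^ (n + 3) →
    #⁅(⊤ : Subgroup G), (⊤ : Subgroup G)⁆ = 2 ^ (n + 1) → ∃ a : G, 2 ^ (n + 2) ∣ orderOf a := by
  have hp := Nat.prime_two
  induction n with
  | zero =>
    intro G _ _ hG hD
    by_contra h
    push Not at h
    have h1 : ∀ x : G, x * x = 1 := fun x => by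
      have := PiG.card_dvd_or (PiG.of_le (pig_top hp hG) (le_top (a := zpowers x))) hp 1
      rw [card_zpowers'] at this
      simpa [pow_two] using orderOf_dvd_iff_pow_eq_one.1 (this.resolve_right (h x))
    have : Abel (⊤ : Subgroup G) := le_C_iff.2 fun a _ b _ => by
      have e : ∀ x : G, x⁻¹ = x := fun x => inv_eq_of_mul_eq_one_right (h1 x)
      rw [← e (a * b), mul_inv_rev, e, e]
    rw [abel_iff_der.1 this, card_bot'] at hD
    omega
  | succ n ih =>
    intro G _ _ hG hD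
    have hT := pig_top hp hG
    obtain ⟨T, hT1, hT2, hT3⟩ := PiG.exists_normal (n := 1) hT hp le_top (der_norm _)
      (hD ▸ pow_dvd_pow _ (by omega))
    have hT4 : T ≤ C[⊤] := PiG.cent_of_dvd hT hp hT2 (by rw [hT3, pow_one])
    have hN : N[T] = ⊤ := top_le_iff.1 hT2
    have e1 : (⊤ : Subgroup G) ÷ T = ⊤ := hN ▸ quo_top T
    have hi : T.index = 2 ^ (n + 3) := index_of_card hp hG (by omega) (by rw [hT3]; congr 1; omega)
    obtain ⟨a', ha'⟩ := ih (G := Quo T) (by rw [← card_top, ← e1, card_quo hT2, relIndex_top_right, hi])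
      (by
        rw [← e1, ← PHom.im_der hT2, card_quo (le_top.trans hT2)]
        have := card_mul_relIndex hT1
        rw [hT3, hD, pow_one, pow_succ' _ (n + 1)] at this
        omega)
    obtain ⟨a, -, -, rfl⟩ := PHom.mem_im.1 (e1.ge (mem_top a'))
    by_contra h
    push Not at h
    have h1 : orderOf a ∣ 2 ^ (n + 2) := by
      have := PiG.card_dvd_or (PiG.of_le hT (le_top (a := zpowers a))) hp (n + 2)
      rw [card_zpowers'] at this
      exact this.resolve_right (h a)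
    have h2 := PHom.orderOf_app_dvd (φ := quo T) (hT2 (mem_top a))
    have h3 : orderOf a = 2 ^ (n + 2) := Nat.dvd_antisymm h1 (ha'.trans h2)
    have h4 : #(T ⊔ zpowers a) = 2 ^ (n + 3) := by
      rw [← card_mul_relIndex (le_sup_left (b := zpowers a)), ← card_quo (le_top.trans hT2),
        quo_sup_l (le_top.trans hT2), PHom.im_zpowers (hT2 (mem_top a)), card_zpowers', hT3,
        Nat.dvd_antisymm (h2.trans h1) ha']
      ring
    have h5 : (T ⊔ zpowers a).index = 2 := by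
      simpa using index_of_card hp hG (r := 1) (by omega) h4
    have h6 := PiG.norm_of_relIndex hT hp le_top (by rw [relIndex_top_right, h5])
    obtain ⟨b, hb⟩ : ∃ b, b ∉ T ⊔ zpowers a := by
      by_contra h
      push Not at h
      rw [(eq_top_iff' _).2 h, index_top] at h5
      omega
    have h7 := cardS (der_le_zpowers_aux hT4 (mem_top a) (mem_top b) le_top (h6 (mem_top b))
      (sup_eq_top_of_index hp h5 hb))
    rw [hD, card_zpowers'] at h7
    obtain ⟨t, ht, c, hc, e⟩ := (mem_sup_r (cents_norm (centSS hT4 le_rfl le_top))).1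
      (conj_mem (h6 (mem_top b)) (mem_sup_right (mem_zpowers a)))
    have c1 : ∀ x, Commute t x := fun x => (mem_C.1 (hT4 ht) x (mem_top x)).symm
    have c2 : Commute c a := mem_C_comm (abel_zpowers a) hc (mem_zpowers a)
    have t2 : t ^ 2 ^ (n + 1) = 1 := by
      rw [pow_succ', pow_mul, pow_eq_one_of_card (hT3.trans (pow_one 2)) ht, one_pow]
    have h8 : c ^ 2 ^ (n + 1) = a ^ 2 ^ (n + 1) := by
      obtain ⟨k, rfl⟩ := mem_zpowers_iff.1 hc
      refine Core.eq_of_mem_zpowers_of_sq_eq_one ?_ ⟨k, ?_⟩ fun e' => ?_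
      · rw [← pow_mul, ← pow_succ, ← h3, pow_orderOf_eq_one]
      · simp only [← zpow_natCast, ← zpow_mul, mul_comm]
      · have : (b * a * b⁻¹) ^ 2 ^ (n + 1) = 1 := by rw [e, (c1 _).mul_pow, t2, e', one_mul]
        rw [conj_pow, conj_eq_one_iff, ← orderOf_dvd_iff_pow_eq_one, h3] at this
        exact not_pow_succ_dvd hp this
    have h9 : (b * a * b⁻¹ * a⁻¹) ^ 2 ^ (n + 1) = 1 := by
      rw [e, mul_assoc, (c1 _).mul_pow, t2, c2.inv_right.mul_pow, h8]
      simp
    exact not_pow_succ_dvd hp (h7.trans (orderOf_dvd_of_pow_eq_one h9))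

/-- Taussky: normal form of a `2`-group with abelianization of order `4` -/
theorem taussky [Finite G] (hG : Nat.card G = 2 ^ (n + 3))
    (hD : #⁅(⊤ : Subgroup G), (⊤ : Subgroup G)⁆ = 2 ^ (n + 1)) :
    ∃ (a b : G) (u : ℤ), orderOf a = 2 ^ (n + 2) ∧ (zpowers a).index = 2 ∧ b ∉ zpowers a ∧ Odd u ∧
      b * a * b⁻¹ = a ^ (2 * u + 1) ∧ (2 : ℤ) ^ n ∣ u + 1 ∧ b ^ 2 ∈ zpowers (a ^ 2 ^ (n + 1)) := by
  have hp := Nat.prime_two
  obtain ⟨a, ha⟩ := taussky_aux n hG hD
  have hna : ¬ Abel (⊤ : Subgroup G) := fun h => by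
    rw [abel_iff_der.1 h, card_bot'] at hD
    exact absurd (Nat.pow_right_injective le_rfl (hD.symm.trans (pow_zero 2).symm)) (by omega)
  have idx : ∀ a : G, orderOf a = 2 ^ (n + 2) → (zpowers a).index = 2 := fun a h => by
    simpa using index_of_card hp hG (r := 1) (by omega) (by rw [card_zpowers', h]; rfl)
  have h1 : orderOf a = 2 ^ (n + 2) := by
    refine Nat.dvd_antisymm ?_ ha
    rw [← card_zpowers']
    exact card_lt_pow hp (B := ⊤) (lt_top_iff_ne_top.2 fun e => hna (e ▸ abel_zpowers a))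
      (by rw [card_top, hG])
  obtain ⟨a, b, h2, h3, h4⟩ := s0646 (by omega) hG (cyc_zpowers a) (idx a h1) (by
    by_contra h
    push Not at h
    exact hna (le_C_iff.2 fun a _ b _ => h a b))
  simp only [show n + 3 - 1 = n + 2 from rfl, show n + 3 - 2 = n + 1 from rfl] at h2 h4
  rcases h4 with ⟨e1, e2⟩ | ⟨e1, e2⟩ | ⟨e0, e1, e2⟩ | ⟨e0, e1, e2⟩
  · exact ⟨a, b, -1, h2, idx a h2, h3, by decide, by simp [e2], by simp, e1 ▸ one_mem _⟩
  · exact ⟨a, b, -1, h2, idx a h2, h3, by decide, by simp [e2], by simp, e1 ▸ mem_zpowers _⟩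
  · exfalso
    have h7 := cardS (der_le_zpowers_aux (T := ⊥) bot_le (mem_top a) (mem_top b) le_top
      (by
        rw [bot_sup_eq]
        exact PiG.norm_of_relIndex (pig_top hp hG) hp le_top
          (by rw [relIndex_top_right, idx a h2]) (mem_top b))
      (by rw [bot_sup_eq]; exact sup_eq_top_of_index hp (idx a h2) h3))
    rw [hD, card_zpowers', e2, add_comm 1, pow_succ a, mul_inv_cancel_right] at h7
    have : (a ^ 2 ^ (n + 1)) ^ 2 ^ 1 = 1 := by rw [← pow_mul, ← pow_add, ← h2, pow_orderOf_eq_one]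
    have := (Nat.pow_dvd_pow_iff_le_right hp.one_lt).1 (h7.trans (orderOf_dvd_of_pow_eq_one this))
    omega
  · obtain ⟨m, rfl⟩ := Nat.exists_eq_add_of_le' (show 1 ≤ n by omega)
    refine ⟨a, b, 2 ^ (m + 1) - 1, h2, idx a h2, h3, ⟨2 ^ m - 1, by ring⟩, ?_, by simp, e1 ▸ one_mem _⟩
    rw [e2, ← zpow_natCast, Nat.cast_sub Nat.one_le_two_pow]
    congr 1; push_cast; ring

theorem class_of_der [Finite G] (hG : Nat.card G = 2 ^ (n + 3))
    (hD : #⁅(⊤ : Subgroup G), (⊤ : Subgroup G)⁆ = 2 ^ (n + 1)) : Group.nilpotencyClass G = n + 2 := by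
  have hp := Nat.prime_two
  have hN : Group.IsNilpotent G := nil_top.1 (PiG.nil (pig_top hp hG))
  obtain ⟨a, b, u, h1, -, -, hu, e, -⟩ := taussky hG hD
  refine le_antisymm (class_le hp hG (by omega)) ?_
  have key : ∀ i, a ^ ((2 * u) ^ i) ∈ (⊤ : Subgroup G).lowerCentralSeries i := by
    intro i
    induction i with
    | zero => exact mem_top _
    | succ i ih =>
      rw [Subgroup.lowerCentralSeries_succ, commC]
      convert comm_mem (mem_top b) ih using 1
      rw [← conj_zpow, e, ← zpow_mul, ← zpow_sub]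
      congr 1; ring
  by_contra h
  have := key (n + 1)
  rw [Subgroup.lowerCentralSeries_eq_bot_iff_nilpotencyClass_le.2 (by omega), mem_bot,
    zpow_eq_one_iff h1, mul_pow] at this
  push_cast at this
  rw [pow_succ _ (n + 1)] at this
  have := (mul_dvd_mul_iff_left (by positivity)).1 this
  exact Int.not_even_iff_odd.2 hu.pow (even_iff_two_dvd.2 this)

theorem s0113 [Finite G] (hn : 3 ≤ n) (hG : Nat.card G = 2 ^ n)
    (hc : Group.nilpotencyClass G = n - 1) : ∃ C : Subgroup G, IsCyclic C ∧ C.index = 2 := by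
  have := (mc_der Nat.prime_two hG hc hn).1
  obtain ⟨m, rfl⟩ := Nat.exists_eq_add_of_le' hn
  obtain ⟨a, -, -, -, h, -⟩ := taussky hG this
  exact ⟨_, cyc_zpowers a, h⟩

theorem s0115 [Finite G] (hn : 3 ≤ n) (hG : Nat.card G = 2 ^ n) :
    Group.nilpotencyClass G = n - 1 ↔ IsKleinFour (G ⧸ _root_.commutator G) := by
  have hp := Nat.prime_two
  constructor
  · intro hc
    have h1 := (mc_der hp hG hc hn).1
    have h2 : Nat.card (G ⧸ _root_.commutator G) = 2 ^ 2 := index_of_card hp hG (by omega) h1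
    have : Nontrivial (G ⧸ _root_.commutator G) := Finite.one_lt_card_iff_nontrivial.1 (by omega)
    have := Fact.mk hp
    refine ⟨h2, (Monoid.exponent_eq_prime_iff hp).2 fun x hx => ?_⟩
    obtain ⟨k, hk, e⟩ := (Nat.dvd_prime_pow hp).1 (h2 ▸ orderOf_dvd_natCard x)
    obtain ⟨x, rfl⟩ := QuotientGroup.mk'_surjective _ x
    interval_cases k
    · exact absurd (orderOf_eq_one_iff.1 e) hx
    · exact e
    · exfalso
      have h3 : zpowers (QuotientGroup.mk' (_root_.commutator G) x) = ⊤ :=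
        eq_of_card_le le_top (by rw [card_top, card_zpowers', e, h2])
      have h4 := congrArg (comap (QuotientGroup.mk' (_root_.commutator G))) h3
      rw [← MonoidHom.map_zpowers, comap_map_eq, QuotientGroup.ker_mk', comap_top] at h4
      have h5 := (PiG.nil (pig_top hp hG)).eq_of_sup_der le_top h4.ge
      rw [← h5, abel_iff_der.1 (abel_zpowers x), card_bot'] at h1
      exact absurd (Nat.pow_right_injective le_rfl (h1.symm.trans (pow_zero 2).symm)) (by omega)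
  · intro h
    have := (card_of_index hp hG (H := _root_.commutator G) (r := 2) h.card_four).2
    obtain ⟨m, rfl⟩ := Nat.exists_eq_add_of_le' hn
    exact class_of_der hG this

theorem s0114 [Finite G] (hn : 3 ≤ n) (hG : Nat.card G = 2 ^ n)
    (hc : Group.nilpotencyClass G = n - 1) :
    Nonempty (G ⧸ center G ≃* DihedralGroup (2 ^ (n - 2))) := by
  have hp := Nat.prime_two
  have hD := (mc_der hp hG hc hn).1
  obtain ⟨m, rfl⟩ := Nat.exists_eq_add_of_le' hn
  obtain ⟨a, b, u, h1, hi, hb, hu, e, ⟨v, hv⟩, h2⟩ := taussky hG hD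
  have top := sup_eq_top_of_index hp hi hb
  have ez : ∀ i j : ℤ, a ^ i = a ^ j ↔ (2 : ℤ) ^ (m + 2) ∣ i - j := fun i j => by
    rw [zpow_eq_iff h1]; push_cast; rfl
  have key : ∀ j : ℤ, a ^ j ∈ center G ↔ (2 : ℤ) ^ (m + 1) ∣ j := fun j => by
    have e1 : b * a ^ j = a ^ j * b ↔ (2 : ℤ) ^ (m + 1) ∣ j := by
      rw [← mul_inv_eq_iff_eq_mul, ← conj_zpow, e, ← zpow_mul, ez,
        show (2 * u + 1) * j - j = j * u * 2 by ring, pow_succ, mul_dvd_mul_iff_right two_ne_zero]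
      exact ⟨(IsCoprime.pow_left (Int.isCoprime_two_left.2 hu)).dvd_of_dvd_mul_right,
        fun h => h.mul_right u⟩
    rw [← e1, center_eq, top_inf_eq, ← le_C1_iff, ← top, sup_le_iff, zpowers_le, zpowers_le, mem_C1,
      mem_C1, and_iff_right (Commute.self_zpow a j).eq]
  have hZ : center G ≤ zpowers a := fun z hz => by
    by_contra h
    have : Abel (zpowers a ⊔ zpowers z) := (abel_zpowers a).sup (abel_zpowers z)
      (cent_symm ((zpowers_le.2 hz).trans (center_le_centralizer _)))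
    rw [sup_eq_top_of_index hp hi h, abel_iff_der] at this
    rw [this, card_bot'] at hD
    exact absurd (Nat.pow_right_injective le_rfl (hD.symm.trans (pow_zero 2).symm)) (by omega)
  set π := QuotientGroup.mk' (center G)
  have hπ : ∀ x, π x = 1 ↔ x ∈ center G := fun x => QuotientGroup.eq_one_iff x
  have := Fact.mk hp
  have o : orderOf (π a) = 2 ^ (m + 1) := by
    refine orderOf_eq_prime_pow ?_ ?_
    · rw [← map_pow, hπ, ← zpow_natCast, key]
      push_cast
      rw [pow_dvd_pow_iff two_ne_zero (by decide)]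
      omega
    · rw [← map_pow, hπ, ← zpow_natCast, key]
      simp
  obtain ⟨f⟩ := Inv.dihedral_equiv o (s := π b) (by
      rw [← map_mul, hπ, ← pow_two]
      refine zpowers_le.2 ?_ h2
      rw [← zpow_natCast, key]; simp)
    (by
      rw [eq_inv_iff_mul_eq_one, ← map_inv, ← map_mul, ← map_mul, ← map_mul, hπ, e, ← zpow_add_one, key]
      exact ⟨v, by rw [pow_succ]; linear_combination 2 * hv⟩)
    (fun h => hb (by
      rw [← MonoidHom.map_zpowers, ← mem_comap, comap_map_eq, QuotientGroup.ker_mk',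
        sup_eq_left.2 hZ] at h
      exact h))
  have h3 : closure {π a, π b} = ⊤ := by
    rw [Inv.closure_pair_eq_sup, ← MonoidHom.map_zpowers, ← MonoidHom.map_zpowers, ← Subgroup.map_sup,
      top, map_top_of_surjective _ (QuotientGroup.mk'_surjective _)]
  exact ⟨(topEquiv.symm.trans (MulEquiv.subgroupCongr h3.symm)).trans f⟩

end Tau

end Cfsg.Agent.PLoc.MC
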