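import Cfsg.Agent.PLoc.Dickson

/-!
`SL(2, p)`-free and `Qd(p)`-free groups are `p`-stable.
-/

set_option autoImplicit false

namespace Cfsg.Agent.PLoc

open Subgroup
open scoped commutatorElement Pointwise MatrixGroups Matrix

universe u

variable {p : ℕ}

section

variable {G : Type*} [Group G]

theorem exists_quad_pair [Finite G] [Fact p.Prime] {H V : Subgroup G}
    (hHV : H ≤ normalizer (V : Set G)) (h : ¬ StabOn p H V) : ∃ (L : Subgroup G) (a b : L), L ≤ H ∧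
      L = Subgroup.closure {(a : G), (b : G)} ∧ ⁅⁅V, zpowers (a : G)⁆, zpowers (a : G)⁆ = ⊥ ∧
      ⁅⁅V, zpowers (b : G)⁆, zpowers (b : G)⁆ = ⊥ ∧ ¬ pResOf p L ≤ centralizer (V : Set G) := by
  by_contra hcon
  refine h (stabOn_of_forall hHV fun a ha hq => ?_)
  by_contra h
  obtain ⟨g, hg, h2⟩ := exists_conj_of_not_inOp (le_normalizer_centralizer hHV) ha h
  have hle : Subgroup.closure {a, g * a * g⁻¹} ≤ H := (closure_le _).2 (by
    rintro x (rfl | rfl)
    · exact ha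
    · exact conj_mem_of_mem_normalizer (le_normalizer hg) ha)
  exact hcon ⟨_, ⟨a, subset_closure (by simp)⟩, ⟨g * a * g⁻¹, subset_closure (by simp)⟩, hle, rfl,
    hq, quad_conj (hHV hg) hq, h2⟩

theorem stabOn_of_not_hasSection [Finite G] [Fact p.Prime] (hp : p ≠ 2) {H V : Subgroup G}
    (hs : ¬ HasSection H SL(2, ZMod p)) (hV : IsElementaryAbelian p V)
    (hHV : H ≤ normalizer (V : Set G)) : StabOn p H V := by
  by_contra h
  obtain ⟨L, a, b, hle, hL, ha, hb, hnp⟩ := exists_quad_pair hHV h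
  obtain ⟨m, ν, φ, -, hν, h1, h2, -⟩ := exists_SL2_of_quad hV (hle.trans hHV) hL ha hb hnp
  exact hs ((hasSection_SL2p hp φ hν ⟨a, h1⟩ ⟨b, h2⟩).mono hle)

theorem HasSection.of_quotient {N : Subgroup G} [N.Normal] {T : Type*} [Group T]
    (h : HasSection (⊤ : Subgroup (G ⧸ N)) T) : HasSection (⊤ : Subgroup G) T :=
  HasSection.of_map (QuotientGroup.mk' N)
    (by rwa [map_top_of_surjective _ (QuotientGroup.mk'_surjective N)])

theorem HasSection.of_subgroup {H : Subgroup G} {T : Type*} [Group T]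
    (h : HasSection (⊤ : Subgroup H) T) : HasSection (⊤ : Subgroup G) T :=
  (h.map_inj H.subtype_injective).mono le_top

theorem hasSection_top_iff {T : Type*} [Group T] : HasSection (⊤ : Subgroup G) T ↔
    ∃ (K L : Subgroup G) (_ : (L.subgroupOf K).Normal), Nonempty ((K ⧸ L.subgroupOf K) ≃* T) := by
  simp [hasSection_iff]

theorem stabN_of_not_hasSection [Finite G] [Fact p.Prime] (hp : p ≠ 2)
    (h : ¬ HasSection (⊤ : Subgroup G) SL(2, ZMod p)) : StabN p G :=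
  stabN_of fun _ _ _ _ hV => stabOn_of_not_hasSection hp (fun h' => h h'.of_quotient) hV
    le_normalizer_of_normal

end

/-! ### the group `Qd(p)` -/

/-- the matrix of an affine map -/
def qdM (v : Fin 2 → ZMod p) (A : SL(2, ZMod p)) : Matrix (Fin 3) (Fin 3) (ZMod p) :=
  !![A 0 0, A 0 1, v 0; A 1 0, A 1 1, v 1; 0, 0, 1]

/-- affine maps as elements of `Qd(p)` -/
def qdE (v : Fin 2 → ZMod p) (A : SL(2, ZMod p)) : qd p :=
  ⟨⟨qdM v A, by
    have := A.det_coe
    rw [Matrix.det_fin_two] at this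
    simp [qdM, Matrix.det_fin_three, this]⟩, subset_closure ⟨rfl, rfl, rfl⟩⟩

theorem qdE_mul (v w : Fin 2 → ZMod p) (A B : SL(2, ZMod p)) : qdE v A * qdE w B =
    qdE (v + (A : Matrix (Fin 2) (Fin 2) (ZMod p)) *ᵥ w) (A * B) := by
  refine Subtype.ext (Subtype.ext ?_)
  change qdM v A * qdM w B = qdM _ _
  ext i j
  fin_cases i <;> fin_cases j <;>
    simp [qdM, Matrix.mul_apply, Fin.sum_univ_three, Matrix.mulVec, dotProduct, add_comm]

theorem qdE_one : qdE 0 1 = (1 : qd p) := by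
  refine Subtype.ext (Subtype.ext ?_)
  change qdM 0 1 = 1
  ext i j
  fin_cases i <;> fin_cases j <;> simp [qdM]

/-- translations in `Qd(p)` -/
def qdT (p : ℕ) : Multiplicative (Fin 2 → ZMod p) →* qd p where
  toFun v := qdE v.toAdd 1
  map_one' := qdE_one
  map_mul' v w := by simp [qdE_mul]

/-- the linear part of `Qd(p)` -/
def qdS (p : ℕ) : SL(2, ZMod p) →* qd p where
  toFun A := qdE 0 A
  map_one' := qdE_one
  map_mul' v w := by simp [qdE_mul]

theorem qdS_mul_qdT (A : SL(2, ZMod p)) (v : Fin 2 → ZMod p) :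
    qdS p A * qdT p (Multiplicative.ofAdd v) =
      qdT p (Multiplicative.ofAdd ((A : Matrix (Fin 2) (Fin 2) (ZMod p)) *ᵥ v)) * qdS p A := by
  simp [qdS, qdT, qdE_mul]

theorem qdT_sup_qdS : (qdT p).range ⊔ (qdS p).range = ⊤ := by
  apply map_injective (qd p).subtype_injective
  rw [map_top_subtype']
  refine le_antisymm (map_subtype_le _) ((closure_le _).2 fun M hM => ?_)
  obtain ⟨h1, h2, h3⟩ := hM
  have hd := M.det_coe
  rw [Matrix.det_fin_three, h1, h2, h3] at hd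
  set A : SL(2, ZMod p) := ⟨!![M 0 0, M 0 1; M 1 0, M 1 1], by
    simpa [Matrix.det_fin_two] using hd⟩ with hA
  have e : qdT p (Multiplicative.ofAdd ![M 0 2, M 1 2]) * qdS p A = qdE ![M 0 2, M 1 2] A := by
    simp [qdS, qdT, qdE_mul]
  refine ⟨qdE ![M 0 2, M 1 2] A, e ▸ mul_mem_sup ⟨_, rfl⟩ ⟨_, rfl⟩, ?_⟩
  refine Subtype.ext ?_
  change qdM _ _ = _
  ext i j
  fin_cases i <;> fin_cases j <;> simp [qdM, h1, h2, h3, hA]

section

variable {G : Type*} [Group G]

theorem hasSection_qd_of_disjoint {X : Subgroup G} (ψ : X →* SL(2, ZMod p))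
    (hψ : Function.Surjective ψ) (θ : Multiplicative (Fin 2 → ZMod p) →* G)
    (hθ : Function.Injective θ) (h : ∀ (x : X) v, x * θ (Multiplicative.ofAdd v) * (x : G)⁻¹ =
      θ (Multiplicative.ofAdd ((ψ x : Matrix (Fin 2) (Fin 2) (ZMod p)) *ᵥ v)))
    (hd : θ.range ⊓ X = ⊥) : HasSection (θ.range ⊔ X) (qd p) := by
  set U := (θ.prod (qdT p)).range with hU
  set Y := (X.subtype.prod ((qdS p).comp ψ)).range with hY
  have hn : Y ≤ normalizer (U : Set (G × qd p)) := by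
    refine le_normalizer_iff.2 ?_
    rintro _ ⟨x, rfl⟩ _ ⟨v, rfl⟩
    refine ⟨_, Prod.ext (h x v.toAdd).symm ?_⟩
    exact eq_mul_inv_of_mul_eq (qdS_mul_qdT (ψ x) v.toAdd).symm
  have h1 : HasSection (⊤ : Subgroup (U ⊔ Y : Subgroup _)) (qd p) := by
    refine ⟨⊤, le_rfl, ((MonoidHom.snd G (qd p)).comp (Subgroup.subtype _)).comp (Subgroup.subtype _),
      MonoidHom.range_eq_top.1 ?_⟩
    rw [MonoidHom.range_comp, range_subtype, ← MonoidHom.range_eq_map, MonoidHom.range_comp,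
      range_subtype, Subgroup.map_sup, eq_top_iff, ← qdT_sup_qdS]
    refine sup_le_sup ?_ ?_
    · rintro _ ⟨v, rfl⟩
      exact ⟨_, ⟨v, rfl⟩, rfl⟩
    · rintro _ ⟨A, rfl⟩
      obtain ⟨x, rfl⟩ := hψ A
      exact ⟨_, ⟨x, rfl⟩, rfl⟩
  refine (h1.map_inj (f := (MonoidHom.fst G (qd p)).comp (Subgroup.subtype _))
    ((injective_iff_map_eq_one _).2 ?_)).mono ?_
  · rintro ⟨z, hz⟩ e
    obtain ⟨_, ⟨v, rfl⟩, _, ⟨x, rfl⟩, rfl⟩ := (mem_sup_of_le_normalizer_left hn).1 hz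
    have e' : θ v * x = 1 := e
    have h2 : (x : G) ∈ θ.range ⊓ X := ⟨⟨v⁻¹, by rw [map_inv, inv_eq_of_mul_eq_one_right e']⟩, x.2⟩
    rw [hd, mem_bot] at h2
    rw [h2, mul_one, map_eq_one_iff _ hθ] at e'
    obtain rfl : x = 1 := Subtype.ext h2
    subst e'
    simp
  · rw [← MonoidHom.range_eq_map, MonoidHom.range_comp, range_subtype, Subgroup.map_sup]
    refine sup_le_sup ?_ ?_
    · rintro _ ⟨_, ⟨v, rfl⟩, rfl⟩
      exact ⟨v, rfl⟩
    · rintro _ ⟨_, ⟨x, rfl⟩, rfl⟩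
      exact x.2

theorem hasSection_qd [Finite G] [hp : Fact p.Prime] (h2 : p ≠ 2) {X : Subgroup G}
    (ψ : X →* SL(2, ZMod p)) (hψ : Function.Surjective ψ) (θ : Multiplicative (Fin 2 → ZMod p) →* G)
    (hθ : Function.Injective θ) (h : ∀ (x : X) v, x * θ (Multiplicative.ofAdd v) * (x : G)⁻¹ =
      θ (Multiplicative.ofAdd ((ψ x : Matrix (Fin 2) (Fin 2) (ZMod p)) *ᵥ v))) :
    HasSection (θ.range ⊔ X) (qd p) := by
  have h0 := two_ne_zero_of_ne (K := ZMod p) h2
  set Z := zpowers (-1 : SL(2, ZMod p)) with hZ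
  have hZn : Z.Normal := ⟨fun n hn g => by
    rcases mem_zpowers_neg_one.1 hn with rfl | rfl <;> simp [hZ]⟩
  have hZ2 : IsPGroup 2 Z := isPGroup_zpowers (k := 1) (by simp)
  obtain ⟨T, hT⟩ := exists_isSylowOf (p := 2) (Z.comap ψ)
  have hTZ : T.map ψ = Z := ((map_comap_eq_self_of_surjective hψ Z ▸ hT.map ψ).eq_of_le hZ2 le_rfl
    (map_le_iff_le_comap.2 hT.le)).symm
  obtain ⟨t, ht, e⟩ : -1 ∈ T.map ψ := hTZ ▸ mem_zpowers _
  set N := normalizer (T : Set X) with hN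
  have hs : N.map ψ = ⊤ := by
    have := congrArg (map ψ) hT.frattini_sup
    rwa [Subgroup.map_sup, map_comap_eq_self_of_surjective hψ, map_top_of_surjective _ hψ,
      sup_eq_right.2 (hTZ ▸ map_mono le_normalizer)] at this
  have hUp : IsPGroup p θ.range := isPGroup_iff_forall.2 (by
    rintro _ ⟨v, rfl⟩
    refine ⟨1, ?_⟩
    rw [pow_one, ← map_pow, show v ^ p = 1 from by ext i; simp, map_one])
  refine (hasSection_qd_of_disjoint (X := N.map X.subtype) (ψ.comp (inclusion (map_subtype_le N)))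
    (fun A => ?_) θ hθ (fun x v => h (inclusion (map_subtype_le N) x) v) ?_).mono
    (sup_le_sup_left (map_subtype_le N) _)
  · obtain ⟨x, hx, rfl⟩ : A ∈ N.map ψ := hs ▸ mem_top A
    exact ⟨⟨x, mem_map_of_mem _ hx⟩, rfl⟩
  · refine eq_bot_iff.2 ?_
    rintro _ ⟨⟨v, rfl⟩, x, hx, e'⟩
    have e'' : (x : G) = θ v := e'
    have h3 := h t v.toAdd
    rw [e, Matrix.SpecialLinearGroup.coe_neg, Matrix.neg_mulVec, Matrix.SpecialLinearGroup.coe_one,
      Matrix.one_mulVec, ofAdd_neg, ofAdd_toAdd, map_inv] at h3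
    have h4 : t * (x * t⁻¹ * x⁻¹) ∈ T := mul_mem ht (conj_mem_of_mem_normalizer hx (inv_mem ht))
    have h5 : ((t * (x * t⁻¹ * x⁻¹) : X) : G) = (θ v ^ 2)⁻¹ := by
      simp only [coe_mul, coe_inv, e'']
      rw [← mul_assoc, ← mul_assoc, h3]; group
    have h6 : ((t * (x * t⁻¹ * x⁻¹) : X) : G) = 1 :=
      eq_one_of_isPGroup_of_coprime hUp (h5 ▸ inv_mem (pow_mem (MonoidHom.mem_range.2 ⟨v, rfl⟩) 2))
      (coprime_orderOf_of_isPGroup h2.symm (hT.isP.map X.subtype) (mem_map_of_mem _ h4))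
    rw [h5, inv_eq_one] at h6
    exact mem_bot.2 (eq_one_of_sq_of_isPGroup h2 hUp ⟨v, rfl⟩ h6)

theorem injective_of_equivariant [Fact p.Prime] {θ : Multiplicative (Fin 2 → ZMod p) →* G}
    (h1 : θ ≠ 1) (h : ∀ (A : SL(2, ZMod p)) v, θ (Multiplicative.ofAdd v) = 1 →
      θ (Multiplicative.ofAdd ((A : Matrix (Fin 2) (Fin 2) (ZMod p)) *ᵥ v)) = 1) :
    Function.Injective θ := by
  refine (injective_iff_map_eq_one _).2 fun v hv => ?_
  by_contra hne
  have key : ∀ a : ZMod p, a ≠ 0 → ∀ b : ZMod p, θ (Multiplicative.ofAdd ![a, b]) = 1 → False := by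
    intro a ha b hb
    have h2 : ∀ c, c ≠ 0 → ∀ d, θ (Multiplicative.ofAdd ![c, d]) = 1 := fun c hc d => by
      have := h ⟨!![c / a, 0; (d - a * b / c) / a, a / c], by
        simp [Matrix.det_fin_two, ha, hc]⟩ _ hb
      convert this using 3
      ext i
      fin_cases i <;> simp <;> field_simp
      ring
    refine h1 (MonoidHom.ext fun w => ?_)
    by_cases hw : w.toAdd 0 = 0
    · have : w = Multiplicative.ofAdd ![1, w.toAdd 1] * Multiplicative.ofAdd ![-1, 0] := by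
        ext i
        fin_cases i <;> simp [hw]
      rw [this, map_mul, h2 _ one_ne_zero, h2 _ (neg_ne_zero.2 one_ne_zero)]; simp
    · rw [MonoidHom.one_apply, ← h2 _ hw (w.toAdd 1)]
      congr 1
      ext i
      fin_cases i <;> simp
  by_cases h0 : v.toAdd 0 = 0
  · have h3 : v.toAdd 1 ≠ 0 := fun h3 => hne (by
      ext i
      fin_cases i <;> simp [h0, h3])
    refine key _ h3 (v.toAdd 1) ?_
    convert h (upT 1) v.toAdd hv using 3
    ext i
    fin_cases i <;> simp [h0, upT, Matrix.mulVec, dotProduct]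
  · refine key _ h0 (v.toAdd 1) ?_
    rw [← hv]
    congr 1
    ext i
    fin_cases i <;> simp

theorem stabOn_of_not_hasSection_qd [Finite G] [Fact p.Prime] (hp : p ≠ 2) {H V : Subgroup G}
    (hs : ¬ HasSection (V ⊔ H) (qd p)) (hV : IsElementaryAbelian p V)
    (hHV : H ≤ normalizer (V : Set G)) : StabOn p H V := by
  by_contra hcon
  obtain ⟨L, a, b, hle, hL, ha, hb, hnp⟩ := exists_quad_pair hHV hcon
  obtain ⟨m, ν, φ, θ, hν, h1, h2, -, h3, h4, h5⟩ :=
    exists_SL2_of_quad hV (hle.trans hHV) hL ha hb hnp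
  set K := GaloisField p m
  obtain ⟨ρ, h, hρ, h6, h7⟩ := exists_SL2p hp hν (L := φ.range) ⟨a, h1⟩ ⟨b, h2⟩
  set f := ZMod.castHom (dvd_refl p) K with hf
  let η : K → Multiplicative (Fin 2 → ZMod p) →* Multiplicative (Fin 2 → K) := fun c =>
    AddMonoidHom.toMultiplicative
      { toFun := fun v => c • ((h : Matrix (Fin 2) (Fin 2) K) *ᵥ (f ∘ v))
        map_zero' := by simp
        map_add' := fun v w => by
          rw [← smul_add, ← Matrix.mulVec_add]; congr 2; ext; simp }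
  have hη : ∀ c v, η c (Multiplicative.ofAdd v) =
    Multiplicative.ofAdd (c • ((h : Matrix (Fin 2) (Fin 2) K) *ᵥ (f ∘ v))) := fun _ _ => rfl
  obtain ⟨c, hc⟩ : ∃ c, θ.comp (η c) ≠ 1 := by
    by_contra hcon
    push Not at hcon
    set w : Fin 2 → K := ((h⁻¹).val : Matrix (Fin 2) (Fin 2) K) *ᵥ ![1, 0] with hw
    have e : Multiplicative.ofAdd ![1, 0] =
        η (w 0) (Multiplicative.ofAdd ![1, 0]) * η (w 1) (Multiplicative.ofAdd ![0, 1]) := by
      rw [hη, hη, ← ofAdd_add, ← Matrix.mulVec_smul, ← Matrix.mulVec_smul, ← Matrix.mulVec_add]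
      have : w 0 • (f ∘ ![1, 0]) + w 1 • (f ∘ ![0, 1]) = w := by
        ext i
        fin_cases i <;> simp
      rw [this, hw, Matrix.mulVec_mulVec, Units.mul_inv, Matrix.one_mulVec]
    refine h4 ?_
    rw [e, map_mul, ← MonoidHom.comp_apply, ← MonoidHom.comp_apply, hcon, hcon]; simp
  set X := ρ.range.comap φ with hX
  let e := X.equivMapOfInjective L.subtype L.subtype_injective
  let ψ₀ : X →* SL(2, ZMod p) := (MonoidHom.ofInjective hρ).symm.toMonoidHom.comp
    ((φ.comp X.subtype).codRestrict _ fun x => x.2)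
  have hψ₀ : ∀ x, ρ (ψ₀ x) = φ x := fun x => MonoidHom.apply_ofInjective_symm hρ _
  have hs₀ : Function.Surjective ψ₀ := fun A => by
    obtain ⟨x, hx⟩ := h6 ⟨A, rfl⟩
    exact ⟨⟨x, A, hx.symm⟩, hρ ((hψ₀ _).trans hx)⟩
  have heq : ∀ (x : X) v, ((x : L) : G) * (θ.comp (η c)) (Multiplicative.ofAdd v) * ((x : L) : G)⁻¹ =
      (θ.comp (η c)) (Multiplicative.ofAdd ((ψ₀ x : Matrix (Fin 2) (Fin 2) (ZMod p)) *ᵥ v)) := by
    intro x v
    rw [MonoidHom.comp_apply, MonoidHom.comp_apply, hη, hη, h5, ← hψ₀, Matrix.mulVec_smul,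
      Matrix.mulVec_mulVec, h7, ← Matrix.mulVec_mulVec]
    congr 4
    ext i
    exact (RingHom.map_mulVec f _ v i).symm
  refine hs ((hasSection_qd hp (ψ₀.comp e.symm.toMonoidHom) (hs₀.comp e.symm.surjective)
    (θ.comp (η c)) (injective_of_equivariant hc fun A v hv => ?_) fun x v => ?_).mono
    (sup_le_sup ?_ ((map_subtype_le _).trans hle)))
  · obtain ⟨x, rfl⟩ := hs₀ A
    rw [← heq, hv]; simp
  · obtain ⟨x, rfl⟩ := e.surjective x
    rw [show (ψ₀.comp e.symm.toMonoidHom) (e x) = ψ₀ x from congrArg ψ₀ (e.symm_apply_apply x)]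
    exact heq x v
  · rintro _ ⟨v, rfl⟩
    exact h3 ⟨_, rfl⟩

theorem stabN_of_not_hasSection_qd [Finite G] [Fact p.Prime] (hp : p ≠ 2)
    (h : ¬ HasSection (⊤ : Subgroup G) (qd p)) : StabN p G :=
  stabN_of fun _ _ _ _ hV => stabOn_of_not_hasSection_qd hp
    (fun h' => h (h'.mono le_top).of_quotient) hV le_normalizer_of_normal

end

end Cfsg.Agent.PLoc
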