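import Cfsg.Agent.BG.XTop2
/-!
Extraspecial groups: decomposition into rank one factors and isomorphism theorems.
-/
set_option autoImplicit false

namespace Cfsg.Agent.PG
open Subgroup Cfsg.Agent.BG Cfsg.Agent.BG.PHom
open scoped commutatorElement

variable {G : Type*} [Group G] [Finite G] {G' : Type*} [Group G'] [Finite G']
variable {A K Q : Subgroup G} {a t x y z : G} {B Q' : Subgroup G'} {b x' y' z' : G'} {p n : ℕ}

theorem card_sup_zpowers_le (hx : x ∈ N[K]) (h : x ^ n ∈ K) (hn : n ≠ 0) : #(K ⊔ zpowers x) ≤ #K * n := by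
  have a := zpowers_le.2 hx
  rw [← card_mul_relIndex (le_sup_left (a := K)), relIndex_sup_l a, ← card_quo a, im_zpowers hx, card_zpowers']
  refine Nat.mul_le_mul_left _ (Nat.le_of_dvd (Nat.pos_of_ne_zero hn) (orderOf_dvd_of_pow_eq_one ?_))
  rw [← app_pow hx]
  exact (mem_ker.1 ((quo_ker K).ge h)).2
/-- `A` and `B` are related by a graph containing `(a, b)` -/
def Gr (A : Subgroup G) (a : G) (B : Subgroup G') (b : G') : Prop :=
  ∃ Γ : Subgroup (G × G'), Γ.map (MonoidHom.fst _ _) = A ∧ Γ.map (MonoidHom.snd _ _) = B ∧ #Γ ≤ #A ∧ (a, b) ∈ Γ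
theorem equiv_of_card_le {H : Type*} [Group H] [Finite H] {Γ : Subgroup H} (f : H →* G) (h : #Γ ≤ #(Γ.map f)) :
    Nonempty (Γ ≃* Γ.map f) :=
  ⟨MulEquiv.ofBijective (f.subgroupMap Γ) ((f.subgroupMap_surjective Γ).bijective_of_nat_card_le h)⟩
theorem Gr.equiv (h : Gr A a B b) (e : #A = #B) : Nonempty (A ≃* B) := by
  obtain ⟨Γ, rfl, rfl, c, -⟩ := h
  exact ⟨(equiv_of_card_le _ c).some.symm.trans (equiv_of_card_le _ (e ▸ c)).some⟩
theorem gr_base (h : orderOf a = orderOf b) : Gr (zpowers a) a (zpowers b) b :=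
  ⟨zpowers (a, b), MonoidHom.map_zpowers _ _, MonoidHom.map_zpowers _ _,
    by rw [card_zpowers', card_zpowers', Prod.orderOf_mk, ← h, Nat.lcm_self], mem_zpowers _⟩
theorem Gr.surj (h : Gr A a B b) : ∃ K : Subgroup G, ∃ _ : (K.subgroupOf A).Normal, Nonempty (A ⧸ K.subgroupOf A ≃* B) := by
  obtain ⟨Γ, rfl, rfl, c, -⟩ := h
  obtain ⟨e⟩ := equiv_of_card_le _ c
  let f := ((MonoidHom.snd G G').subgroupMap Γ).comp e.symm.toMonoidHom
  have s : Function.Surjective f := ((MonoidHom.snd G G').subgroupMap_surjective Γ).comp e.symm.surjective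
  have k : (f.ker.map (Subgroup.subtype _)).subgroupOf _ = f.ker :=
    comap_map_eq_self_of_injective (Γ.map (MonoidHom.fst G G')).subtype_injective f.ker
  have n : ((f.ker.map (Subgroup.subtype _)).subgroupOf (Γ.map (MonoidHom.fst G G'))).Normal := by
    rw [k]; infer_instance
  exact ⟨_, n, ⟨(QuotientGroup.quotientMulEquivOfEq k).trans (QuotientGroup.quotientKerEquivOfSurjective f s)⟩⟩

structure XS (p : ℕ) (Q : Subgroup G) (z : G) : Prop where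
  ord : orderOf z = p
  mem : z ∈ Q
  cen : z ∈ C[Q]
  Z : Z[Q] ≤ zpowers z
  der : ⁅Q, Q⁆ ≤ zpowers z
  pow : ∀ a ∈ Q, a ^ p ∈ zpowers z
omit [Finite G] in
theorem conj_of_comm (h : ⁅t, x⁆ ∈ zpowers z) : ∃ i : ℤ, t * x * t⁻¹ = z ^ i * x := by
  obtain ⟨i, e⟩ := h
  exact ⟨i, by simp only [e, commutatorElement_def]; group⟩
omit [Finite G] in
theorem adjust (h : ⁅x, y⁆ = z) (hx : Commute z x) (hy : Commute z y) (ht : Commute z t) (h1 : ⁅t, x⁆ ∈ zpowers z)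
    (h2 : ⁅t, y⁆ ∈ zpowers z) : ∃ u ∈ zpowers x ⊔ zpowers y, t * u ∈ C1[x] ⊓ C1[y] := by
  obtain ⟨i, e1⟩ := conj_of_comm h1
  obtain ⟨j, e2⟩ := conj_of_comm h2
  have k : ∀ {a b c : G}, a * b * a⁻¹ = c * b → Commute c a → ∀ m : ℤ, a ^ m * b * (a ^ m)⁻¹ = c ^ m * b := by
    intro a b c e f m
    have g : (b * a⁻¹ * b⁻¹) = a⁻¹ * c := by rw [eq_inv_mul_iff_mul_eq, mul_assoc b, ← mul_assoc, ← mul_assoc, e]; group
    calc _ = a ^ m * (b * a⁻¹ * b⁻¹) ^ m * b := by rw [conj_zpow]; group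
      _ = _ := by rw [g, f.symm.inv_left.mul_zpow]; group
  have a1 := k (a := x) (b := y) (c := z) (by rw [← h, commutatorElement_def]; group) hx (-j)
  have a2 := k (a := y) (b := x) (c := z⁻¹) (by rw [← h, commutatorElement_def]; group) hy.inv_left i
  refine ⟨x ^ (-j) * y ^ i, mul_mem_sup' (zpow_mem_zpowers _ _) (zpow_mem_zpowers _ _), mem_C1.2 ?_, mem_C1.2 ?_⟩ <;>
    rw [← mul_inv_eq_iff_eq_mul]
  · calc _ = t * (x ^ (-j) * (y ^ i * x * (y ^ i)⁻¹) * (x ^ (-j))⁻¹) * t⁻¹ := by group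
      _ = z⁻¹ ^ i * (t * x * t⁻¹) := by
        rw [a2, ← mul_assoc (x ^ _), ← (hx.inv_left.zpow_zpow i (-j)).eq, ← mul_assoc _ (t * x), ← mul_assoc _ t,
          (ht.inv_left.zpow_left i).eq]; group
      _ = x := by rw [e1]; group
  · calc _ = t * (x ^ (-j) * y * (x ^ (-j))⁻¹) * t⁻¹ := by group
      _ = z ^ (-j) * (t * y * t⁻¹) := by rw [a1, ← mul_assoc t, ← (ht.zpow_left (-j)).eq]; group
      _ = y := by rw [e2]; group
namespace XS
omit [Finite G] in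
theorem comm (h : XS p Q z) (hx : x ∈ Q) : Commute z x := (mem_C.1 h.cen x hx).symm
omit [Finite G] in
theorem zle (h : XS p Q z) : zpowers z ≤ Z[Q] := zpowers_le.2 ⟨h.mem, h.cen⟩
theorem card_z (h : XS p Q z) : #(zpowers z) = p := (card_zpowers' z).trans h.ord
theorem ne_one (h : XS p Q z) (hp : p.Prime) : z ≠ 1 := fun e => hp.ne_one (by rw [← h.ord, e, orderOf_one])
theorem pair (h : XS p Q z) (hp : p.Prime) (hx : x ∈ Q) (h1 : x ∉ C[Q]) : ∃ y ∈ Q, ⁅x, y⁆ = z := by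
  obtain ⟨y, a, b⟩ : ∃ y ∈ Q, ¬ y * x = x * y := by simpa [mem_C] using h1
  have c := h.der (commutator_mem_commutator hx a)
  obtain ⟨k, d⟩ := exists_pow_of_mem_zpowers ((eq_zpowers_of_prime (h.card_z ▸ hp) c fun e =>
    b (commutatorElement_eq_one_iff_mul_comm.1 e).symm).ge (mem_zpowers z))
  exact ⟨y ^ k, pow_mem a k, by rw [PLoc.commutatorElement_pow_right (mem_C.1 (h.zle c).2 y a).symm, d]⟩
theorem pair' (h : XS p Q z) (hp : p.Prime) (h1 : ¬ Abel Q) : ∃ x ∈ Q, ∃ y ∈ Q, ⁅x, y⁆ = z := by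
  obtain ⟨x, a, b⟩ := SetLike.not_le_iff_exists.1 h1
  exact ⟨x, a, h.pair hp a b⟩
omit [Finite G] in
theorem eq_of_abel (h : XS p Q z) (h1 : Abel Q) : Q = zpowers z :=
  le_antisymm ((le_inf le_rfl h1).trans h.Z) (zpowers_le.2 h.mem)
omit [Finite G] in
theorem sup_eq (h : XS p Q z) (hx : x ∈ Q) (hy : y ∈ Q) (e : ⁅x, y⁆ = z) :
    Q ⊓ C1[x] ⊓ C1[y] ⊔ zpowers x ⊔ zpowers y = Q := by
  have l := sup_le (zpowers_le.2 hx) (zpowers_le.2 hy)
  refine le_antisymm ((sup_assoc _ _ _).le.trans (sup_le (inf_le_left.trans inf_le_left) l)) fun t ht => ?_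
  obtain ⟨u, a, b⟩ := adjust e (h.comm hx) (h.comm hy) (h.comm ht) (h.der (commutator_mem_commutator ht hx))
    (h.der (commutator_mem_commutator ht hy))
  simpa [sup_assoc] using mul_mem_sup' (show t * u ∈ Q ⊓ C1[x] ⊓ C1[y] from ⟨⟨mul_mem ht (l a), b.1⟩, b.2⟩) (inv_mem a)
omit [Finite G] in
theorem mem_C_of (h : XS p Q z) (hx : x ∈ Q) (hy : y ∈ Q) (e : ⁅x, y⁆ = z) (h1 : t ∈ C[Q ⊓ C1[x] ⊓ C1[y]])
    (h2 : t ∈ C1[x] ⊓ C1[y]) : t ∈ C[Q] := by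
  rw [← h.sup_eq hx hy e, C_sup, C_sup, C_zpowers, C_zpowers]; exact ⟨⟨h1, h2.1⟩, h2.2⟩
omit [Finite G] in
theorem cent (h : XS p Q z) (hx : x ∈ Q) (hy : y ∈ Q) (e : ⁅x, y⁆ = z) : XS p (Q ⊓ C1[x] ⊓ C1[y]) z :=
  have l : Q ⊓ C1[x] ⊓ C1[y] ≤ Q := inf_le_left.trans inf_le_left
  ⟨h.ord, ⟨⟨h.mem, C_le_C1 hx h.cen⟩, C_le_C1 hy h.cen⟩, centS l h.cen,
    fun _ a => h.Z ⟨l a.1, h.mem_C_of hx hy e a.2 ⟨a.1.1.2, a.1.2⟩⟩, (derS l).trans h.der, fun a b => h.pow a (l b)⟩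
theorem card (h : XS p Q z) (hp : p.Prime) (hx : x ∈ Q) (hy : y ∈ Q) (e : ⁅x, y⁆ = z) :
    #Q = #(Q ⊓ C1[x] ⊓ C1[y]) * p * p := by
  have k : ∀ R ≤ Q, ∀ u ∈ Q, ¬ R ≤ C1[u] → #R = #(R ⊓ C1[u]) * p := fun R a u b c => by
    have d := idx_C1_dvd (R := R) (abel_zpowers z) (h.zle.trans (inf_le_right.trans (centS a)))
      fun g d => h.der (comm_mem (a d) b)
    rw [h.card_z] at d
    rw [← ((Nat.dvd_prime hp).1 d).resolve_left fun f => c (relIndex_eq_one.1 f), inf_comm, card_inf_mul_relIndex]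
  have n : x * y ≠ y * x := fun f => h.ne_one hp (e ▸ commutatorElement_eq_one_iff_mul_comm.2 f)
  rw [← k _ inf_le_left y hy fun f => n (mem_C1.1 (f ⟨hx, mem_C1_self x⟩)), ← k Q le_rfl x hx fun f => n (mem_C1'.1 (f hy))]
theorem lt (h : XS p Q z) (hp : p.Prime) (hx : x ∈ Q) (e : ⁅x, y⁆ = z) : Q ⊓ C1[x] ⊓ C1[y] < Q :=
  lt_of_le_of_ne (inf_le_left.trans inf_le_left) fun f =>
    h.ne_one hp (e ▸ commutatorElement_eq_one_iff_mul_comm.2 (mem_C1.1 (f.ge hx).2))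
theorem inner (h : XS p Q z) (hp : p.Prime) (h1 : Commute z t) (h2 : ∀ q ∈ Q, ⁅t, q⁆ ∈ zpowers z) : t ∈ Q ⊔ C[Q] := by
  induction Q using lt_wf_ind generalizing t with | _ Q ih =>
  by_cases a : Abel Q
  · exact le_sup_right (a := Q) (by rw [h.eq_of_abel a, C_zpowers]; exact mem_C1'.2 h1)
  obtain ⟨x, hx, y, hy, e⟩ := h.pair' hp a
  have l := sup_le (zpowers_le.2 hx) (zpowers_le.2 hy)
  obtain ⟨u, b, c⟩ := adjust e (h.comm hx) (h.comm hy) h1 (h2 x hx) (h2 y hy)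
  have d := ih _ (h.lt hp hx e) (h.cent hx hy e) (h1.mul_right (h.comm (l b))) fun q hq => by
    have : u * q = q * u := mem_C1.1 (sup_le (zpowers_le.2 (C1_symm hq.1.2)) (zpowers_le.2 (C1_symm hq.2)) b)
    rw [commutatorElement_def, mul_assoc t, this]
    simpa [commutatorElement_def, mul_assoc] using h2 q hq.1.1
  obtain ⟨v, f, w, g, i⟩ := (mem_sup_r (le_CC _ |>.trans (C_le_N _))).1 d
  have j := h.mem_C_of hx hy e g (by
    rw [eq_inv_mul_of_mul_eq i.symm]; exact mul_mem (inv_mem ⟨f.1.2, f.2⟩) c)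
  rw [eq_mul_inv_of_mul_eq i]
  exact mul_mem (mul_mem_sup' f.1.1 j) (inv_mem (le_sup_left (b := C[Q]) (l b)))
theorem step (h : XS p Q z) (h' : XS p Q' z') (hp : p.Prime) (hx : x ∈ Q) (hy : y ∈ Q) (e : ⁅x, y⁆ = z) (hx' : x' ∈ Q')
    (hy' : y' ∈ Q') (e' : ⁅x', y'⁆ = z') (h1 : (x, x') ^ p ∈ zpowers (z, z')) (h2 : (y, y') ^ p ∈ zpowers (z, z'))
    (g : Gr (Q ⊓ C1[x] ⊓ C1[y]) z (Q' ⊓ C1[x'] ⊓ C1[y']) z') : Gr Q z Q' z' := by
  obtain ⟨Γ, a, b, c, d⟩ := g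
  have k : ∀ u u', Q ⊓ C1[x] ⊓ C1[y] ≤ C1[u] → Q' ⊓ C1[x'] ⊓ C1[y'] ≤ C1[u'] → (u, u') ∈ N[Γ] := fun u u' i j =>
    C_le_N _ (mem_C.2 fun w l => Prod.ext (mem_C1.1 (i (a.le (mem_map_of_mem _ l)))) (mem_C1.1 (j (b.le (mem_map_of_mem _ l)))))
  have k1 := k x x' (inf_le_left.trans inf_le_right) (inf_le_left.trans inf_le_right)
  have k2 := k y y' inf_le_right inf_le_right
  have l := zpowers_le.2 d
  refine ⟨Γ ⊔ zpowers (x, x') ⊔ zpowers (y, y'), by simp [Subgroup.map_sup, a, h.sup_eq hx hy e],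
    by simp [Subgroup.map_sup, b, h'.sup_eq hx' hy' e'], ?_, le_sup_left (α := Subgroup _) (le_sup_left (α := Subgroup _) d)⟩
  rw [h.card hp hx hy e]
  refine (card_sup_zpowers_le (zpowers_le.1 (comm_le_l.1 (comm_sup_le ((commL (zpowers_le.2 k2)).trans le_sup_left)
    ((comm_zpowers_zpowers k1 k2 ?_).trans le_sup_left) (normsG le_sup_left) (normsG le_sup_right))))
    (le_sup_left (α := Subgroup _) (l h2)) hp.ne_zero).trans (Nat.mul_le_mul_right _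
      ((card_sup_zpowers_le k1 (l h1) hp.ne_zero).trans (Nat.mul_le_mul_right _ c)))
  rwa [← e, ← e'] at d
theorem abel_iff (h : XS p Q z) (hp : p.Prime) : Abel Q ↔ #Q = p :=
  ⟨fun a => h.eq_of_abel a ▸ h.card_z, fun a => (cyc_of_prime (a ▸ hp)).abel⟩
theorem gr_abel (h : XS p Q z) (h' : XS p Q' z') (a : Abel Q) (a' : Abel Q') : Gr Q z Q' z' := by
  rw [h.eq_of_abel a, h'.eq_of_abel a']; exact gr_base (h.ord.trans h'.ord.symm)
theorem gr_exp (h : XS p Q z) (h' : XS p Q' z') (hp : p.Prime) (h1 : ∀ x ∈ Q, x ^ p = 1) (h2 : ∀ x ∈ Q', x ^ p = 1)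
    (c : #Q = #Q') : Gr Q z Q' z' := by
  induction Q using lt_wf_ind generalizing Q' with | _ Q ih =>
  have i : Abel Q ↔ Abel Q' := by rw [h.abel_iff hp, h'.abel_iff hp, c]
  by_cases a : Abel Q
  · exact h.gr_abel h' a (i.1 a)
  obtain ⟨x, hx, y, hy, e⟩ := h.pair' hp a
  obtain ⟨x', hx', y', hy', e'⟩ := h'.pair' hp (mt i.2 a)
  refine h.step h' hp hx hy e hx' hy' e' (by simp [h1 x hx, h2 x' hx', one_mem, ← Prod.one_eq_mk])
    (by simp [h1 y hy, h2 y' hy', one_mem, ← Prod.one_eq_mk]) (ih _ (h.lt hp hx e) (h.cent hx hy e) (h'.cent hx' hy' e')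
      (fun u b => h1 u b.1.1) (fun u b => h2 u b.1.1) ?_)
  rw [h.card hp hx hy e, h'.card hp hx' hy' e'] at c
  exact Nat.eq_of_mul_eq_mul_right hp.pos (Nat.eq_of_mul_eq_mul_right hp.pos c)
/-- a hyperbolic pair whose squares are `z ^ i` -/
def Pair (i : ℕ) (Q : Subgroup G) (z : G) : Prop := ∃ x ∈ Q, ∃ y ∈ Q, ⁅x, y⁆ = z ∧ x ^ 2 = z ^ i ∧ y ^ 2 = z ^ i
theorem two_cases (h : XS 2 Q z) (a : ¬ Abel Q) : Pair 0 Q z ∨ (#Q = 8 ∧ Pair 1 Q z) := by
  have hp := Nat.prime_two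
  have z2 : z ^ 2 = 1 := h.ord ▸ pow_orderOf_eq_one z
  have sq : ∀ u ∈ Q, u ^ 2 ≠ 1 → u ^ 2 = z := fun u b c => Core.eq_of_mem_zpowers_of_sq_eq_one z2 (h.pow u b) c
  by_cases b : ∃ x ∈ Q, x ∉ C[Q] ∧ x ^ 2 = 1
  · obtain ⟨x, hx, c, d⟩ := b
    obtain ⟨y, hy, e⟩ := h.pair hp hx c
    by_cases f : y ^ 2 = 1
    · exact Or.inl ⟨x, hx, y, hy, e, d.trans (pow_zero z).symm, f.trans (pow_zero z).symm⟩
    refine Or.inl ⟨x, hx, y * x, mul_mem hy hx, by rw [← e, commutatorElement_def, commutatorElement_def]; group,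
      d.trans (pow_zero z).symm, ?_⟩
    rw [PLoc.mul_pow_of_class_two (e ▸ h.comm hy) (e ▸ h.comm hx), e, d, sq y hy f]; simpa [pow_two] using z2
  push Not at b
  obtain ⟨x, hx, y, hy, e⟩ := h.pair' hp a
  have n : ∀ u v : G, ⁅u, v⁆ = z → u * v ≠ v * u := fun u v c f =>
    h.ne_one hp (c ▸ commutatorElement_eq_one_iff_mul_comm.2 f)
  have x2 := sq x hx (b x hx fun c => n x y e (mem_C.1 c y hy).symm)
  refine Or.inr ⟨?_, x, hx, y, hy, e, x2.trans (pow_one z).symm, (sq y hy (b y hy fun c =>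
    n x y e (mem_C.1 c x hx))).trans (pow_one z).symm⟩
  rw [h.card hp hx hy e, ((h.cent hx hy e).abel_iff hp).1 fun c d => centS (inf_le_left.trans inf_le_left)
    (by_contra fun f => b (x * c) (mul_mem hx d.1.1) (fun g => n x y e ?_) ?_)]
  · have := mem_C.1 g y hy
    rwa [mul_assoc, mem_C1.1 d.2, ← mul_assoc, ← mul_assoc, mul_left_inj, eq_comm] at this
  · rw [(show Commute x c from mem_C1'.1 d.1.2).mul_pow, x2, sq c d.1.1 (b c d.1.1 f), ← pow_two, z2]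
theorem gr_pair (h : XS 2 Q z) (h' : XS 2 Q' z') {i : ℕ} (a : Pair i Q z) (a' : Pair i Q' z') :
    ∃ R < Q, ∃ R' : Subgroup G', XS 2 R z ∧ XS 2 R' z' ∧ #Q = #R * 2 * 2 ∧ #Q' = #R' * 2 * 2 ∧
      (Gr R z R' z' → Gr Q z Q' z') := by
  obtain ⟨x, hx, y, hy, e, b, c⟩ := a
  obtain ⟨x', hx', y', hy', e', b', c'⟩ := a'
  have hp := Nat.prime_two
  exact ⟨_, h.lt hp hx e, _, h.cent hx hy e, h'.cent hx' hy' e', h.card hp hx hy e, h'.card hp hx' hy' e',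
    h.step h' hp hx hy e hx' hy' e' (by rw [Prod.pow_mk, b, b', ← Prod.pow_mk]; exact pow_mem (mem_zpowers _) i)
      (by rw [Prod.pow_mk, c, c', ← Prod.pow_mk]; exact pow_mem (mem_zpowers _) i)⟩
theorem gr_eight (h : XS 2 Q z) (h' : XS 2 Q' z') {i : ℕ} (a : Pair i Q z) (a' : Pair i Q' z') (c : #Q = 8)
    (c' : #Q' = 8) : Gr Q z Q' z' := by
  obtain ⟨R, -, R', b, b', d, d', e⟩ := h.gr_pair h' a a'
  exact e (b.gr_abel b' ((b.abel_iff Nat.prime_two).2 (by omega)) ((b'.abel_iff Nat.prime_two).2 (by omega)))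
theorem gr_two {G'' : Type*} [Group G''] [Finite G''] {Q'' : Subgroup G''} {z'' : G''} (h : XS 2 Q z) (h' : XS 2 Q' z')
    (h'' : XS 2 Q'' z'') (c : #Q = #Q') (c' : #Q' = #Q'') : Gr Q z Q' z' ∨ Gr Q' z' Q'' z'' ∨ Gr Q z Q'' z'' := by
  induction Q using lt_wf_ind generalizing Q' Q'' with | _ Q ih =>
  have hp := Nat.prime_two
  have i : Abel Q ↔ Abel Q' := by rw [h.abel_iff hp, h'.abel_iff hp, c]
  have i' : Abel Q ↔ Abel Q'' := by rw [h.abel_iff hp, h''.abel_iff hp, c, c']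
  by_cases a : Abel Q
  · exact Or.inl (h.gr_abel h' a (i.1 a))
  have t := h.two_cases a
  have t' := h'.two_cases (mt i.2 a)
  have t'' := h''.two_cases (mt i'.2 a)
  by_cases e : #Q = 8
  · have e' := c ▸ e
    have e'' := c' ▸ e'
    rcases t with t | ⟨-, t⟩ <;> rcases t' with t' | ⟨-, t'⟩ <;> rcases t'' with t'' | ⟨-, t''⟩ <;>
      first | exact Or.inl (h.gr_eight h' t t' e e') | exact Or.inr (Or.inl (h'.gr_eight h'' t' t'' e' e'')) |
        exact Or.inr (Or.inr (h.gr_eight h'' t t'' e e''))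
  obtain ⟨x, hx, y, hy, f, b, d⟩ := t.resolve_right fun f => e f.1
  obtain ⟨x', hx', y', hy', f', b', d'⟩ := t'.resolve_right fun f => e (c.trans f.1)
  obtain ⟨x'', hx'', y'', hy'', f'', b'', d''⟩ := t''.resolve_right fun f => e (c.trans (c'.trans f.1))
  rw [h.card hp hx hy f, h'.card hp hx' hy' f'] at c
  rw [h'.card hp hx' hy' f', h''.card hp hx'' hy'' f''] at c'
  refine (ih _ (h.lt hp hx f) (h.cent hx hy f) (h'.cent hx' hy' f') (h''.cent hx'' hy'' f'') (by omega) (by omega)).imp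
    (h.step h' hp hx hy f hx' hy' f' ?_ ?_) (Or.imp (h'.step h'' hp hx' hy' f' hx'' hy'' f'' ?_ ?_)
      (h.step h'' hp hx hy f hx'' hy'' f'' ?_ ?_)) <;> simp [*, one_mem, ← Prod.one_eq_mk]
end XS
theorem xs_top (hp : p.Prime) (h : IsExtraspecial p G) : ∃ z, XS p (⊤ : Subgroup G) z := by
  have := Fact.mk hp
  obtain ⟨⟨h1, h2, h3⟩, h4⟩ := h
  obtain ⟨z, a⟩ := cyc_iff.1 (cyc_of_prime (A := center G) (h4 ▸ hp))
  exact ⟨z, (card_zpowers' z).symm.trans (a ▸ h4), trivial, C_top.ge (a.le (mem_zpowers z)), Z_top.le.trans a.ge,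
    h3.le.trans a.ge, fun x _ => a.ge (h2.le (PLoc.pow_mem_frattini h1 x))⟩
omit [Finite G] [Finite G'] in
theorem XS.map (h : XS p Q z) {f : G →* G'} (hf : Function.Injective f) : XS p (Q.map f) (f z) :=
  ⟨(orderOf_injective f hf z).trans h.ord, mem_map_of_mem _ h.mem, cent_map le_rfl _ (mem_map_of_mem _ h.cen),
    by rintro _ ⟨⟨x, a, rfl⟩, b⟩
       rw [← MonoidHom.map_zpowers]
       exact mem_map_of_mem _ (h.Z ⟨a, mem_C.2 fun y c => hf (by simpa using mem_C.1 b _ (mem_map_of_mem _ c))⟩),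
    by rw [← map_commutator, ← MonoidHom.map_zpowers]; exact map_mono h.der,
    by rintro _ ⟨x, a, rfl⟩; rw [← map_pow, ← MonoidHom.map_zpowers]; exact mem_map_of_mem _ (h.pow x a)⟩
theorem xs_of (hp : p.Prime) (h : IsExtraspecial p Q) : ∃ z, XS p Q z := by
  obtain ⟨z, a⟩ := xs_top hp h
  have b := a.map Q.subtype_injective
  rw [map_subtype_top] at b
  exact ⟨_, b⟩

end Cfsg.Agent.PG
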