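import Cfsg.Agent.PLoc.Cores

/-!
Transfer: focal subgroup bounds, Tate's theorem (after Gagola and Isaacs), fusion lemmas,
Alperin's fusion theorem, Frobenius' normal `p`-complement theorem.
-/

set_option autoImplicit false

namespace Cfsg.Agent.PLoc

open Subgroup
open scoped commutatorElement Pointwise

variable {G : Type*} [Group G] {p : ℕ}

/-- `H` controls fusion of elements of `P` -/
def ControlsFusion (H P : Subgroup G) : Prop :=
  ∀ x ∈ P, ∀ g : G, g * x * g⁻¹ ∈ P → ∃ h ∈ H, h * x * h⁻¹ = g * x * g⁻¹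

theorem ControlsFusion.focal_le {H P : Subgroup G} (h : ControlsFusion H P) :
    P.focalSubgroup ≤ ⁅P, H⁆ := by
  rw [focalSubgroup_def, closure_le]
  rintro _ ⟨hg, x, hx, u, rfl⟩
  have h1 : u * x⁻¹ * u⁻¹ ∈ P := by
    have := P.mul_mem (P.inv_mem hx) hg
    simpa [commutatorElement_def, mul_assoc] using this
  obtain ⟨y, hy, e⟩ := h _ (P.inv_mem hx) u h1
  have : ⁅x, u⁆ = ⁅x, y⁆ := by
    simp only [commutatorElement_def, mul_assoc] at e ⊢
    rw [e]
  rw [this]
  exact commutator_mem_commutator hx hy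

theorem controlsFusion_of {H P : Subgroup G}
    (h : ∀ x ∈ P, ∀ y ∈ P, (∃ g : G, g * x * g⁻¹ = y) → ∃ z ∈ H, z * x * z⁻¹ = y) :
    ControlsFusion H P := fun x hx g hg => h x hx _ hg ⟨g, rfl⟩

/-- a `p`-element of `O^p(G)` lies in `G'` -/
theorem mem_commutator_of_mem_pResOf {H : Subgroup G} {x : G} (hx : x ∈ pResOf p H)
    (hp : ∃ k, x ^ p ^ k = 1) : x ∈ ⁅H, H⁆ := by
  have key : ∀ y ∈ pResOf p H, ∃ n, n.Coprime p ∧ y ^ n ∈ ⁅H, H⁆ := by
    have hN : (⁅H, H⁆.subgroupOf H).Normal :=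
      normal_subgroupOf_of_le_normalizer (normalizer_commutator_ge_left H H)
    intro y hy
    induction hy using closure_induction with
    | mem y hy => exact ⟨orderOf y, hy.2, by simp⟩
    | one => exact ⟨1, by simp, by simp⟩
    | mul a b ha hb iha ihb =>
      obtain ⟨m, hm, ham⟩ := iha
      obtain ⟨n, hn, hbn⟩ := ihb
      refine ⟨m * n, hm.mul_left hn, ?_⟩
      let a' : H := ⟨a, pResOf_le H ha⟩
      let b' : H := ⟨b, pResOf_le H hb⟩
      let π := QuotientGroup.mk' (⁅H, H⁆.subgroupOf H)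
      have hc : Commute (π a') (π b') := by
        rw [← commutatorElement_eq_one_iff_commute, ← map_commutatorElement]
        exact (QuotientGroup.eq_one_iff _).mpr (commutator_mem_commutator a'.2 b'.2)
      have h1 : π a' ^ m = 1 := by
        rw [← map_pow]; exact (QuotientGroup.eq_one_iff _).mpr ham
      have h2 : π b' ^ n = 1 := by
        rw [← map_pow]; exact (QuotientGroup.eq_one_iff _).mpr hbn
      have : π ((a' * b') ^ (m * n)) = 1 := by
        rw [map_pow, map_mul, hc.mul_pow, pow_mul, h1, one_pow, mul_comm m, pow_mul, h2]; simp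
      exact (QuotientGroup.eq_one_iff (N := ⁅H, H⁆.subgroupOf H) ((a' * b') ^ (m * n))).mp this
    | inv a ha iha =>
      obtain ⟨m, hm, ham⟩ := iha
      exact ⟨m, hm, by rw [inv_pow]; exact inv_mem ham⟩
  obtain ⟨n, hn, h⟩ := key x hx
  obtain ⟨k, hk⟩ := hp
  exact mem_of_pow_mem_of_coprime h
    ((hn.symm.pow_left k).coprime_dvd_left (orderOf_dvd_of_pow_eq_one hk))

theorem inf_pResOf_le_commutator {P H : Subgroup G} (hP : IsPGroup p P) :
    P ⊓ pResOf p H ≤ ⁅H, H⁆ := fun x hx =>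
  mem_commutator_of_mem_pResOf hx.2 (isPGroup_iff_forall.mp hP x hx.1)

theorem inf_pResidual_le_commutator {P : Subgroup G} (hP : IsPGroup p P) :
    P ⊓ pResidual p G ≤ _root_.commutator G := by
  rw [← pResOf_top]; exact inf_pResOf_le_commutator hP

section

variable [Finite G] [hp : Fact p.Prime]

theorem ControlsFusion.commutator_inf_le {H : Subgroup G} {P : Sylow p G}
    (h : ControlsFusion H P) : _root_.commutator G ⊓ P ≤ ⁅(P : Subgroup G), H⁆ := by
  rw [commutator_inf_eq_focalSubgroup]; exact h.focal_le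

open scoped IsMulCommutative in
/-- The key step in Tate's theorem. -/
theorem tate_lemma {H K M : Subgroup G} [K.Normal] (hHK : H ⊔ K = ⊤) (hcop : H.index.Coprime p)
    (hK : pResOf p K = K) (hM : M ≤ H ⊓ K) (hMn : H ≤ normalizer (M : Set G))
    (hcomm : ⁅H ⊓ K, H⁆ ≤ M) (hpow : ∀ x ∈ H ⊓ K, ∃ k, x ^ p ^ k ∈ M) :
    ∃ C ≤ H, C ⊓ K = M ∧ C ⊔ (H ⊓ K) = H ∧ ⁅H, H⁆ ≤ C := by
  have hMn' : (M.subgroupOf H).Normal := normal_subgroupOf_of_le_normalizer hMn
  let π : H →* H ⧸ M.subgroupOf H := QuotientGroup.mk' _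
  have hπ : ∀ x : H, π x = 1 ↔ (x : G) ∈ M := fun x => QuotientGroup.eq_one_iff x
  let Z : Subgroup (H ⧸ M.subgroupOf H) := (K.subgroupOf H).map π
  have hZ : Z ≤ center _ := by
    rintro _ ⟨l, hl, rfl⟩
    rw [mem_center_iff]
    intro q
    obtain ⟨h, rfl⟩ := QuotientGroup.mk'_surjective _ q
    rw [eq_comm, ← commutatorElement_eq_one_iff_mul_comm, ← map_commutatorElement, hπ]
    exact hcomm (commutator_mem_commutator ⟨l.2, hl⟩ h.2)
  have hZc : IsMulCommutative Z :=
    isMulCommutative_of_forall fun x hx y _ => (mem_center_iff.mp (hZ hx) y).symm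
  have hZp : IsPGroup p Z := by
    rw [isPGroup_iff_forall]
    rintro _ ⟨l, hl, rfl⟩
    obtain ⟨k, hk⟩ := hpow l ⟨l.2, hl⟩
    exact ⟨k, by rw [← map_pow, hπ]; exact hk⟩
  let Gt : Subgroup (G × (H ⧸ M.subgroupOf H)) :=
    { carrier := {x | ∃ h : H, π h = x.2 ∧ (h : G)⁻¹ * x.1 ∈ K}
      one_mem' := ⟨1, by simp, by simp⟩
      mul_mem' := by
        rintro x y ⟨a, ha, ha'⟩ ⟨b, hb, hb'⟩
        refine ⟨a * b, by simp [ha, hb], ?_⟩
        have := K.mul_mem (‹K.Normal›.conj_mem _ ha' (b : G)⁻¹) hb'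
        simpa [mul_assoc] using this
      inv_mem' := by
        rintro x ⟨a, ha, ha'⟩
        refine ⟨a⁻¹, by simp [ha], ?_⟩
        have := K.inv_mem (‹K.Normal›.conj_mem _ ha' (a : G))
        simpa [mul_assoc] using this }
  let f : Gt →* G := (MonoidHom.fst _ _).comp Gt.subtype
  have hf : Function.Surjective f := by
    intro g
    have hg : g ∈ H ⊔ K := hHK ▸ mem_top g
    obtain ⟨h, hh, k, hk, rfl⟩ := mem_sup_of_normal_right.mp hg
    exact ⟨⟨(h * k, π ⟨h, hh⟩), ⟨h, hh⟩, rfl, by simpa using hk⟩, rfl⟩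
  let Ht : Subgroup Gt := H.comap f
  have hidx : Ht.index = H.index := index_comap_of_surjective _ hf
  let ρ : Ht →* H := (f.comp Ht.subtype).codRestrict H (fun x => x.2)
  have hmem : ∀ x : Ht, (π (ρ x))⁻¹ * x.1.1.2 ∈ Z := by
    intro x
    obtain ⟨h, e, hh⟩ := x.1.2
    refine ⟨(ρ x)⁻¹ * h, ?_, by simp [e]⟩
    have := K.inv_mem hh
    rw [mul_inv_rev, inv_inv] at this
    exact this
  let φ : Ht →* Z :=
    { toFun := fun x => ⟨_, hmem x⟩
      map_one' := by ext; simp
      map_mul' := by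
        intro x y
        ext
        have hc := mem_center_iff.mp (hZ (hmem x)) (π (ρ y))⁻¹
        show (π (ρ (x * y)))⁻¹ * (x.1.1.2 * y.1.1.2) =
          (π (ρ x))⁻¹ * x.1.1.2 * ((π (ρ y))⁻¹ * y.1.1.2)
        rw [map_mul, map_mul, ← mul_assoc _ (π (ρ y))⁻¹, ← hc, mul_inv_rev]
        group }
  let V : Gt →* Z := MonoidHom.transfer φ
  let iK : K →* Gt :=
    { toFun := fun k => ⟨((k : G), 1), 1, by simp, by simp⟩
      map_one' := rfl
      map_mul' := fun a b => by ext <;> simp }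
  have hVK : ∀ k : K, V (iK k) = 1 := by
    intro k
    have h1 : pResidual p K ≤ (V.comp iK).ker := pResidual_le_ker _ (hZp.to_subgroup _)
    have h2 : k ∈ pResidual p K := by
      have h3 : (k : G) ∈ (pResidual p K).map K.subtype := by
        rw [map_pResidual_subtype, hK]; exact k.2
      obtain ⟨k', hk', e⟩ := h3
      rwa [← Subtype.ext e]
    exact h1 h2
  let iH : H →* Gt :=
    { toFun := fun h => ⟨((h : G), π h), h, rfl, by simp⟩
      map_one' := by ext <;> simp
      map_mul' := fun a b => by ext <;> simp }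
  let ψ : H →* Z := V.comp iH
  have hψ : ∀ (l : H) (hl : (l : G) ∈ K), ψ l = (⟨π l, l, hl, rfl⟩ : Z) ^ H.index := by
    intro l hl
    let z : Gt := ⟨(1, π l), l, rfl, by simpa using hl⟩
    have hz : ∀ y : Gt, y * z = z * y := by
      intro y
      ext
      · simp [z]
      · exact mem_center_iff.mp (hZ ⟨l, hl, rfl⟩) _
    have e : iH l = iK ⟨l, hl⟩ * z := by ext <;> simp [iH, iK, z]
    have hzH : z ∈ Ht := by simp [Ht, f, z]
    have : V z = φ ⟨z, hzH⟩ ^ H.index := by
      rw [← hidx, ← map_pow]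
      refine MonoidHom.transfer_eq_pow φ z fun k g₀ _ => ?_
      rw [mul_assoc, ← (Commute.pow_right (hz g₀) k).eq, inv_mul_cancel_left]
    show V (iH l) = _
    rw [e, map_mul, hVK, one_mul, this]
    congr 1
    ext
    show (π 1)⁻¹ * π l = π l
    rw [map_one, inv_one, one_mul]
  refine ⟨ψ.ker.map H.subtype, map_subtype_le _, le_antisymm ?_ ?_, le_antisymm ?_ ?_, ?_⟩
  · rintro _ ⟨⟨l, hl, rfl⟩, hlK⟩
    rw [SetLike.mem_coe, MonoidHom.mem_ker, hψ l hlK] at hl
    have := (hZp.powEquiv hcop.symm).injective (a₁ := ⟨π l, l, hlK, rfl⟩) (a₂ := 1)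
      (by simpa using hl)
    exact (hπ l).mp (congrArg Subtype.val this)
  · intro m hm
    refine ⟨⟨⟨m, (hM hm).1⟩, ?_, rfl⟩, (hM hm).2⟩
    rw [SetLike.mem_coe, MonoidHom.mem_ker, hψ _ (hM hm).2]
    have : (⟨π ⟨m, (hM hm).1⟩, ⟨m, (hM hm).1⟩, (hM hm).2, rfl⟩ : Z) = 1 :=
      Subtype.ext ((hπ _).mpr hm)
    rw [this, one_pow]
  · exact sup_le (map_subtype_le _) inf_le_left
  · intro h hh
    obtain ⟨⟨_, l, hl, rfl⟩, e⟩ := (hZp.powEquiv hcop.symm).surjective (ψ ⟨h, hh⟩)
    have : h = (h * (l : G)⁻¹) * l := by group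
    rw [this]
    refine mul_mem_sup ⟨⟨h, hh⟩ * l⁻¹, ?_, rfl⟩ ⟨l.2, hl⟩
    rw [SetLike.mem_coe, MonoidHom.mem_ker, map_mul, map_inv, hψ l hl, ← e]
    simp
  · rw [← map_subtype_commutator]
    exact map_mono (Abelianization.commutator_subset_ker ψ)

/-- commutators descend in a section that is a `p`-group -/
theorem sup_commutator_lt {O L V : Subgroup G} (hOL : O < L) (hLV : L ≤ V)
    (hO : V ≤ normalizer (O : Set G)) (hL : V ≤ normalizer (L : Set G))
    (h : ∃ k, O.relIndex V = p ^ k) : O ⊔ ⁅L, V⁆ < L := by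
  have hN : (O.subgroupOf V).Normal := normal_subgroupOf_of_le_normalizer hO
  have hQ : IsPGroup p (V ⧸ O.subgroupOf V) := isPGroup_quotient_iff.mpr h
  have := hQ.isNilpotent
  refine lt_of_le_of_ne (sup_le hOL.le (le_normalizer_iff_commutator_le_left.mp hL)) fun e => ?_
  let π : V →* V ⧸ O.subgroupOf V := QuotientGroup.mk' _
  have key : ∀ n, (L.subgroupOf V).map π ≤ Subgroup.lowerCentralSeries ⊤ n := by
    intro n
    induction n with
    | zero => exact le_top
    | succ n ih =>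
      rw [Subgroup.lowerCentralSeries_succ]
      refine le_trans ?_ (commutator_mono ih le_rfl)
      have h1 : L.subgroupOf V = O.subgroupOf V ⊔ ⁅L.subgroupOf V, ⊤⁆ := by
        apply map_injective V.subtype_injective
        rw [Subgroup.map_sup, map_commutator, map_subgroupOf_eq_of_le hLV,
          map_subgroupOf_eq_of_le (hOL.le.trans hLV), ← MonoidHom.range_eq_map, range_subtype, e]
      conv_lhs => rw [h1]
      rw [Subgroup.map_sup, map_commutator, sup_le_iff]
      refine ⟨?_, commutator_mono le_rfl le_top⟩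
      rintro _ ⟨x, hx, rfl⟩
      rw [show π x = 1 from (QuotientGroup.eq_one_iff x).mpr hx]
      exact one_mem _
  obtain ⟨n, hn⟩ := Subgroup.nilpotent_iff_lowerCentralSeries.mp this
  refine hOL.not_ge fun x hx => ?_
  have := key n ⟨⟨x, hLV hx⟩, hx, rfl⟩
  rw [hn, mem_bot] at this
  exact (QuotientGroup.eq_one_iff (N := O.subgroupOf V) ⟨x, hLV hx⟩).mp this

theorem commutator_lt_of_isPGroup {L V : Subgroup G} (hL : L ≠ ⊥) (hLV : L ≤ V)
    (hn : V ≤ normalizer (L : Set G)) (hV : IsPGroup p V) : ⁅L, V⁆ < L := by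
  simpa using sup_commutator_lt (p := p) (O := ⊥) (bot_lt_iff_ne_bot.mpr hL) hLV
    le_normalizer_of_normal hn (by rw [relIndex_bot_left]; exact hV.exists_card_eq)

/-- Tate's theorem, in the form: a proper supplement. -/
theorem tate_aux {V K : Subgroup G} [K.Normal] (hVK : V ⊔ K = ⊤) (hcop : V.index.Coprime p)
    (hK : pResOf p K = K) (hVK' : pResOf p V ≤ K) (hne : pResOf p V ≠ V ⊓ K) :
    ∃ C ≤ V, pResOf p V ≤ C ∧ ¬ V ⊓ K ≤ C ∧ C ⊔ (V ⊓ K) = V ∧ ⁅V, V⁆ ≤ C := by
  have hlt : pResOf p V < V ⊓ K := lt_of_le_of_ne (le_inf (pResOf_le V) hVK') hne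
  have hL : V ≤ normalizer ((V ⊓ K : Subgroup G) : Set G) :=
    le_normalizer_inf le_normalizer le_normalizer_of_normal
  have h1 := sup_commutator_lt hlt inf_le_left (le_normalizer_pResOf V) hL (relIndex_pResOf V)
  obtain ⟨C, hCV, h2, h3, h4⟩ := tate_lemma hVK hcop hK h1.le
    (le_normalizer_sup (le_normalizer_pResOf V) (le_normalizer_commutator hL le_normalizer))
    le_sup_right (fun x hx => (exists_pow_mem_pResOf hx.1).imp fun k hk => mem_sup_left hk)
  refine ⟨C, hCV, (le_sup_left.trans h2.ge).trans inf_le_left, fun h => h1.not_ge ?_, h3, h4⟩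
  rw [← h2]
  exact le_inf h inf_le_right

/-- **Tate's theorem**. -/
theorem tate (P : Sylow p G) {V : Subgroup G} (hPV : (P : Subgroup G) ≤ V)
    (h : _root_.commutator G ⊓ P ≤ ⁅V, V⁆) : V ⊓ pResidual p G = pResOf p V := by
  by_contra hne
  obtain ⟨C, -, h1, h2, -, h4⟩ := tate_aux (p := p) (V := V) (K := pResidual p G)
    (top_le_iff.mp ((sylow_sup_pResidual P).ge.trans (sup_le_sup_right hPV _)))
    ((hp.out.coprime_iff_not_dvd.mpr P.not_dvd_index).symm.coprime_dvd_left (index_dvd_of_le hPV))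
    (by rw [← pResOf_top, pResOf_pResOf]) (by rw [← pResOf_top]; exact pResOf_mono le_top)
    (Ne.symm hne)
  apply h2
  have hS : IsSylowOf p (P ⊓ (V ⊓ pResidual p G)) (V ⊓ pResidual p G) :=
    (isSylowOf_sylow P hPV).inf_of_le inf_le_left
      (le_normalizer_inf (hPV.trans le_normalizer) le_normalizer_of_normal)
  rw [← hS.sup_pResOf]
  refine sup_le (le_trans ?_ (h.trans h4)) ((pResOf_mono inf_le_left).trans h1)
  exact le_inf ((inf_le_inf_left _ inf_le_right).trans (inf_pResidual_le_commutator P.2))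
    inf_le_left

theorem npc_top_of_commutator_inf_le (P : Sylow p G)
    (h : _root_.commutator G ⊓ P ≤ ⁅(P : Subgroup G), (P : Subgroup G)⁆) :
    NPC p (⊤ : Subgroup G) := by
  rw [(isSylowOf_top P).npc_iff, pResOf_top, tate P le_rfl h, pResOf_eq_bot_iff]
  exact P.2

theorem npc_top_of_controlsFusion (P : Sylow p G) (h : ControlsFusion (P : Subgroup G) P) :
    NPC p (⊤ : Subgroup G) :=
  npc_top_of_commutator_inf_le P h.commutator_inf_le

/-! ### Alperin's fusion theorem -/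

omit [Finite G] hp in
/-- `P ⊓ Q` is a tame intersection -/
def IsTame (P Q : Sylow p G) : Prop :=
  ¬ p ∣ ((P : Subgroup G) ⊓ normalizer (((P : Subgroup G) ⊓ Q : Subgroup G) : Set G)).relIndex
      (normalizer (((P : Subgroup G) ⊓ Q : Subgroup G) : Set G)) ∧
    ¬ p ∣ ((Q : Subgroup G) ⊓ normalizer (((P : Subgroup G) ⊓ Q : Subgroup G) : Set G)).relIndex
      (normalizer (((P : Subgroup G) ⊓ Q : Subgroup G) : Set G))

omit [Finite G] hp in
/-- chains of conjugations through normalizers of tame intersections -/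
inductive Chain (P : Sylow p G) : Subgroup G → G → Prop
  | nil (A : Subgroup G) : Chain P A 1
  | cons (A : Subgroup G) (Q : Sylow p G) (x g : G) (ht : IsTame P Q)
      (hx : x ∈ normalizer (((P : Subgroup G) ⊓ Q : Subgroup G) : Set G))
      (hA : A ≤ (P : Subgroup G) ⊓ Q) (h : Chain P (cj x⁻¹ A) g) : Chain P A (x * g)

omit [Finite G] hp in
theorem Chain.mono {P : Sylow p G} {B : Subgroup G} {g : G} (h : Chain P B g) :
    ∀ A ≤ B, Chain P A g := by
  induction h with
  | nil => exact fun A _ => .nil A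
  | cons B Q x g ht hx hB _ ih =>
    exact fun A hA => .cons A Q x g ht hx (hA.trans hB) (ih _ (cj_mono _ hA))

omit [Finite G] hp in
theorem Chain.trans {P : Sylow p G} {A : Subgroup G} {g : G} (h : Chain P A g) :
    ∀ k, Chain P (cj g⁻¹ A) k → Chain P A (g * k) := by
  induction h with
  | nil A => intro k hk; simpa [cj_one] using hk
  | cons A Q x g ht hx hA _ ih =>
    intro k hk
    rw [mul_assoc]
    refine .cons A Q x _ ht hx hA (ih k ?_)
    rwa [← cj_mul, ← mul_inv_rev]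

theorem exists_fully_normalized (P : Sylow p G) {A : Subgroup G} (hA : A ≤ P) :
    ∃ a : G, cj a⁻¹ ((P : Subgroup G) ⊓ normalizer (A : Set G)) ≤ P ∧
      IsSylowOf p ((P : Subgroup G) ⊓ normalizer (cj a⁻¹ A : Set G))
        (normalizer (cj a⁻¹ A : Set G)) := by
  obtain ⟨S, hS, hle⟩ := exists_isSylowOf_ge (p := p) (H := normalizer (A : Set G))
    (P.2.to_inf_left (K := normalizer (A : Set G))) inf_le_right
  obtain ⟨b, -, hb⟩ := (isSylowOf_top P).exists_cj_le hS.isP le_top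
  refine ⟨b⁻¹, by rw [inv_inv]; exact (cj_mono b hle).trans hb, ?_⟩
  rw [inv_inv]
  have h1 := hS.cj b
  rw [cj_normalizer] at h1
  rw [h1.eq_of_le P.2.to_inf_left inf_le_right (le_inf hb h1.le)]
  exact h1

theorem alperin_chain (P : Sylow p G) (A : Subgroup G) (g : G) (hA : A ≤ P)
    (hg : cj g⁻¹ A ≤ P) : Chain P A g := by
  induction hn : Nat.card P - Nat.card A using Nat.strong_induction_on generalizing A g with
  | _ n ih =>
  have ih' : ∀ (B : Subgroup G) (k : G), Nat.card A < Nat.card B → B ≤ P → cj k⁻¹ B ≤ P →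
      Chain P B k := by
    intro B k h1 h2 h3
    have := card_le_of_le h2
    exact ih _ (by omega) B k h2 h3 rfl
  -- the step through a fully normalized subgroup
  have step : ∀ (T : Subgroup G) (x : G), Nat.card T = Nat.card A → T ≤ P →
      IsSylowOf p ((P : Subgroup G) ⊓ normalizer (T : Set G)) (normalizer (T : Set G)) →
      x ∈ normalizer (T : Set G) → Chain P T x := by
    intro T x hc hT hS hx
    have hTU : T ≤ (P : Subgroup G) ⊓ (x • P : Sylow p G) :=
      le_inf hT (by rw [coe_smul_sylow, ← cj_eq_self_iff.mpr hx]; exact cj_mono x hT)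
    rcases hTU.eq_or_lt with e | hlt
    · rw [← mul_one x]
      refine .cons T (x • P) x 1 ⟨?_, ?_⟩ (e ▸ hx) hTU (.nil _)
      · rw [← e]; exact hS.not_dvd
      · rw [← e]
        have := hS.cj x
        rw [cj_inf, cj_normalizer, cj_eq_self_iff.mpr hx] at this
        exact this.not_dvd
    · refine (ih' _ x (hc ▸ card_lt_of_lt hlt) inf_le_left ?_).mono _ hTU
      rw [cj_le_iff, inv_inv]; exact inf_le_right
  rcases hA.eq_or_lt with e | hlt
  · refine step A g rfl hA ?_ ?_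
    · rw [e, inf_eq_left.mpr le_normalizer]; exact isSylowOf_sylow P le_normalizer
    · rw [← inv_mem_iff]
      exact mem_normalizer_of_cj_le (e ▸ hg)
  obtain ⟨a, ha, hS⟩ := exists_fully_normalized P hA
  set T := cj a⁻¹ A with hT
  set B := cj g⁻¹ A with hB
  have hAN := lt_inf_normalizer P.2 hlt
  have hTP : T ≤ P := (cj_mono _ hAN.le).trans ha
  have hBlt : B < P := lt_of_le_of_ne hg fun e => hlt.ne (eq_of_le_of_card_ge hA
    (by rw [← e, card_cj]))
  have hBN := lt_inf_normalizer P.2 hBlt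
  have hBT : cj (a⁻¹ * g) B = T := by rw [hB, ← cj_mul]; simp [hT]
  obtain ⟨n, hn, hle⟩ := hS.exists_cj_le
    (isPGroup_cj (a⁻¹ * g) (P.2.to_inf_left (K := normalizer (B : Set G))))
    (by rw [← hBT, ← cj_normalizer (a⁻¹ * g)]; exact cj_mono _ inf_le_right)
  have c1 : Chain P A a := (ih' _ a (card_lt_of_lt hAN) inf_le_left ha).mono _ hAN.le
  have c2 : Chain P T n⁻¹ := step T n⁻¹ (card_cj _ _) hTP hS (inv_mem hn)
  have c3 : Chain P T (n * (a⁻¹ * g)) := by
    refine (ih' (cj (n * (a⁻¹ * g)) ((P : Subgroup G) ⊓ normalizer (B : Set G))) _ ?_ ?_ ?_).mono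
      _ ?_
    · rw [card_cj, ← card_cj g⁻¹ A]; exact card_lt_of_lt hBN
    · rw [cj_mul]; exact hle.trans inf_le_left
    · rw [cj_inv_cj]; exact inf_le_left
    · rw [← cj_eq_self_iff.mpr hn, ← hBT, ← cj_mul]; exact cj_mono _ hBN.le
  have := c1.trans _ (c2.trans _ (by rw [inv_inv, cj_eq_self_iff.mpr hn]; exact c3))
  simpa using this

omit [Finite G] hp in
theorem Chain.exists_fin {P : Sylow p G} {A : Subgroup G} {g : G} (h : Chain P A g) :
    ∃ (n : ℕ) (Q : Fin n → Sylow p G) (x : Fin n → G), (List.ofFn x).prod = g ∧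
      (∀ i, x i ∈ normalizer (((P : Subgroup G) ⊓ Q i : Subgroup G) : Set G) ∧ IsTame P (Q i)) ∧
      ∀ i : Fin n, cj (((List.ofFn x).take i).prod)⁻¹ A ≤ (P : Subgroup G) ⊓ Q i := by
  induction h with
  | nil A => exact ⟨0, Fin.elim0, Fin.elim0, by simp, fun i => i.elim0, fun i => i.elim0⟩
  | cons A Q x g ht hx hA _ ih =>
    obtain ⟨n, Qs, xs, h1, h2, h3⟩ := ih
    refine ⟨n + 1, Fin.cons Q Qs, Fin.cons x xs, by simp [List.ofFn_succ, h1], ?_, ?_⟩
    · intro i
      refine Fin.cases ?_ (fun j => ?_) i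
      · exact ⟨hx, ht⟩
      · exact h2 j
    · intro i
      refine Fin.cases ?_ (fun j => ?_) i
      · simpa [cj_one] using hA
      · have := h3 j
        rw [← cj_mul, ← mul_inv_rev] at this
        simpa [List.ofFn_succ] using this

/-- Alperin's theorem as an induction principle for control of (strong) fusion. -/
theorem strong_fusion_of_local (P : Sylow p G) (M : Subgroup G) (A : Subgroup G)
    (hloc : ∀ T : Subgroup G, T ≤ P → Nat.card A ≤ Nat.card T →
      IsSylowOf p ((P : Subgroup G) ⊓ normalizer (T : Set G)) (normalizer (T : Set G)) →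
      ∀ x ∈ normalizer (T : Set G), ∃ m ∈ M, ∀ a ∈ T, m⁻¹ * a * m = x⁻¹ * a * x)
    (g : G) (hA : A ≤ P) (hg : cj g⁻¹ A ≤ P) : ∃ m ∈ M, ∀ a ∈ A, m⁻¹ * a * m = g⁻¹ * a * g := by
  have h := alperin_chain P A g hA hg
  clear hA hg
  induction h with
  | nil A => exact ⟨1, M.one_mem, fun _ _ => rfl⟩
  | cons A Q x g ht hx hA _ ih =>
    obtain ⟨m, hm, e⟩ := ih (by rw [card_cj]; exact hloc)
    obtain ⟨k, hk, e'⟩ := hloc _ inf_le_left (card_le_of_le hA)
      ⟨inf_le_right, P.2.to_inf_left, ht.1⟩ x hx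
    refine ⟨k * m, M.mul_mem hk hm, fun a ha => ?_⟩
    have h1 := e (x⁻¹ * a * x) (by simpa [mul_assoc] using ha)
    calc (k * m)⁻¹ * a * (k * m) = m⁻¹ * (k⁻¹ * a * k) * m := by group
      _ = g⁻¹ * (x⁻¹ * a * x) * g := by rw [e' a (hA ha), h1]
      _ = _ := by group

theorem controlsFusion_of_local (P : Sylow p G) (M : Subgroup G)
    (hloc : ∀ T : Subgroup G, T ≤ P → T ≠ ⊥ →
      IsSylowOf p ((P : Subgroup G) ⊓ normalizer (T : Set G)) (normalizer (T : Set G)) →
      ∀ x ∈ normalizer (T : Set G), ∃ m ∈ M, ∀ a ∈ T, m⁻¹ * a * m = x⁻¹ * a * x) :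
    ControlsFusion M P := by
  intro x hx g hg
  by_cases h1 : x = 1
  · exact ⟨1, M.one_mem, by simp [h1]⟩
  obtain ⟨m, hm, e⟩ := strong_fusion_of_local P M (zpowers x) (fun T hT hc => hloc T hT (by
    rintro rfl
    rw [card_bot, Nat.card_zpowers] at hc
    exact h1 (orderOf_eq_one_iff.mp (le_antisymm hc (orderOf_pos x))))) g⁻¹
    (zpowers_le.mpr hx) (by rw [inv_inv, cj_zpowers]; exact zpowers_le.mpr hg)
  exact ⟨m⁻¹, M.inv_mem hm, by simpa using e x (mem_zpowers x)⟩

/-- **Frobenius' normal `p`-complement theorem** -/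
theorem npc_top_of_frobenius (P : Sylow p G)
    (h : ∀ Q : Subgroup G, Q ≤ P → Q ≠ ⊥ → ∀ g ∈ normalizer (Q : Set G), (orderOf g).Coprime p →
      g ∈ centralizer (Q : Set G)) : NPC p (⊤ : Subgroup G) := by
  refine npc_top_of_controlsFusion P (controlsFusion_of_local P P fun T hT hT1 hS x hx => ?_)
  rw [← hS.sup_pResOf, sup_comm] at hx
  obtain ⟨y, hy, c, hc, rfl⟩ := (mem_sup_of_le_normalizer_left
    (hS.le.trans (le_normalizer_pResOf _))).mp hx
  have hy' : y ∈ centralizer (T : Set G) := pResOf_le_iff.mpr (h T hT hT1) hy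
  refine ⟨c, hc.1, fun a ha => ?_⟩
  calc c⁻¹ * a * c = c⁻¹ * y⁻¹ * (y * a) * c := by group
    _ = _ := by rw [← hy' a ha]; group

/-- Frobenius' theorem, ambient form -/
theorem IsSylowOf.npc_of_frobenius {P H : Subgroup G} (hP : IsSylowOf p P H)
    (h : ∀ Q : Subgroup G, Q ≤ P → Q ≠ ⊥ → ∀ g ∈ H, g ∈ normalizer (Q : Set G) →
      (orderOf g).Coprime p → g ∈ centralizer (Q : Set G)) : NPC p H := by
  obtain ⟨S, hS, hS'⟩ := hP.exists_sylow
  rw [← npc_subgroupOf_iff le_rfl, subgroupOf_self]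
  refine npc_top_of_frobenius S fun Q hQ hQ1 g hg hc => ?_
  have := h (Q.map H.subtype) (hS' ▸ map_mono hQ)
    (by rwa [Ne, map_eq_bot_iff_of_injective _ H.subtype_injective]) g g.2
    (le_normalizer_map H.subtype ⟨g, hg, rfl⟩) (by simpa using hc)
  intro y hy
  exact Subtype.ext (this y ⟨y, hy, rfl⟩)

theorem npc_of_local {H : Subgroup G}
    (h : ∀ Q : Subgroup G, Q ≤ H → IsPGroup p Q → Q ≠ ⊥ → NPC p (H ⊓ normalizer (Q : Set G))) :
    NPC p H := by
  obtain ⟨P, hP⟩ := exists_isSylowOf p H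
  exact hP.npc_of_frobenius fun Q hQ hQ1 g hg hgN hc =>
    (h Q (hQ.trans hP.le) (hP.isP.to_le hQ) hQ1).mem_centralizer (hP.isP.to_le hQ)
      (le_inf (hQ.trans hP.le) le_normalizer) ⟨hg, hgN⟩ hgN hc

/-! ### fusion lemmas -/

theorem controlsFusion_normalizer_of_comm (P : Sylow p G) (hP : IsMulCommutative P) :
    ControlsFusion (normalizer (P : Set G)) (P : Subgroup G) := by
  intro x hx g hg
  have : IsMulCommutative (P : Subgroup G) := hP
  obtain ⟨n, hn, e⟩ := P.conj_eq_normalizer_conj_of_mem x g⁻¹ hx (by rw [inv_inv]; exact hg)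
  exact ⟨n⁻¹, inv_mem hn, by simpa using e.symm⟩

theorem controlsFusion_of_weaklyClosed (P : Sylow p G) {Z : Subgroup G}
    (hZ : Z ≤ centralizer (P : Set G)) (hW : IsWeaklyClosed Z P) :
    ControlsFusion (normalizer (Z : Set G)) (P : Subgroup G) := by
  intro x hx g hg
  have hZp : IsPGroup p Z := P.2.to_le hW.1
  have h1 : Z ≤ centralizer (zpowers (g * x * g⁻¹) : Set G) :=
    hZ.trans (centralizer_le (zpowers_le.mpr hg))
  have h2 : cj g Z ≤ centralizer (zpowers (g * x * g⁻¹) : Set G) := by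
    rw [← cj_zpowers, ← cj_centralizer]
    exact cj_mono g (hZ.trans (centralizer_le (zpowers_le.mpr hx)))
  obtain ⟨S, hS, hZS⟩ := exists_isSylowOf_ge hZp h1
  obtain ⟨c, hc, hcS⟩ := hS.exists_cj_le (isPGroup_cj g hZp) h2
  obtain ⟨k, -, hk⟩ := (isSylowOf_top P).exists_cj_le hS.isP le_top
  have e1 : cj k Z = Z := hW.2 k ((cj_mono k hZS).trans hk)
  have e2 : cj (k * (c * g)) Z = Z := hW.2 _ (by
    rw [cj_def, cj_mul, cj_mul]; exact (cj_mono k hcS).trans hk)
  refine ⟨c * g, ?_, ?_⟩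
  · rw [← cj_eq_self_iff]
    apply cj_injective k
    rw [← cj_mul, e1, e2]
  · have := hc _ (mem_zpowers _)
    calc c * g * x * (c * g)⁻¹ = c * (g * x * g⁻¹) * c⁻¹ := by group
      _ = _ := by rw [← this]; group

end

end Cfsg.Agent.PLoc
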