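import Cfsg.Agent.PLoc.Quad

/-!
The characteristic subgroup `W(S)` and `p`-stability in the action sense.
-/

set_option autoImplicit false

namespace Cfsg.Agent.PLoc

open Subgroup
open scoped commutatorElement Pointwise

universe u

variable {p e : ℕ}

section

variable {G : Type*} [Group G]

/-- `H` acts `p`-stably on `V` -/
def StabOn (p : ℕ) (H V : Subgroup G) : Prop :=
  ∀ A ≤ H, ⁅⁅V, A⁆, A⁆ = ⊥ → InOp p A H (centralizer (V : Set G))

theorem stabOn_top_iff [Finite G] [Fact p.Prime] {V : Subgroup G} [V.Normal] :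
    StabOn p ⊤ V ↔ IsPStableOn p V :=
  ⟨fun h => isPStableOn_iff.2 fun A hA => h A le_top hA, fun h A _ hA => isPStableOn_iff.1 h A hA⟩

theorem centralizer_map_subtype_subgroupOf {H : Subgroup G} (V : Subgroup H) :
    (centralizer ((V.map H.subtype : Subgroup G) : Set G)).subgroupOf H = centralizer (V : Set H) := by
  ext x
  rw [mem_subgroupOf]
  constructor
  · intro h y hy
    exact Subtype.ext (h y (mem_map_of_mem _ hy))
  · rintro h _ ⟨y, hy, rfl⟩
    exact congrArg Subtype.val (h y hy)

theorem stabOn_map_subtype_iff [Finite G] [Fact p.Prime] {H : Subgroup G} {V : Subgroup H}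
    [V.Normal] : StabOn p H (V.map H.subtype) ↔ IsPStableOn p V := by
  rw [isPStableOn_iff, ← centralizer_map_subtype_subgroupOf]
  constructor
  · intro h A hA
    have := h (A.map H.subtype) (map_subtype_le _)
      (by rw [← map_commutator, ← map_commutator, hA, Subgroup.map_bot])
    rwa [← inOp_subgroupOf_iff (map_subtype_le _), subgroupOf,
      comap_map_eq_self_of_injective H.subtype_injective] at this
  · intro h A hA hq
    rw [← inOp_subgroupOf_iff hA]
    refine h _ ((map_eq_bot_iff_of_injective _ H.subtype_injective).1 ?_)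
    rwa [map_commutator, map_commutator, subgroupOf_map_subtype, inf_eq_left.2 hA]

theorem inOp_of_forall [Finite G] [Fact p.Prime] {A H C : Subgroup G} (hA : A ≤ H)
    (hC : H ≤ normalizer (C : Set G)) (h : ∀ a ∈ A, InOp p (zpowers a) H C) : InOp p A H C := by
  have := normal_subgroupOf_of_le_normalizer hC
  rw [← inOp_iff_subgroupOf hA, map_le_iff_le_comap]
  intro a ha
  have h2 := h a ha
  rw [← inOp_iff_subgroupOf (zpowers_le.2 a.2), map_le_iff_le_comap] at h2
  exact h2 (mem_zpowers (a : G))

theorem stabOn_of_forall [Finite G] [Fact p.Prime] {H V : Subgroup G}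
    (hH : H ≤ normalizer (V : Set G)) (h : ∀ a ∈ H, ⁅⁅V, zpowers a⁆, zpowers a⁆ = ⊥ →
      InOp p (zpowers a) H (centralizer (V : Set G))) : StabOn p H V := fun _ hA hq =>
  inOp_of_forall hA (le_normalizer_centralizer hH) fun a ha => h a (hA ha)
    (commutator_eq_bot_of_le hq (commutator_mono le_rfl (zpowers_le.2 ha)) (zpowers_le.2 ha))

theorem map_thompsonSubgroup {G' : Type*} [Group G'] {f : G →* G'} (hf : Function.Injective f) :
    (thompsonSubgroup e G).map f = JOf e f.range := by
  rw [← JOf_top, map_JOf_inj hf, MonoidHom.range_eq_map]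

theorem map_omegaCenterThompson' [Finite G] {G' : Type*} [Group G'] {f : G →* G'}
    (hf : Function.Injective f) : (omegaCenterThompson e G).map f = ZJOf e f.range := by
  rw [← ZJOf_top, map_ZJOf_inj hf, MonoidHom.range_eq_map]

/-- if quadratic elements of the Sylow subgroup centralize `W`, stability forces quadratic
elements to centralize the normal closure of `W` -/
theorem centralizes_of_quad [Finite G] [Fact p.Prime] {S W V : Subgroup G} [V.Normal]
    (hS : IsSylowOf p S ⊤) (hV : V = normalClosure (W : Set G)) (hst : StabOn p ⊤ V)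
    (hW : ∀ s ∈ S, ⁅⁅W, zpowers s⁆, zpowers s⁆ = ⊥ → ⁅W, zpowers s⁆ = ⊥) {x : G}
    (hq : ⁅⁅V, zpowers x⁆, zpowers x⁆ = ⊥) : x ∈ centralizer (V : Set G) := by
  have hWV : W ≤ V := hV ▸ le_normalClosure
  have key : ∀ y, ⁅⁅V, zpowers y⁆, zpowers y⁆ = ⊥ → y ∈ centralizer (W : Set G) := by
    intro y hy
    obtain ⟨D, h1, -, -, h2⟩ := (hst _ le_top hy).le_sup hS
    obtain ⟨c, hc, s, hs, rfl⟩ := (mem_sup_of_le_normalizer_left
      (le_normalizer_centralizer le_normalizer_of_normal)).1 (h2 (h1 (mem_zpowers y)))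
    have h3 : zpowers s ≤ zpowers (c * s) ⊔ centralizer (V : Set G) := zpowers_le.2 (by
      simpa using mul_mem (inv_mem (mem_sup_right hc)) (mem_sup_left (mem_zpowers (c * s))))
    have h4 := hW s hs (commutator_eq_bot_of_le (quad_of_le_sup_centralizer le_normalizer_of_normal
      h3 hy) (commutator_mono hWV le_rfl) le_rfl)
    exact mul_mem (centralizer_anti hWV hc) (le_centralizer_iff.1
      (commutator_eq_bot_iff_le_centralizer.1 h4) (mem_zpowers s))
  refine le_centralizer_iff.1 (show V ≤ centralizer (zpowers x : Set G) from ?_) (mem_zpowers x)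
  rw [hV]
  refine (closure_le _).2 fun z hz => ?_
  obtain ⟨w, hw, hzw⟩ := Group.mem_conjugatesOfSet_iff.1 hz
  obtain ⟨g, rfl⟩ := isConj_iff.1 hzw
  have h1 := key (g⁻¹ * x * g⁻¹⁻¹) (by
    rw [← cj_zpowers, ← cj_eq_of_normal g⁻¹ V, ← cj_commutator, ← cj_commutator, hq, cj_bot]) w hw
  rw [SetLike.mem_coe, centralizer_zpowers, mem_centralizer_singleton_iff]
  calc g * w * g⁻¹ * x = g * (w * (g⁻¹ * x * g⁻¹⁻¹)) * g⁻¹ := by group
    _ = _ := by rw [h1]; group

end

section

variable {S : Type u} [Group S]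

theorem isStableEmbedding_iff [Fact p.Prime] {H : Type u} [Group H] [Finite H] {τ : S →* H}
    (hτ : Function.Injective τ) : IsStableEmbedding p τ ↔ IsSylowOf p τ.range ⊤ ∧
      centralizer (pCore p H : Set H) ≤ pCore p H ∧ (JOf p τ.range).Normal ∧
      ∀ V : Subgroup H, V.Normal → V ≤ ZJOf p τ.range → StabOn p ⊤ V := by
  have := Finite.of_injective _ hτ
  rw [IsStableEmbedding, map_thompsonSubgroup hτ, map_omegaCenterThompson' hτ]
  constructor
  · rintro ⟨-, -, ⟨P, hP⟩, h1, h2, h3⟩
    exact ⟨hP ▸ isSylowOf_top P, h1, h2, fun V _ hV => stabOn_top_iff.2 (h3 V hV)⟩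
  · rintro ⟨h0, h1, h2, h3⟩
    exact ⟨hτ, inferInstance, h0.exists_sylow_top, h1, h2,
      fun V hn hV => stabOn_top_iff.1 (h3 V hn hV)⟩

theorem IsStableEmbedding_comp [Fact p.Prime] {S' H : Type u} [Group S'] [Group H] {τ : S →* H}
    (h : IsStableEmbedding p τ) (η : S' ≃* S) : IsStableEmbedding p (τ.comp η.toMonoidHom) := by
  have := h.2.1
  have h1 : (τ.comp η.toMonoidHom).range = τ.range := by
    rw [MonoidHom.range_comp, MonoidHom.range_eq_top.2 η.surjective, MonoidHom.range_eq_map]
  rw [isStableEmbedding_iff (τ := τ.comp η.toMonoidHom) (h.1.comp η.injective), h1,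
    ← isStableEmbedding_iff h.1]
  exact h

theorem omegaOne_center_le_snc : omegaOne p (center S) ≤ stableNormalClosure p S :=
  le_sInf fun _ h => h.1

theorem snc_le {W : Subgroup S} (h1 : omegaOne p (center S) ≤ W)
    (h2 : ∀ (H : Type u) [Group H] (τ : S →* H), IsStableEmbedding p τ → (W.map τ).Normal) :
    stableNormalClosure p S ≤ W := sInf_le ⟨h1, h2⟩

theorem snc_map_normal {H : Type u} [Group H] {τ : S →* H} (h : IsStableEmbedding p τ) :
    ((stableNormalClosure p S).map τ).Normal := by
  refine ⟨?_⟩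
  rintro _ ⟨x, hx, rfl⟩ g
  have hJ : x ∈ thompsonSubgroup p S := by
    have := h.2.1
    have := Finite.of_injective _ h.1
    refine (snc_le ?_ fun H _ τ h => h.2.2.2.2.1) hx
    rw [← OmZ_top, ← JOf_top]
    exact (OmZ_le_ZJOf _).trans (ZJOf_le_JOf _)
  obtain ⟨y, -, hy⟩ := h.2.2.2.2.1.conj_mem _ (mem_map_of_mem τ hJ) g
  refine ⟨y, mem_sInf.2 fun W hW => ?_, hy⟩
  obtain ⟨z, hz, e⟩ := (hW.2 H τ h).conj_mem _ (mem_map_of_mem τ (mem_sInf.1 hx W hW)) g
  rwa [← h.1 (e.trans hy.symm)]

theorem snc_le_omegaCenterThompson [Finite S] [Fact p.Prime] :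
    stableNormalClosure p S ≤ omegaCenterThompson p S := by
  refine snc_le ?_ fun H _ τ h => ?_
  · rw [← OmZ_top, ← ZJOf_top]; exact OmZ_le_ZJOf _
  · have := h.2.1
    rw [map_omegaCenterThompson' h.1]
    have := ((isStableEmbedding_iff h.1).1 h).2.2.1
    exact normal_of_forall_mem_normalizer fun g =>
      normalizer_JOf_le_normalizer_ZJOf _ (mem_normalizer_of_normal _ g)

theorem map_snc_le [Fact p.Prime] {S' : Type u} [Group S'] (η : S ≃* S') :
    (stableNormalClosure p S).map η.toMonoidHom ≤ stableNormalClosure p S' := by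
  refine le_sInf fun W hW => map_le_iff_le_comap.2 (snc_le ?_ fun H _ τ h => ?_)
  · refine map_le_iff_le_comap.1 ((map_omegaOne_le _ _).trans ((omegaOne_mono ?_).trans hW.1))
    rintro _ ⟨x, hx, rfl⟩
    refine mem_center_iff.2 fun y => ?_
    obtain ⟨y, rfl⟩ := η.surjective y
    simp only [MulEquiv.toMonoidHom_eq_coe, MonoidHom.coe_coe]
    rw [← map_mul, ← map_mul, mem_center_iff.1 hx y]
  · have := hW.2 H _ (IsStableEmbedding_comp h η.symm)
    rwa [← map_map, ← comap_equiv_eq_map_symm'] at this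

theorem map_snc [Fact p.Prime] {S' : Type u} [Group S'] (η : S ≃* S') :
    (stableNormalClosure p S).map η.toMonoidHom = stableNormalClosure p S' := by
  refine le_antisymm (map_snc_le η) fun x hx => ?_
  exact ⟨η.symm x, map_snc_le η.symm (mem_map_of_mem _ hx), η.apply_symm_apply x⟩

theorem snc_quad [Finite S] [Fact p.Prime] (x : S)
    (hq : ⁅⁅stableNormalClosure p S, zpowers x⁆, zpowers x⁆ = ⊥) :
    ⁅stableNormalClosure p S, zpowers x⁆ = ⊥ := by
  obtain ⟨W, ⟨h1, h2, h3⟩, hmax⟩ := Set.exists_max_image {W : Subgroup S | omegaOne p (center S) ≤ W ∧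
    W ≤ stableNormalClosure p S ∧ ∀ x, ⁅⁅W, zpowers x⁆, zpowers x⁆ = ⊥ → ⁅W, zpowers x⁆ = ⊥}
    (fun W => Nat.card W) (Set.toFinite _) ⟨_, le_rfl, omegaOne_center_le_snc, fun x _ =>
      commutator_eq_bot_iff_le_centralizer.2 ((omegaOne_le _).trans (center_le_centralizer _))⟩
  have : stableNormalClosure p S ≤ W := by
    refine snc_le h1 fun H _ τ h => ?_
    have := h.2.1
    have hn := snc_map_normal h
    obtain ⟨a1, -, -, a4⟩ := (isStableEmbedding_iff h.1).1 h
    set V := normalClosure (W.map τ : Set H) with hV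
    have hV1 : V ≤ (stableNormalClosure p S).map τ := normalClosure_le_normal (map_mono h2)
    have hV2 : (V.comap τ).map τ = V := map_comap_eq_self (hV1.trans (map_le_range _ _))
    have hWV : W ≤ V.comap τ := map_le_iff_le_comap.1 le_normalClosure
    have hm := hmax (V.comap τ) ⟨h1.trans hWV, ?_, fun y hy => ?_⟩
    · rw [eq_of_le_of_card_ge hWV hm, hV2]; infer_instance
    · rw [← comap_map_eq_self_of_injective h.1 (stableNormalClosure p S)]
      exact comap_mono hV1
    · have hst := a4 V inferInstance (hV1.trans ((map_mono snc_le_omegaCenterThompson).trans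
        (map_omegaCenterThompson' h.1).le))
      have := centralizes_of_quad (x := τ y) a1 hV hst ?_ ?_
      · rw [← map_eq_bot_iff_of_injective _ h.1, map_commutator, hV2, MonoidHom.map_zpowers]
        exact commutator_eq_bot_iff_le_centralizer.2 (le_centralizer_iff.1 (zpowers_le.2 this))
      · rintro _ ⟨s, rfl⟩ hs
        rw [← MonoidHom.map_zpowers, ← map_commutator, ← map_commutator,
          map_eq_bot_iff_of_injective _ h.1] at hs
        rw [← MonoidHom.map_zpowers, ← map_commutator, h3 s hs, Subgroup.map_bot]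
      · rw [← hV2, ← MonoidHom.map_zpowers, ← map_commutator, ← map_commutator, hy, Subgroup.map_bot]
  rw [← le_antisymm h2 this] at hq ⊢
  exact h3 x hq

end

section

variable {G : Type u} [Group G]

/-- `W(S)` inside `G` -/
def WOf (p : ℕ) (S : Subgroup G) : Subgroup G := (stableNormalClosure p S).map S.subtype

theorem WOf_def (S : Subgroup G) : (stableNormalClosure p S).map S.subtype = WOf p S := rfl

theorem OmZ_le_WOf (S : Subgroup G) : OmZ p S ≤ WOf p S := by
  rw [OmZ, ← map_center_subtype, ← map_omegaOne_inj S.subtype_injective]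
  exact map_mono omegaOne_center_le_snc

theorem WOf_le_ZJOf [Finite G] [Fact p.Prime] (S : Subgroup G) : WOf p S ≤ ZJOf p S := by
  rw [← map_omegaCenterThompson]
  exact map_mono snc_le_omegaCenterThompson

theorem WOf_le (S : Subgroup G) : WOf p S ≤ S := map_subtype_le _

theorem isEA_WOf [Finite G] [Fact p.Prime] (S : Subgroup G) : IsElementaryAbelian p (WOf p S) :=
  isEA_of_le (isEA_ZJOf S) (WOf_le_ZJOf S)

theorem WOf_ne_bot [Finite G] [Fact p.Prime] {S : Subgroup G} (hS : IsPGroup p S) (h : S ≠ ⊥) :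
    WOf p S ≠ ⊥ := fun hb => OmZ_ne_bot hS h (eq_bot_iff.2 ((OmZ_le_WOf S).trans hb.le))

theorem map_snc_eq_WOf [Fact p.Prime] {S : Type u} [Group S] {τ : S →* G}
    (hτ : Function.Injective τ) : (stableNormalClosure p S).map τ = WOf p τ.range := by
  rw [WOf, ← map_snc (MonoidHom.ofInjective hτ), map_map]
  rfl

theorem map_WOf [Fact p.Prime] {G' : Type u} [Group G'] {f : G →* G'} {S : Subgroup G}
    (hf : ∀ x ∈ S, f x = 1 → x = 1) : (WOf p S).map f = WOf p (S.map f) := by
  rw [WOf, map_map, map_snc_eq_WOf ((injective_iff_map_eq_one _).2 fun x hx =>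
    Subtype.ext (hf x x.2 hx)), MonoidHom.range_comp, range_subtype]

theorem cj_WOf [Fact p.Prime] (g : G) (S : Subgroup G) : cj g (WOf p S) = WOf p (cj g S) :=
  map_WOf (inj_on_of_injective (MulAut.conj g).injective S)

theorem normalizer_le_normalizer_WOf [Fact p.Prime] (S : Subgroup G) :
    normalizer (S : Set G) ≤ normalizer (WOf p S : Set G) := fun g hg => by
  rw [← cj_eq_self_iff] at hg ⊢
  rw [cj_WOf, hg]

theorem le_normalizer_WOf [Fact p.Prime] (S : Subgroup G) : S ≤ normalizer (WOf p S : Set G) :=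
  le_normalizer.trans (normalizer_le_normalizer_WOf S)

theorem WOf_quad [Finite G] [Fact p.Prime] {S : Subgroup G} {x : G} (hx : x ∈ S)
    (hq : ⁅⁅WOf p S, zpowers x⁆, zpowers x⁆ = ⊥) : ⁅WOf p S, zpowers x⁆ = ⊥ := by
  have e : zpowers x = (zpowers (⟨x, hx⟩ : S)).map S.subtype := by rw [MonoidHom.map_zpowers]; rfl
  rw [e, WOf, ← map_commutator, ← map_commutator,
    map_eq_bot_iff_of_injective _ S.subtype_injective] at hq
  rw [e, WOf, ← map_commutator, snc_quad _ hq, Subgroup.map_bot]

theorem le_normalizer_WOf_of_stable [Finite G] [Fact p.Prime] {S H : Subgroup G}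
    (hS : IsSylowOf p S H) (hc : CharPOf p H) (hJ : H ≤ normalizer (JOf p S : Set G))
    (hst : ∀ V ≤ ZJOf p S, H ≤ normalizer (V : Set G) → StabOn p H V) :
    H ≤ normalizer (WOf p S : Set G) := by
  have hi := inclusion_injective hS.le
  have hr : (inclusion hS.le).range = S.subgroupOf H := inclusion_range hS.le
  have hm : (S.subgroupOf H).map H.subtype = S := by
    rw [subgroupOf_map_subtype, inf_eq_left.2 hS.le]
  have h : IsStableEmbedding p (inclusion hS.le) := by
    rw [isStableEmbedding_iff hi, hr]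
    refine ⟨subgroupOf_self H ▸ hS.subgroupOf le_rfl, charPOf_iff.1 hc, ?_, fun V hV hle => ?_⟩
    · have := normal_subgroupOf_of_le_normalizer hJ
      rwa [← hm, ← map_JOf_inj H.subtype_injective, subgroupOf,
        comap_map_eq_self_of_injective H.subtype_injective] at this
    · refine stabOn_top_iff.2 (stabOn_map_subtype_iff.1 (hst _ ?_ (le_normalizer_map_subtype V)))
      rw [← hm, ← map_ZJOf_inj H.subtype_injective]
      exact map_mono hle
  have := le_normalizer_map_subtype _ (hK := snc_map_normal h)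
  rwa [map_map] at this

theorem sectionKernel_eq_ker_aux {K N : Subgroup G} [N.Normal] {x : G} :
    x ∈ sectionKernel K N ↔ ∀ k ∈ K, ⁅k, x⁆ ∈ N := by
  rw [sectionKernel, mem_comap]
  constructor
  · intro h k hk
    rw [← QuotientGroup.eq_one_iff, ← QuotientGroup.mk'_apply, map_commutatorElement,
      commutatorElement_eq_one_iff_mul_comm]
    exact h _ (mem_map_of_mem _ hk)
  · rintro h _ ⟨k, hk, rfl⟩
    rw [← commutatorElement_eq_one_iff_mul_comm, ← map_commutatorElement, QuotientGroup.mk'_apply,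
      QuotientGroup.eq_one_iff]
    exact h k hk

theorem isPStableOnSection_iff [Finite G] [Fact p.Prime] {K N : Subgroup G} [K.Normal] [N.Normal] :
    IsPStableOnSection p K N ↔ ∀ a : G, ⁅⁅K, zpowers a⁆, zpowers a⁆ ≤ N →
      InOp p (zpowers a) ⊤ (sectionKernel K N) := by
  have : (K.map (QuotientGroup.mk' N)).Normal := Normal.map inferInstance _ (QuotientGroup.mk'_surjective N)
  have hn : (sectionKernel K N).Normal := by unfold sectionKernel; infer_instance
  refine forall_congr' fun a => imp_congr_right fun _ => ⟨?_, ?_⟩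
  · rintro ⟨D, h1, -, h3, h4⟩
    exact ⟨D, zpowers_le.2 h4, le_top, le_normalizer_of_normal,
      pResOf_le_of_relIndex le_normalizer_of_normal h3⟩
  · rintro ⟨D, h1, -, h3, h4⟩
    have := normal_of_top_le_normalizer h3
    refine ⟨D ⊔ sectionKernel K N, inferInstance, le_sup_right, ?_, mem_sup_left (h1 (mem_zpowers a))⟩
    rw [relIndex_sup_right]
    exact relIndex_eq_pow_of_forall le_normalizer_of_normal fun x hx =>
      (exists_pow_mem_pResOf hx).imp fun _ h => h4 h

theorem isActionPStable_iff [Finite G] [Fact p.Prime] : IsActionPStable p G ↔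
    (∀ V : Subgroup G, V.Normal → IsElementaryAbelian p V → StabOn p ⊤ V) ∧
    IsPStableOnSection p (pCore p G) ((frattini ↥(pCore p G)).map (pCore p G).subtype) ∧
    ∀ S : Subgroup G, IsSylowOf p S ⊤ → ∀ V ≤ ZJOf p S,
      normalizer (JOf p S : Set G) ≤ normalizer (V : Set G) →
        StabOn p (normalizer (JOf p S : Set G)) V := by
  refine and_congr ⟨fun h V _ hV => stabOn_top_iff.2 (h V hV), fun h V hn hV =>
    stabOn_top_iff.1 (h V hn hV)⟩ (and_congr_right fun _ => ⟨fun h S hS V h1 h2 => ?_,
      fun h S V hn hV => ?_⟩)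
  · obtain ⟨T, rfl⟩ := hS.exists_sylow_top
    have := h T
    rw [thompsonSubgroupOf_eq, map_omegaCenterThompson] at this
    have h3 : V ≤ normalizer (JOf p (T : Subgroup G) : Set G) :=
      (h1.trans (ZJOf_le_JOf _)).trans le_normalizer
    have h4 := normal_subgroupOf_of_le_normalizer h2
    have e : (V.subgroupOf _).map (normalizer (JOf p (T : Subgroup G) : Set G)).subtype = V := by
      rw [subgroupOf_map_subtype, inf_eq_left.2 h3]
    rw [← e]
    exact stabOn_map_subtype_iff.2 (this _ (e.le.trans h1))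
  · have := h S (isSylowOf_top S)
    rw [← thompsonSubgroupOf_eq, ← map_omegaCenterThompson] at this
    exact stabOn_map_subtype_iff.1 (this _ hV (le_normalizer_map_subtype V))

theorem isPGroup_sectionKernel [Finite G] [Fact p.Prime]
    (hc : centralizer (pCore p G : Set G) ≤ pCore p G) :
    IsPGroup p (sectionKernel (pCore p G) ((frattini ↥(pCore p G)).map (pCore p G).subtype)) := by
  refine isPGroup_of_forall_coprime fun x hx ho => ?_
  have := Core.le_centralizer_of_commutator_le_frattini (A := zpowers x) (K := pCore p G)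
    le_normalizer_of_normal ?_ (commutator_zpowers_right_le (mem_normalizer_of_normal _ x)
      (sectionKernel_eq_ker_aux.1 hx))
  · exact eq_one_of_isPGroup_of_coprime pCore_isPGroup (hc (this (mem_zpowers x))) ho
  · rw [Nat.card_zpowers]
    exact coprime_card_of_isPGroup (pCore_isPGroup.to_subgroup _) ho

theorem WOf_normal [Finite G] [Fact p.Prime] (hst : IsActionPStable p G)
    (hc : centralizer (pCore p G : Set G) ≤ pCore p G) {S : Subgroup G} (hS : IsSylowOf p S ⊤) :
    (WOf p S).Normal := by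
  obtain ⟨h1, h2, h3⟩ := isActionPStable_iff.1 hst
  have hOS : ∀ T : Subgroup G, IsSylowOf p T ⊤ → pCore p G ≤ T := fun T hT =>
    pCoreOf_top (p := p) (G := G) ▸ hT.pCoreOf_le
  have hWO : ∀ T : Subgroup G, IsSylowOf p T ⊤ → WOf p T ≤ pCore p G := by
    intro T hT w hw
    have := (isPStableOnSection_iff.1 h2 w ?_).le_pCoreOf (isPGroup_sectionKernel hc)
    · rw [pCoreOf_top] at this; exact this (mem_zpowers w)
    · rw [commutator_eq_bot_of_le (commutator_self_eq_bot (isEA_WOf T).1) ((commutator_mono le_rfl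
        (zpowers_le.2 hw)).trans (commutator_le_right' ((hOS T hT).trans (le_normalizer_WOf T))))
        (zpowers_le.2 hw)]
      exact bot_le
  have hcomm : ∀ T T' : Subgroup G, IsSylowOf p T ⊤ → IsSylowOf p T' ⊤ →
      WOf p T ≤ centralizer (WOf p T' : Set G) := by
    intro T T' hT hT' x hx
    have := WOf_quad (hOS T' hT' (hWO T hT hx)) (commutator_eq_bot_of_le
      (commutator_self_eq_bot (isEA_WOf T).1) ((commutator_mono le_rfl (zpowers_le.2 hx)).trans
        (commutator_le_right' (((hWO T' hT').trans (hOS T hT)).trans (le_normalizer_WOf T))))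
      (zpowers_le.2 hx))
    exact le_centralizer_iff.1 (commutator_eq_bot_iff_le_centralizer.1 this) (mem_zpowers x)
  have hS' : ∀ g, IsSylowOf p (cj g S) ⊤ := fun g => cj_top g ▸ hS.cj g
  set V := normalClosure (WOf p S : Set G) with hV
  have hVe : V ≤ ⨆ g, WOf p (cj g S) := (closure_le _).2 fun z hz => by
    obtain ⟨w, hw, hzw⟩ := Group.mem_conjugatesOfSet_iff.1 hz
    obtain ⟨g, rfl⟩ := isConj_iff.1 hzw
    refine mem_iSup_of_mem g ?_
    rw [← cj_WOf, conj_mem_cj]; exact hw
  have hVea : IsElementaryAbelian p V := isEA_of_le (isEA_of_le_iSup (fun g => isEA_WOf _)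
    fun g g' => hcomm _ _ (hS' g) (hS' g')) hVe
  have hVS : V ≤ S := (normalClosure_le_normal (hWO S hS)).trans (hOS S hS)
  have hJ : JOf p S ≤ centralizer (V : Set G) := by
    by_contra hcon
    obtain ⟨A, hA, h4, h5⟩ := exists_quad_maxEA hVea hVS le_normalizer_of_normal hcon
    refine h5 (commutator_eq_bot_iff_le_centralizer.2 (le_centralizer_iff.1 fun a ha => ?_))
    exact centralizes_of_quad hS hV (h1 V inferInstance hVea) (fun s hs => WOf_quad hs)
      (commutator_eq_bot_of_le h4 (commutator_mono le_rfl (zpowers_le.2 ha)) (zpowers_le.2 ha))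
  have hN : normalizer (JOf p S : Set G) ≤ normalizer (WOf p S : Set G) :=
    le_normalizer_WOf_of_stable (hS.of_le (le_normalizer_JOf S) le_top)
      ((charPOf_top.2 hc).of_le le_top (hS.pCoreOf_le.trans (le_normalizer_JOf S))) le_rfl (h3 S hS)
  refine normal_of_forall_mem_normalizer fun g => ?_
  obtain ⟨c, hc, n, hn, rfl⟩ := frattini_JOf hS hJ g
  exact mul_mem (centralizer_le_normalizer _ (centralizer_anti le_normalClosure hc)) (hN hn)

end

end Cfsg.Agent.PLoc
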