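import Cfsg.Agent.PLoc.QuadLin
import Cfsg.Agent.PLoc.WS
import Cfsg.Agent.H9.Baer
import Cfsg.Agent.Core.CoprimeAb

/-!
Criteria for `p`-stability and the normal `p`-complement theorems of Thompson and Glauberman.
-/

set_option autoImplicit false

namespace Cfsg.Agent.PLoc

open Subgroup
open scoped commutatorElement Pointwise MatrixGroups Matrix

universe u

variable {p e : ℕ}

section

variable {G : Type*} [Group G]

/-- `T` is a quotient of a subgroup of `H` -/
def HasSection (H : Subgroup G) (T : Type*) [Group T] : Prop :=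
  ∃ K ≤ H, ∃ φ : K →* T, Function.Surjective φ

theorem hasSection_iff {H : Subgroup G} {T : Type*} [Group T] : HasSection H T ↔
    ∃ (K L : Subgroup G) (_ : (L.subgroupOf K).Normal), K ≤ H ∧
      Nonempty ((K ⧸ L.subgroupOf K) ≃* T) := by
  constructor
  · rintro ⟨K, hK, φ, hφ⟩
    have e : (φ.ker.map K.subtype).subgroupOf K = φ.ker :=
      comap_map_eq_self_of_injective K.subtype_injective _
    have : ((φ.ker.map K.subtype).subgroupOf K).Normal := by rw [e]; infer_instance
    exact ⟨K, φ.ker.map K.subtype, this, hK, ⟨(QuotientGroup.quotientMulEquivOfEq e).trans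
      (QuotientGroup.quotientKerEquivOfSurjective φ hφ)⟩⟩
  · rintro ⟨K, L, _, hK, ⟨e⟩⟩
    exact ⟨K, hK, e.toMonoidHom.comp (QuotientGroup.mk' _),
      e.surjective.comp (QuotientGroup.mk'_surjective _)⟩

theorem HasSection.mono {H H' : Subgroup G} {T : Type*} [Group T] (h : HasSection H T)
    (hle : H ≤ H') : HasSection H' T := by
  obtain ⟨K, hK, h⟩ := h
  exact ⟨K, hK.trans hle, h⟩

theorem HasSection.of_map {G' : Type*} [Group G'] (f : G →* G') {H : Subgroup G} {T : Type*}
    [Group T] (h : HasSection (H.map f) T) : HasSection H T := by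
  obtain ⟨K, hK, φ, hφ⟩ := h
  refine ⟨K.comap f ⊓ H, inf_le_right, φ.comp ((f.comp (Subgroup.subtype _)).codRestrict K
    fun x => x.2.1), hφ.comp fun y => ?_⟩
  obtain ⟨x, hx, e⟩ := hK y.2
  exact ⟨⟨x, by rw [mem_inf, mem_comap, e]; exact ⟨y.2, hx⟩⟩, Subtype.ext e⟩

theorem HasSection.map_inj {G' : Type*} [Group G'] {f : G →* G'} (hf : Function.Injective f)
    {H : Subgroup G} {T : Type*} [Group T] (h : HasSection H T) : HasSection (H.map f) T := by
  obtain ⟨K, hK, φ, hφ⟩ := h
  exact ⟨K.map f, map_mono hK, φ.comp (K.equivMapOfInjective f hf).symm.toMonoidHom,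
    hφ.comp (K.equivMapOfInjective f hf).symm.surjective⟩

theorem HasSection.of_surj {H : Subgroup G} {T T' : Type*} [Group T] [Group T']
    (h : HasSection H T) {ψ : T →* T'} (hψ : Function.Surjective ψ) : HasSection H T' := by
  obtain ⟨K, hK, φ, hφ⟩ := h
  exact ⟨K, hK, ψ.comp φ, hψ.comp hφ⟩

theorem hasSection_of_le_range {H : Subgroup G} {T : Type*} [Group T] (φ : H →* T)
    {L : Subgroup T} (h : L ≤ φ.range) : HasSection H L := by
  have h1 : HasSection (φ.range) L :=
    ⟨L, h, MonoidHom.id _, Function.surjective_id⟩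
  rw [MonoidHom.range_eq_map] at h1
  have := (h1.of_map φ).map_inj H.subtype_injective
  rwa [map_top_subtype'] at this

theorem HasSection.trans {H : Subgroup G} {T T' : Type*} [Group T] [Group T']
    (h : HasSection H T) (h' : HasSection (⊤ : Subgroup T) T') : HasSection H T' := by
  obtain ⟨K, hK, φ, hφ⟩ := h
  rw [← map_top_of_surjective φ hφ] at h'
  have := (h'.of_map φ).map_inj K.subtype_injective
  rw [map_top_subtype'] at this
  exact this.mono hK

/-- all `2`-subgroups of `H` are abelian -/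
def AbSyl2 (H : Subgroup G) : Prop := ∀ T ≤ H, IsPGroup 2 T → IsMulCommutative T

theorem AbSyl2.mono {H K : Subgroup G} (h : AbSyl2 K) (hle : H ≤ K) : AbSyl2 H :=
  fun T hT => h T (hT.trans hle)

theorem AbSyl2.map [Finite G] {G' : Type*} [Group G'] (f : G →* G') {H : Subgroup G}
    (h : AbSyl2 H) : AbSyl2 (H.map f) := fun T hT h2 => by
  obtain ⟨T', h3, h4, rfl⟩ := exists_isPGroup_map_eq f h2 hT
  exact isEA_zero_iff.1 (isEA_map f (isEA_zero_iff.2 (h T' h3 h4)))

theorem AbSyl2.comap {G' : Type*} [Group G'] {f : G' →* G} (hf : Function.Injective f)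
    {H : Subgroup G} (h : AbSyl2 H) : AbSyl2 (H.comap f) := fun T hT h2 =>
  isEA_zero_iff.1 ((isEA_map_iff hf).1 (isEA_zero_iff.2
    (h _ (map_le_iff_le_comap.2 hT) (h2.map f))))

theorem abSyl2_of_isSylowOf [Finite G] {H T : Subgroup G} (hT : IsSylowOf 2 T H)
    (h : IsMulCommutative T) : AbSyl2 H := fun U hU h2 => by
  obtain ⟨g, -, hg⟩ := hT.exists_cj_le h2 hU
  rw [← cj_inv_cj g U]
  exact isMulCommutative_cj _ (isMulCommutative_of_le h hg)

theorem abSyl2_of_sylow [Finite G] {H : Subgroup G} (T : Sylow 2 H) (h : IsMulCommutative T) :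
    AbSyl2 H :=
  abSyl2_of_isSylowOf (isSylowOf_map_subtype T)
    (isEA_zero_iff.1 (isEA_map _ (isEA_zero_iff.2 h)))

theorem range_eq_closure_pair {H : Subgroup G} {a b : H}
    (hH : H = Subgroup.closure {(a : G), (b : G)}) {T : Type*} [Group T] (φ : H →* T) :
    φ.range = Subgroup.closure {φ a, φ b} := by
  rw [MonoidHom.range_eq_map, ← closure_pair_eq_top hH, MonoidHom.map_closure, Set.image_pair]

theorem not_abSyl2_of_quad [Finite G] [Fact p.Prime] (hp : p ≠ 2) {V : Subgroup G}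
    (hV : IsElementaryAbelian p V) {a b : G}
    (hHV : Subgroup.closure {a, b} ≤ normalizer (V : Set G))
    (ha : ⁅⁅V, zpowers a⁆, zpowers a⁆ = ⊥) (hb : ⁅⁅V, zpowers b⁆, zpowers b⁆ = ⊥)
    (hnp : ¬ pResOf p (Subgroup.closure {a, b}) ≤ centralizer (V : Set G)) :
    ¬ AbSyl2 (Subgroup.closure {a, b}) := fun hab => by
  set H := Subgroup.closure {a, b} with hH
  let a' : H := ⟨a, subset_closure (by simp)⟩
  let b' : H := ⟨b, subset_closure (by simp)⟩
  obtain ⟨m, ν, φ, -, hν, h1, h2, -⟩ := exists_SL2_of_quad hV hHV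
    (a := a') (b := b') hH ha hb hnp
  have h4 : AbSyl2 (⊤ : Subgroup H) := (hab.comap H.subtype_injective).mono fun x _ => x.2
  have h3 := h4.map φ
  rw [← MonoidHom.range_eq_map, range_eq_closure_pair (a := a') (b := b') hH, h1, h2] at h3
  obtain ⟨T, hT⟩ := exists_isSylowOf (p := 2) (Subgroup.closure {upT ν, loT (1 : GaloisField p m)})
  exact not_comm_sylow_two hp hν one_ne_zero hT (h3 T hT.le hT.isP)

theorem quad_conj {V : Subgroup G} {a h : G} (hh : h ∈ normalizer (V : Set G))
    (ha : ⁅⁅V, zpowers a⁆, zpowers a⁆ = ⊥) :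
    ⁅⁅V, zpowers (h * a * h⁻¹)⁆, zpowers (h * a * h⁻¹)⁆ = ⊥ := by
  rw [← cj_zpowers, ← cj_eq_self_iff.2 hh, ← cj_commutator, ← cj_commutator, ha, cj_bot]

theorem pow_mem_centralizer_of_quad {V : Subgroup G} (hV : IsElementaryAbelian p V) {a : G}
    (haV : a ∈ normalizer (V : Set G)) (hq : ⁅⁅V, zpowers a⁆, zpowers a⁆ = ⊥) :
    a ^ p ∈ centralizer (V : Set G) := fun v hv => by
  have h1 : ⁅a, v⁆ ∈ ⁅V, zpowers a⁆ := by
    rw [commutator_comm]; exact commutator_mem_commutator (mem_zpowers a) hv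
  have := commutatorElement_pow_left (commute_of_commutator_eq_bot hq h1 (mem_zpowers a)) p
  rw [hV.2 _ (commutator_le_left' (zpowers_le.2 haV) h1)] at this
  exact (commutatorElement_eq_one_iff_mul_comm.1 this).symm

theorem exists_conj_of_not_inOp [Finite G] [Fact p.Prime] {H C : Subgroup G}
    (hC : H ≤ normalizer (C : Set G)) {a : G} (ha : a ∈ H) (h : ¬ InOp p (zpowers a) H C) :
    ∃ g ∈ H, ¬ pResOf p (Subgroup.closure {a, g * a * g⁻¹}) ≤ C := by
  by_contra hcon
  push Not at hcon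
  have := normal_subgroupOf_of_le_normalizer hC
  refine h ((inOp_iff_subgroupOf (zpowers_le.2 ha)).1 ?_)
  set π := QuotientGroup.mk' (C.subgroupOf H) with hπ
  have h1 := H9.baer_suzuki (p := p) (x := π ⟨a, ha⟩) fun g => by
    obtain ⟨g, rfl⟩ := QuotientGroup.mk'_surjective _ g
    rw [← map_inv, ← map_mul, ← map_mul, ← Set.image_pair, ← MonoidHom.map_closure,
      ← pResOf_eq_bot_iff, ← map_pResOf, Subgroup.map_eq_bot_iff, QuotientGroup.ker_mk',
      subgroupOf, ← map_le_iff_le_comap, map_pResOf, MonoidHom.map_closure, Set.image_pair]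
    exact hcon g g.2
  rintro _ ⟨x, ⟨k, hk⟩, rfl⟩
  have : x = (⟨a, ha⟩ : H) ^ k := Subtype.ext hk.symm
  rw [this, map_zpow]
  exact zpow_mem (le_pCore inferInstance h1 (subset_normalClosure rfl)) k

theorem stabOn_of_abSyl2 [Finite G] [Fact p.Prime] (hp : p ≠ 2) {H V : Subgroup G}
    (hab : AbSyl2 H) (hV : IsElementaryAbelian p V) (hHV : H ≤ normalizer (V : Set G)) :
    StabOn p H V := stabOn_of_forall hHV fun a ha hq => by
  by_contra h
  obtain ⟨g, hg, h2⟩ := exists_conj_of_not_inOp (le_normalizer_centralizer hHV) ha h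
  have hle : Subgroup.closure {a, g * a * g⁻¹} ≤ H := (closure_le _).2 (by
    rintro x (rfl | rfl)
    · exact ha
    · exact conj_mem_of_mem_normalizer (le_normalizer hg) ha)
  exact not_abSyl2_of_quad hp hV (hle.trans hHV) hq (quad_conj (hHV hg) hq) h2 (hab.mono hle)

theorem three_of_rgroup [Finite G] [Fact p.Prime] (hp : p ≠ 2) {V R D : Subgroup G}
    (hV : IsElementaryAbelian p V) {a x : G} (haV : a ∈ normalizer (V : Set G))
    (hxV : x ∈ normalizer (V : Set G)) (hq : ⁅⁅V, zpowers a⁆, zpowers a⁆ = ⊥) {r : ℕ}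
    [Fact r.Prime] (hrp : r ≠ p) (haR : a ∈ normalizer (R : Set G)) (hxR : x ∈ R)
    (haD : a ∈ normalizer (D : Set G)) (hxD : x ∈ normalizer (D : Set G))
    (hD : pResOf p D ≤ centralizer (V : Set G)) (hRD : ∀ y ∈ R, ∃ k, y ^ r ^ k ∈ D)
    (hnp : ¬ pResOf p (Subgroup.closure {a, x * a * x⁻¹}) ≤ centralizer (V : Set G)) :
    p = 3 ∧ HasSection (Subgroup.closure {a, x * a * x⁻¹}) SL(2, ZMod 3) := by
  have hle : ∀ N : Subgroup G, a ∈ N → x ∈ N → Subgroup.closure {a, x * a * x⁻¹} ≤ N :=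
    fun N h1 h2 => (closure_le _).2 (by
      rintro y (rfl | rfl)
      · exact h1
      · exact mul_mem (mul_mem h2 h1) (inv_mem h2))
  set H := Subgroup.closure {a, x * a * x⁻¹} with hH
  let a' : H := ⟨a, subset_closure (by simp)⟩
  let b' : H := ⟨x * a * x⁻¹, subset_closure (by simp)⟩
  obtain ⟨m, ν, φ, -, hν, h1, h2, h3, -⟩ := exists_SL2_of_quad hV (hle _ haV hxV)
    (a := a') (b := b') rfl hq (quad_conj hxV hq) hnp
  have hDn : (D.subgroupOf H).Normal := normal_subgroupOf_of_le_normalizer (hle _ haD hxD)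
  have hD0 : (D.subgroupOf H).map φ = ⊥ := by
    refine eq_bot_of_normalized hp hν one_ne_zero ?_ (h1 ▸ le_normalizer_map' φ le_normalizer_of_normal
      (mem_map_of_mem φ (mem_top a'))) (h2 ▸ le_normalizer_map' φ le_normalizer_of_normal
      (mem_map_of_mem φ (mem_top b')))
    rw [← pResOf_eq_bot_iff, ← map_pResOf, Subgroup.map_eq_bot_iff]
    intro y hy
    exact h3 y (hD (pResOf_mono ((subgroupOf_map_subtype D H).le.trans inf_le_left)
      (map_pResOf_le H.subtype _ (mem_map_of_mem _ hy))))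
  have hR : IsPGroup r ((R.subgroupOf H).map φ) := isPGroup_iff_forall.2 (by
    rintro _ ⟨y, hy, rfl⟩
    obtain ⟨k, hk⟩ := hRD y hy
    refine ⟨k, ?_⟩
    rw [← map_pow, ← mem_bot, ← hD0]
    exact mem_map_of_mem φ hk)
  have hy : ∀ n : ℕ, φ a' ^ n * (φ b' ^ n)⁻¹ ∈ (R.subgroupOf H).map φ := fun n => by
    rw [← map_pow, ← map_pow, ← map_inv, ← map_mul]
    refine mem_map_of_mem φ (mem_subgroupOf.2 ?_)
    have := mul_mem (conj_mem_of_mem_normalizer (pow_mem haR n) hxR) (inv_mem hxR)
    simp only [a', b', coe_mul, coe_inv, coe_pow, conj_pow]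
    convert this using 1; group
  have haR' : φ a' ∈ normalizer (((R.subgroupOf H).map φ : Subgroup _) : Set _) :=
    le_normalizer_map' φ (le_normalizer_comap H.subtype) (mem_map_of_mem φ (mem_comap.2 haR))
  have y1 := hy 1
  have y2 := hy 2
  rw [h1] at haR'
  rw [h1, h2] at y1 y2
  rw [pow_one, pow_one] at y1
  obtain ⟨rfl, hν1⟩ := three_of_normalized hp hrp hν hR haR' y1 y2
  refine ⟨rfl, ?_⟩
  obtain ⟨e⟩ := nonempty_equiv_closure_zmod (K := GaloisField 3 m) (p := 3) (a := -1) (b := 1)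
    (neg_ne_zero.2 one_ne_zero) one_ne_zero
  refine (hasSection_of_le_range φ ?_).of_surj (ψ := e.toMonoidHom) e.surjective
  rw [range_eq_closure_pair (a := a') (b := b') rfl, h1, h2, hν1, map_neg, map_one]

theorem exists_rgroup_not_centralized [Finite G] {Q : Subgroup G} {a : G}
    (ha : a ∈ normalizer (Q : Set G)) (hc : (orderOf a).Coprime (Nat.card Q))
    (h : a ∉ centralizer (Q : Set G)) : ∃ r : ℕ, r.Prime ∧ r ∣ Nat.card Q ∧ ∃ R ≤ Q, IsPGroup r R ∧
      a ∈ normalizer (R : Set G) ∧ ∃ x ∈ R, ⁅a, x⁆ ≠ 1 := by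
  by_contra hcon
  push Not at hcon
  refine h (le_centralizer_iff.1 (show Q ≤ centralizer (zpowers a : Set G) from
    Core.le_of_forall_not_dvd_relIndex fun r hr hd => ?_) (mem_zpowers a))
  have := Fact.mk hr
  obtain ⟨R, ⟨h1, h2, h3⟩, h4⟩ := Core.exists_invariant_isSylowIn (zpowers_le.2 ha)
    (by rwa [Nat.card_zpowers]) (Or.inl inferInstance) r
  refine h3 (hd.trans (relIndex_dvd_of_le_left _ fun x hx => ?_))
  rw [centralizer_zpowers, mem_centralizer_singleton_iff]
  exact (commutatorElement_eq_one_iff_mul_comm.1 (hcon r hr (hd.trans (relIndex_dvd_card _ _)) R h1 h2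
    (h4 (mem_zpowers a)) x hx)).symm

theorem three_of_not_inOp [Finite G] [hp' : Fact p.Prime] (hp : p ≠ 2) {H V : Subgroup G}
    (hs : IsPSolvable p H) (hV : IsElementaryAbelian p V) (hHV : H ≤ normalizer (V : Set G))
    {a : G} (ha : a ∈ H) (hq : ⁅⁅V, zpowers a⁆, zpowers a⁆ = ⊥)
    (h : ¬ InOp p (zpowers a) H (centralizer (V : Set G))) :
    p = 3 ∧ HasSection H SL(2, ZMod 3) := by
  have := normal_subgroupOf_of_le_normalizer (le_normalizer_centralizer hHV)
  set D := (pCore p (H ⧸ (centralizer (V : Set G)).subgroupOf H)).comap (QuotientGroup.mk' _) with hD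
  have hDi : InOp p D ⊤ ((centralizer (V : Set G)).subgroupOf H) := inOp_top_iff.2 le_rfl
  have hCD : (centralizer (V : Set G)).subgroupOf H ≤ D := fun x hx => by
    rw [hD, mem_comap, QuotientGroup.mk'_apply, (QuotientGroup.eq_one_iff x).2 hx]; exact one_mem _
  have hDC : pResOf p D ≤ (centralizer (V : Set G)).subgroupOf H := by
    obtain ⟨E, h1, -, -, h2⟩ := hDi
    exact (pResOf_mono h1).trans h2
  set π := QuotientGroup.mk' D with hπ
  have hO : pCore p (H ⧸ D) = ⊥ := pCore_quotient_comap (QuotientGroup.mk'_surjective _) hD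
  have hc := centralizer_pPrimeCore_le_of_isPSolvable (isPSolvable_quotient hs D) hO
  let a' : H := ⟨a, ha⟩
  have ha1 : π a' ≠ 1 := fun h1 => h (by
    rw [← inOp_subgroupOf_iff (zpowers_le.2 ha)]
    refine hDi.mono ?_ le_rfl
    rintro x ⟨k, hk⟩
    rw [show x = a' ^ k from Subtype.ext hk.symm]
    exact zpow_mem ((QuotientGroup.eq_one_iff _).1 h1) k)
  have hap : π a' ^ p = 1 := by
    rw [← map_pow]
    exact (QuotientGroup.eq_one_iff _).2 (hCD (pow_mem_centralizer_of_quad hV (hHV ha) hq))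
  have hP : IsPGroup p (zpowers (π a')) := isPGroup_zpowers (k := 1) (by rwa [pow_one])
  obtain ⟨r, hr, hrd, R, hRQ, hR, haR, x, hx, hax⟩ := exists_rgroup_not_centralized
    (Q := pPrimeCore p (H ⧸ D)) (a := π a') (mem_normalizer_of_normal _ _)
    (by rw [← Nat.card_zpowers]; exact coprime_card_card hP pPrimeCore_coprime)
    fun h1 => ha1 (eq_one_of_isPGroup_of_coprime hP (mem_zpowers _)
      (coprime_orderOf_of_mem pPrimeCore_coprime (hc h1)))
  have := Fact.mk hr
  have hrp : r ≠ p := fun h1 => hp'.out.one_lt.ne' ((pPrimeCore_coprime (p := p)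
    (G := H ⧸ D)).symm.eq_one_of_dvd (h1 ▸ hrd))
  obtain ⟨x, rfl⟩ := QuotientGroup.mk'_surjective D x
  obtain ⟨h1, h2⟩ := three_of_rgroup hp hV (hHV ha) (hHV x.2) hq hrp (R := (R.comap π).map H.subtype)
    (D := D.map H.subtype)
    (le_normalizer_map' _ (le_normalizer_comap π) (mem_map_of_mem H.subtype (mem_comap.2 haR)))
    (mem_map_of_mem _ hx) (le_normalizer_map_subtype D ha) (le_normalizer_map_subtype D x.2)
    (by rw [← map_pResOf, map_le_iff_le_comap]; exact hDC) (by
      rintro _ ⟨y, hy, rfl⟩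
      obtain ⟨k, hk⟩ := isPGroup_iff_forall.1 hR _ hy
      rw [← map_pow] at hk
      exact ⟨k, mem_map_of_mem H.subtype ((QuotientGroup.eq_one_iff _).1 hk)⟩) (fun hle => by
      have e : Subgroup.closure {a, x * a * (x : G)⁻¹} =
          (Subgroup.closure {a', x * a' * x⁻¹}).map H.subtype := by
        rw [MonoidHom.map_closure, Set.image_pair]; rfl
      rw [e, ← map_pResOf, map_le_iff_le_comap] at hle
      have h3 : IsPGroup p ((Subgroup.closure {a', x * a' * x⁻¹}).map π) := by
        rw [← pResOf_eq_bot_iff, ← map_pResOf, Subgroup.map_eq_bot_iff, QuotientGroup.ker_mk']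
        exact hle.trans hCD
      refine hax (eq_one_of_isPGroup_of_coprime h3 ?_ (coprime_orderOf_of_isPGroup hrp hR
        (mul_mem (conj_mem_of_mem_normalizer haR hx) (inv_mem hx))))
      rw [← map_commutatorElement]
      refine mem_map_of_mem π ?_
      have : ⁅a', x⁆ = a' * (x * a' * x⁻¹)⁻¹ := by rw [commutatorElement_def]; group
      rw [this]
      exact mul_mem (subset_closure (by simp)) (inv_mem (subset_closure (by simp))))
  refine ⟨h1, h2.mono ((closure_le _).2 ?_)⟩
  rintro y (rfl | rfl)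
  · exact ha
  · exact mul_mem (mul_mem x.2 ha) (inv_mem x.2)

theorem stabOn_of_isPSolvable [Finite G] [Fact p.Prime] (hp : p ≠ 2) {H V : Subgroup G}
    (hs : IsPSolvable p H) (h3 : p = 3 → ¬ HasSection H SL(2, ZMod 3))
    (hV : IsElementaryAbelian p V) (hHV : H ≤ normalizer (V : Set G)) : StabOn p H V :=
  stabOn_of_forall hHV fun a ha hq => by
    by_contra h
    obtain ⟨h1, h2⟩ := three_of_not_inOp hp hs hV hHV ha hq h
    exact h3 h1 h2

theorem isEA_map_mk_frattini [Finite G] [Fact p.Prime] {B : Subgroup G} (hB : IsPGroup p B)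
    {N : Subgroup G} [N.Normal] (hN : frattiniOf B ≤ N) :
    IsElementaryAbelian p (B.map (QuotientGroup.mk' N)) := by
  refine ⟨isMulCommutative_of_commutator ?_, ?_⟩
  · rw [← map_commutator, Subgroup.map_eq_bot_iff, QuotientGroup.ker_mk']
    exact (commutator_le_frattiniOf hB).trans hN
  · rintro _ ⟨x, hx, rfl⟩
    rw [← map_pow]
    exact (QuotientGroup.eq_one_iff _).2 (hN (pow_mem_frattiniOf hB hx))

theorem inOp_sectionKernel [Finite G] [Fact p.Prime] {B N A : Subgroup G} [N.Normal]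
    (hst : StabOn p ⊤ (B.map (QuotientGroup.mk' N))) (hq : ⁅⁅B, A⁆, A⁆ ≤ N) :
    InOp p A ⊤ (sectionKernel B N) := by
  have := hst (A.map (QuotientGroup.mk' N)) le_top (by
    rwa [← map_commutator, ← map_commutator, Subgroup.map_eq_bot_iff, QuotientGroup.ker_mk'])
  rw [← map_top_of_surjective _ (QuotientGroup.mk'_surjective N)] at this
  exact (InOp.comap _ le_top this).mono le_rfl inf_le_left

theorem frattiniOf_normal [Finite G] (B : Subgroup G) [B.Normal] : (frattiniOf B).Normal :=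
  normal_of_forall_mem_normalizer fun g =>
    normalizer_le_normalizer_frattiniOf B (mem_normalizer_of_normal B g)

theorem mem_centralizer_of_commutator_le_frattiniOf [Finite G] [Fact p.Prime] {B : Subgroup G}
    (hB : IsPGroup p B) {x : G} (hx : x ∈ normalizer (B : Set G)) (ho : (orderOf x).Coprime p)
    (h : ∀ k ∈ B, ⁅k, x⁆ ∈ frattiniOf B) : x ∈ centralizer (B : Set G) :=
  Core.le_centralizer_of_commutator_le_frattini (zpowers_le.2 hx)
    (by rw [Nat.card_zpowers]; exact coprime_card_of_isPGroup (hB.to_subgroup _) ho)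
    (commutator_zpowers_right_le (normalizer_le_normalizer_frattiniOf B hx) h) (mem_zpowers x)

theorem InOp.of_coprime {A N C C' : Subgroup G} (h : InOp p A N C)
    (hC : ∀ x ∈ C, x ∈ N → (orderOf x).Coprime p → x ∈ C') : InOp p A N C' := by
  obtain ⟨D, h1, h2, h3, h4⟩ := h
  exact ⟨D, h1, h2, h3, pResOf_le_iff.2 fun x hx ho => hC x (h4 (mem_pResOf hx ho)) (h2 hx) ho⟩

theorem stabN_of [Finite G] [Fact p.Prime] (h : ∀ (N : Subgroup G) [N.Normal]
    (V : Subgroup (G ⧸ N)), V.Normal → IsElementaryAbelian p V → StabOn p ⊤ V) : StabN p G := by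
  intro A B _ hB hn hq
  have := frattiniOf_normal B
  refine (inOp_sectionKernel (h (frattiniOf B) _ (Normal.map hn _ (QuotientGroup.mk'_surjective _))
    (isEA_map_mk_frattini hB le_rfl)) (hq.le.trans bot_le)).of_coprime fun x hx _ ho => ?_
  exact mem_centralizer_of_commutator_le_frattiniOf hB (mem_normalizer_of_normal _ _) ho
    (sectionKernel_eq_ker_aux.1 hx)

theorem stabN_of_abSyl2 [Finite G] [Fact p.Prime] (hp : p ≠ 2) (h : AbSyl2 (⊤ : Subgroup G)) :
    StabN p G := stabN_of fun N _ V _ hV => stabOn_of_abSyl2 hp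
  (map_top_of_surjective _ (QuotientGroup.mk'_surjective N) ▸ h.map _) hV le_normalizer_of_normal

end

section

variable {G : Type u} [Group G]

theorem isActionPStable_of [Finite G] [Fact p.Prime]
    (h1 : ∀ (N : Subgroup G) [N.Normal] (V : Subgroup (G ⧸ N)), V.Normal →
      IsElementaryAbelian p V → StabOn p ⊤ V)
    (h2 : ∀ H V : Subgroup G, IsElementaryAbelian p V → H ≤ normalizer (V : Set G) → StabOn p H V) :
    IsActionPStable p G :=
  isActionPStable_iff.2 ⟨fun V _ hV => h2 ⊤ V hV le_normalizer_of_normal,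
    isPStableOnSection_iff.2 fun _ hq => inOp_sectionKernel (h1 _ _
      (Normal.map inferInstance _ (QuotientGroup.mk'_surjective _))
      (isEA_map_mk_frattini pCore_isPGroup le_rfl)) hq,
    fun S _ V hV hn => h2 _ V (isEA_of_le (isEA_ZJOf S) hV) hn⟩

theorem isActionPStable_of_abSyl2 [Finite G] [Fact p.Prime] (hp : p ≠ 2)
    (h : AbSyl2 (⊤ : Subgroup G)) : IsActionPStable p G :=
  isActionPStable_of (fun N _ V _ hV => stabOn_of_abSyl2 hp
    (map_top_of_surjective _ (QuotientGroup.mk'_surjective N) ▸ h.map _) hV le_normalizer_of_normal)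
    fun _ _ hV hn => stabOn_of_abSyl2 hp (h.mono le_top) hV hn

theorem isActionPStable_of_isPSolvable [Finite G] [Fact p.Prime] (hp : 5 ≤ p)
    (h : IsPSolvable p G) : IsActionPStable p G :=
  isActionPStable_of (fun N _ _ _ hV => stabOn_of_isPSolvable (by omega)
    (isPSolvable_subgroup (isPSolvable_quotient h N) _) (by omega) hV le_normalizer_of_normal)
    fun _ _ hV hn => stabOn_of_isPSolvable (by omega) (isPSolvable_subgroup h _) (by omega) hV hn

end

end Cfsg.Agent.PLoc
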