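import Cfsg.Agent.PLoc.PStable

/-!
Offenders, Timmesfeld replacement, Thompson factorization and the subgroup `W(S)`.
-/

set_option autoImplicit false

namespace Cfsg.Agent.PLoc

open Subgroup
open scoped commutatorElement Pointwise

variable {G : Type*} [Group G] {p e : ℕ}

theorem subgroup_induction_zpowers [Finite G] {Q : Subgroup G → Prop} {V : Subgroup G} (h0 : Q ⊥)
    (h : ∀ U ≤ V, ∀ u ∈ V, Q U → Q (U ⊔ zpowers u)) : ∀ U ≤ V, Q U := by
  intro U hU
  obtain ⟨W, ⟨h1, h2⟩, hmax⟩ := Set.exists_max_image {W | W ≤ U ∧ Q W} (fun W => Nat.card W)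
    (Set.toFinite _) ⟨⊥, bot_le, h0⟩
  by_cases he : W = U
  · exact he ▸ h2
  obtain ⟨u, hu, huW⟩ := SetLike.exists_of_lt (lt_of_le_of_ne h1 he)
  have := hmax _ ⟨sup_le h1 (zpowers_le.2 hu), h W (h1.trans hU) u (hU hu) h2⟩
  exact absurd (card_lt_of_lt (lt_of_le_of_ne le_sup_left fun he' =>
    huW (he'.ge (mem_sup_right (mem_zpowers u))))) (not_lt.2 this)

theorem le_normalizer_of_comm {V U : Subgroup G} (hV : IsMulCommutative V) (h : U ≤ V) :
    V ≤ normalizer (U : Set G) :=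
  ((le_centralizer_self hV).trans (centralizer_anti h)).trans (centralizer_le_normalizer _)

theorem commutator_sup_left_eq {V A U₁ U₂ : Subgroup G} (hV : IsMulCommutative V)
    (hA : A ≤ normalizer (V : Set G)) (h1 : U₁ ≤ V) (h2 : U₂ ≤ V) :
    ⁅U₁ ⊔ U₂, A⁆ = ⁅U₁, A⁆ ⊔ ⁅U₂, A⁆ := by
  have h : ⁅U₁, A⁆ ⊔ ⁅U₂, A⁆ ≤ V := sup_le ((commutator_mono h1 le_rfl).trans (commutator_le_left' hA))
    ((commutator_mono h2 le_rfl).trans (commutator_le_left' hA))
  exact le_antisymm (commutator_sup_left_le (h1.trans (le_normalizer_of_comm hV h))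
    (h2.trans (le_normalizer_of_comm hV h)) le_sup_left le_sup_right)
    (sup_le (commutator_mono le_sup_left le_rfl) (commutator_mono le_sup_right le_rfl))

theorem commutator_le_of_le_sup_centralizer {V W A B : Subgroup G} (hW : W ≤ V)
    (hA : A ≤ normalizer (V : Set G)) (hB : B ≤ A ⊔ centralizer (V : Set G)) : ⁅W, B⁆ ≤ ⁅W, A⁆ := by
  have h1 : ⁅W, A⁆ ≤ V := (commutator_mono hW le_rfl).trans (commutator_le_left' hA)
  refine (commutator_mono le_rfl hB).trans (commutator_sup_right_le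
    (normalizer_commutator_ge_right _ _) ((centralizer_anti h1).trans (centralizer_le_normalizer _))
    le_rfl ?_)
  rw [commutator_eq_bot_iff_le_centralizer.2 (le_centralizer_iff.1 (centralizer_anti hW))]
  exact bot_le

theorem quad_of_le_sup_centralizer {V A B : Subgroup G} (hA : A ≤ normalizer (V : Set G))
    (hB : B ≤ A ⊔ centralizer (V : Set G)) (hq : ⁅⁅V, A⁆, A⁆ = ⊥) : ⁅⁅V, B⁆, B⁆ = ⊥ :=
  eq_bot_iff.2 (((commutator_mono (commutator_le_of_le_sup_centralizer le_rfl hA hB) le_rfl).trans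
    (commutator_le_of_le_sup_centralizer (commutator_le_left' hA) hA hB)).trans hq.le)

theorem commutator_lt_of_pResOf_le [Finite G] [Fact p.Prime] {V W A : Subgroup G}
    (hV : IsPGroup p V) (hA : A ≤ normalizer (V : Set G)) (hW : W ≤ V)
    (hAW : A ≤ normalizer (W : Set G)) (h : pResOf p A ≤ centralizer (V : Set G)) (hne : W ≠ ⊥) :
    ⁅W, A⁆ < W := by
  obtain ⟨P, hP⟩ := exists_isSylowOf (p := p) A
  refine (commutator_le_of_le_sup_centralizer hW (hP.le.trans hA) ?_).trans_lt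
    (Core.commutator_lt_of_isPGroup (hV.to_le hW) hP.isP (hP.le.trans hAW) hne)
  rw [← hP.sup_pResOf]
  exact sup_le_sup_left h _

theorem pResOf_le_of_pow {A C : Subgroup G} (h : ∀ a ∈ A, a ^ p ∈ C) : pResOf p A ≤ C :=
  pResOf_le_iff.2 fun x hx ho => mem_of_pow_mem_of_coprime (h x hx) ho

theorem quad_iff {V : Subgroup G} {a : G} :
    ⁅⁅V, zpowers a⁆, zpowers a⁆ = ⊥ ↔ ∀ v ∈ V, ⁅v, a⁆ * a = a * ⁅v, a⁆ := by
  constructor
  · intro h v hv
    exact commute_of_commutator_eq_bot h (commutator_mem_commutator hv (mem_zpowers a)) (mem_zpowers a)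
  · intro h
    refine commutator_eq_bot_iff_le_centralizer.2 (commutator_zpowers_right_le
      (le_normalizer (le_centralizer_self inferInstance (mem_zpowers a))) fun v hv => ?_)
    rw [centralizer_zpowers, mem_centralizer_singleton_iff]
    exact h v hv

/-- the map `v ↦ [v, a]` on an abelian group -/
def cmHom {V : Subgroup G} (hV : IsMulCommutative V) {a : G} (ha : a ∈ normalizer (V : Set G)) :
    V →* G :=
  MonoidHom.mk' (fun v => ⁅(v : G), a⁆) fun u v => by
    have h1 : ⁅(v : G), a⁆ ∈ V := commutator_le_left' (zpowers_le.2 ha)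
      (commutator_mem_commutator v.2 (mem_zpowers a))
    have h2 : ⁅(u : G), a⁆ ∈ V := commutator_le_left' (zpowers_le.2 ha)
      (commutator_mem_commutator u.2 (mem_zpowers a))
    rw [coe_mul, commutatorElement_mul_left', comm_of_mem hV u.2 h1, mul_inv_cancel_right,
      comm_of_mem hV h1 h2]

theorem cmHom_apply {V : Subgroup G} (hV : IsMulCommutative V) {a : G}
    (ha : a ∈ normalizer (V : Set G)) (v : V) : cmHom hV ha v = ⁅(v : G), a⁆ := rfl

theorem cmHom_ker {V : Subgroup G} (hV : IsMulCommutative V) {a : G}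
    (ha : a ∈ normalizer (V : Set G)) :
    (cmHom hV ha).ker = (V ⊓ centralizer (zpowers a : Set G)).subgroupOf V := by
  ext v
  rw [MonoidHom.mem_ker, cmHom_apply, mem_subgroupOf, mem_inf, centralizer_zpowers,
    mem_centralizer_singleton_iff, commutatorElement_eq_one_iff_mul_comm]
  exact ⟨fun h => ⟨v.2, h⟩, fun h => h.2⟩

theorem cmHom_range [Finite G] {V : Subgroup G} (hV : IsMulCommutative V) {a : G}
    (ha : a ∈ normalizer (V : Set G)) : (cmHom hV ha).range = ⁅V, zpowers a⁆ := by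
  refine le_antisymm ?_ (commutator_zpowers_right_le (mem_normalizer_of_conj_mem ?_)
    fun v hv => ⟨⟨v, hv⟩, rfl⟩)
  · rintro _ ⟨v, rfl⟩
    exact commutator_mem_commutator v.2 (mem_zpowers a)
  · rintro _ ⟨v, rfl⟩
    refine ⟨⟨_, conj_mem_of_mem_normalizer ha v.2⟩, ?_⟩
    simp only [cmHom_apply, commutatorElement_def]; group

theorem exists_eq_commutatorElement [Finite G] {V : Subgroup G} (hV : IsMulCommutative V) {a : G}
    (ha : a ∈ normalizer (V : Set G)) {x : G} (hx : x ∈ ⁅V, zpowers a⁆) : ∃ v ∈ V, ⁅v, a⁆ = x := by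
  rw [← cmHom_range hV ha] at hx
  obtain ⟨v, rfl⟩ := hx
  exact ⟨v, v.2, rfl⟩

theorem card_commutator_zpowers [Finite G] {V : Subgroup G} (hV : IsMulCommutative V) {a : G}
    (ha : a ∈ normalizer (V : Set G)) : Nat.card ↥⁅V, zpowers a⁆ =
      (V ⊓ centralizer (zpowers a : Set G)).relIndex V := by
  rw [← cmHom_range hV ha, ← index_ker, cmHom_ker, relIndex]

theorem card_centralizer_mul_card_commutator [Finite G] {V : Subgroup G} (hV : IsMulCommutative V)
    {a : G} (ha : a ∈ normalizer (V : Set G)) :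
    Nat.card (V ⊓ centralizer (zpowers a : Set G) : Subgroup G) * Nat.card ↥⁅V, zpowers a⁆ =
      Nat.card V := by
  rw [card_commutator_zpowers hV ha, card_mul_relIndex inf_le_left]

/-! ### Timmesfeld replacement -/

/-- the measure `|B| |C_V(B)|` -/
noncomputable def offM (V B : Subgroup G) : ℕ :=
  Nat.card B * Nat.card (V ⊓ centralizer (B : Set G) : Subgroup G)

theorem timm_cyclic [Finite G] {V A : Subgroup G} (hV : IsMulCommutative V)
    (hAV : A ≤ normalizer (V : Set G)) (hab : ⁅A, A⁆ ≤ centralizer (V : Set G)) {u : G} (hu : u ∈ V) :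
    offM V A ≤ Nat.card (A ⊓ centralizer ((⁅zpowers u, A⁆ : Subgroup G) : Set G) : Subgroup G) *
      Nat.card (⁅zpowers u, A⁆ ⊔ (V ⊓ centralizer (A : Set G)) : Subgroup G) := by
  set X := ⁅zpowers u, A⁆ with hX
  set Y := V ⊓ centralizer (A : Set G) with hY
  set B := A ⊓ centralizer (X : Set G) with hB
  rw [offM, ← card_mul_relIndex (inf_le_left : B ≤ A), ← card_mul_relIndex (le_sup_right : Y ≤ X ⊔ Y),
    mul_assoc, mul_comm (B.relIndex A)]
  refine Nat.mul_le_mul_left _ (Nat.mul_le_mul_left _ ?_)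
  have hm : ∀ a : A, ⁅u, (a : G)⁆ ∈ X ⊔ Y := fun a =>
    mem_sup_left (commutator_mem_commutator (mem_zpowers u) a.2)
  let g : A ⧸ B.subgroupOf A → (X ⊔ Y : Subgroup G) ⧸ Y.subgroupOf (X ⊔ Y) :=
    fun q => QuotientGroup.mk ⟨_, hm q.out⟩
  refine Nat.card_le_card_of_injective g fun q1 q2 h => ?_
  rw [← q1.out_eq, ← q2.out_eq]
  refine QuotientGroup.eq.2 ?_
  have h1 := QuotientGroup.eq.1 h
  rw [mem_subgroupOf] at h1 ⊢
  generalize q1.out = a at h1 ⊢
  generalize q2.out = a' at h1 ⊢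
  obtain ⟨b, rfl⟩ : ∃ b, a' = a * b := ⟨a⁻¹ * a', by group⟩
  rw [inv_mul_cancel_left]
  simp only [coe_mul, coe_inv] at h1
  rw [commutatorElement_mul_right', inv_mul_cancel_left] at h1
  have h2 : ⁅u, (b : G)⁆ ∈ Y := by
    have := conj_mem_of_mem_normalizer' (le_normalizer_inf hAV (le_normalizer_centralizer le_normalizer) a.2) h1
    simpa only [mul_assoc, inv_mul_cancel, mul_one, inv_mul_cancel_left] using this
  have h3 : ⁅zpowers u, zpowers (b : G)⁆ ≤ Y := by
    rw [zpowers_eq_closure, zpowers_eq_closure]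
    refine commutator_closure_le ?_ ?_ (by simpa using h2)
    · rw [← zpowers_eq_closure]; exact (zpowers_le.2 hu).trans (le_normalizer_of_comm hV inf_le_left)
    · rw [← zpowers_eq_closure]
      exact (zpowers_le.2 b.2).trans (le_normalizer_inf hAV (le_normalizer_centralizer le_normalizer))
  refine mem_inf.2 ⟨b.2, le_centralizer_iff.1 (commutator_eq_bot_iff_le_centralizer.1
    (commutator_commutator_eq_bot_of_rotate (H₃ := zpowers (b : G)) ?_ ?_)) (mem_zpowers _)⟩
  · exact commutator_eq_bot_iff_le_centralizer.2 (((commutator_mono le_rfl (zpowers_le.2 b.2)).trans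
      hab).trans (centralizer_anti (zpowers_le.2 hu)))
  · rw [commutator_comm (zpowers (b : G))]
    exact commutator_eq_bot_iff_le_centralizer.2 (h3.trans inf_le_right)

theorem timm_le [Finite G] {V A U : Subgroup G} (hV : IsMulCommutative V)
    (hAV : A ≤ normalizer (V : Set G)) (hU : U ≤ V) :
    ⁅U, A⁆ ⊔ (V ⊓ centralizer (A : Set G)) ≤
      V ⊓ centralizer ((A ⊓ centralizer ((⁅U, A⁆ : Subgroup G) : Set G) : Subgroup G) : Set G) :=
  sup_le (le_inf ((commutator_mono hU le_rfl).trans (commutator_le_left' hAV))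
    (le_centralizer_iff.1 inf_le_right)) (inf_le_inf_left _ (centralizer_anti inf_le_left))

theorem timm_eq_of_le [Finite G] {V A U : Subgroup G} (hV : IsMulCommutative V)
    (hAV : A ≤ normalizer (V : Set G)) (hU : U ≤ V) (hmax : ∀ B ≤ A, offM V B ≤ offM V A)
    (h : offM V A ≤ Nat.card (A ⊓ centralizer ((⁅U, A⁆ : Subgroup G) : Set G) : Subgroup G) *
      Nat.card (⁅U, A⁆ ⊔ (V ⊓ centralizer (A : Set G)) : Subgroup G)) :
    V ⊓ centralizer ((A ⊓ centralizer ((⁅U, A⁆ : Subgroup G) : Set G) : Subgroup G) : Set G) =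
      ⁅U, A⁆ ⊔ (V ⊓ centralizer (A : Set G)) ∧
    offM V A = offM V (A ⊓ centralizer ((⁅U, A⁆ : Subgroup G) : Set G)) := by
  have h1 := timm_le hV hAV hU
  have h2 := hmax _ (inf_le_left : A ⊓ centralizer ((⁅U, A⁆ : Subgroup G) : Set G) ≤ A)
  have h3 := Nat.le_of_mul_le_mul_left (h2.trans h) Nat.card_pos
  have h4 := (eq_of_le_of_card_ge h1 h3).symm
  refine ⟨h4, le_antisymm ?_ h2⟩
  rw [offM, offM, h4]; exact h

theorem timmesfeld [Finite G] {V A U : Subgroup G} (hV : IsMulCommutative V)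
    (hAV : A ≤ normalizer (V : Set G)) (hab : ⁅A, A⁆ ≤ centralizer (V : Set G))
    (hmax : ∀ B ≤ A, offM V B ≤ offM V A) (hU : U ≤ V) :
    V ⊓ centralizer ((A ⊓ centralizer ((⁅U, A⁆ : Subgroup G) : Set G) : Subgroup G) : Set G) =
      ⁅U, A⁆ ⊔ (V ⊓ centralizer (A : Set G)) ∧
    offM V A = offM V (A ⊓ centralizer ((⁅U, A⁆ : Subgroup G) : Set G)) := by
  refine timm_eq_of_le hV hAV hU hmax ?_
  refine subgroup_induction_zpowers (Q := fun U => offM V A ≤
    Nat.card (A ⊓ centralizer ((⁅U, A⁆ : Subgroup G) : Set G) : Subgroup G) *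
      Nat.card (⁅U, A⁆ ⊔ (V ⊓ centralizer (A : Set G)) : Subgroup G)) ?_ (fun U hU u hu ih => ?_) U hU
  · have : A ⊓ centralizer ((⊥ : Subgroup G) : Set G) = A :=
      inf_eq_left.2 fun x _ y hy => by rw [mem_bot.1 hy, one_mul, mul_one]
    rw [commutator_bot_left, bot_sup_eq, this, offM]
  have hu' := zpowers_le.2 hu
  obtain ⟨e1, e2⟩ := timm_eq_of_le hV hAV hU hmax ih
  obtain ⟨e3, e4⟩ := timm_eq_of_le hV hAV hu' hmax (timm_cyclic hV hAV hab hu)
  rw [commutator_sup_left_eq hV hAV hU hu', centralizer_sup', inf_inf_distrib_left,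
    sup_sup_distrib_right, ← e1, ← e3]
  set A₁ := A ⊓ centralizer ((⁅U, A⁆ : Subgroup G) : Set G) with hA₁
  set A₂ := A ⊓ centralizer ((⁅zpowers u, A⁆ : Subgroup G) : Set G) with hA₂
  have hn : A₁ ≤ normalizer (A₂ : Set G) := inf_le_left.trans (le_normalizer_inf le_normalizer
    (le_normalizer_centralizer (normalizer_commutator_ge_right _ _)))
  have c1 := card_sup_mul_card_inf hn
  have c2 := card_sup_mul_card_inf (H := V ⊓ centralizer (A₁ : Set G)) (N := V ⊓ centralizer (A₂ : Set G))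
    (inf_le_left.trans (le_normalizer_of_comm hV inf_le_left))
  have c3 := hmax (A₁ ⊔ A₂) (sup_le inf_le_left inf_le_left)
  rw [offM, centralizer_sup', inf_inf_distrib_left] at c3
  have hpos : 0 < offM V A := Nat.mul_pos Nat.card_pos Nat.card_pos
  refine Nat.le_of_mul_le_mul_left ?_ hpos
  calc offM V A * offM V A = offM V A₁ * offM V A₂ := by rw [← e2, ← e4]
    _ = _ * (Nat.card (A₁ ⊓ A₂ : Subgroup G) * Nat.card (V ⊓ centralizer (A₁ : Set G) ⊔
        V ⊓ centralizer (A₂ : Set G) : Subgroup G)) := by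
      rw [offM, offM, mul_mul_mul_comm, ← c1, ← c2, mul_comm (Nat.card ↥(V ⊓ _ ⊔ V ⊓ _ : Subgroup G)),
        mul_mul_mul_comm]
    _ ≤ _ := Nat.mul_le_mul_right _ c3

theorem isBestOffenderOn_iff {V A : Subgroup G} : IsBestOffenderOn p V A ↔
    (∀ B ≤ A, offM V B ≤ offM V A) ∧ ⁅A, A⁆ ≤ centralizer (V : Set G) ∧
      ∀ a ∈ A, a ^ p ∈ centralizer (V : Set G) := Iff.rfl

theorem bestOff_of_le {V A B : Subgroup G} (hA : IsBestOffenderOn p V A) (h : B ≤ A)
    (he : offM V A ≤ offM V B) : IsBestOffenderOn p V B :=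
  ⟨fun C hC => (hA.1 C (hC.trans h)).trans he, (commutator_mono h h).trans hA.2.1,
    fun a ha => hA.2.2 a (h ha)⟩

theorem timmesfeld_best [Finite G] [Fact p.Prime] {V A U : Subgroup G} (hV : IsMulCommutative V)
    (hVp : IsPGroup p V) (hAV : A ≤ normalizer (V : Set G)) (hA : IsBestOffenderOn p V A)
    (hU : U ≤ V) :
    IsBestOffenderOn p V (A ⊓ centralizer ((⁅U, A⁆ : Subgroup G) : Set G)) ∧
    V ⊓ centralizer ((A ⊓ centralizer ((⁅U, A⁆ : Subgroup G) : Set G) : Subgroup G) : Set G) =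
      ⁅U, A⁆ ⊔ (V ⊓ centralizer (A : Set G)) ∧
    (⁅V, A⁆ ≠ ⊥ → ⁅V, A ⊓ centralizer ((⁅U, A⁆ : Subgroup G) : Set G)⁆ ≠ ⊥) := by
  obtain ⟨e1, e2⟩ := timmesfeld hV hAV hA.2.1 hA.1 hU
  refine ⟨bestOff_of_le hA inf_le_left e2.le, e1, fun hne hb => ?_⟩
  rw [inf_eq_left.2 (commutator_eq_bot_iff_le_centralizer.1 hb)] at e1
  have h1 : ⁅U, A⁆ ≤ ⁅V, A⁆ := commutator_mono hU le_rfl
  refine (commutator_lt_of_pResOf_le hVp hAV (commutator_le_left' hAV)
    (normalizer_commutator_ge_right _ _) (pResOf_le_of_pow hA.2.2) hne).not_ge ?_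
  nth_rewrite 1 [e1]
  rw [commutator_sup_left_eq hV hAV (h1.trans (commutator_le_left' hAV)) inf_le_left,
    commutator_eq_bot_iff_le_centralizer.2 (inf_le_right : V ⊓ centralizer (A : Set G) ≤ _), sup_bot_eq]
  exact commutator_mono h1 le_rfl

theorem bestOff_of_mem_maxEA [Finite G] {P V A : Subgroup G} (hV : IsElementaryAbelian e V)
    (hVP : V ≤ P) (hA : A ∈ maxEA e P) : IsBestOffenderOn e V A := by
  refine ⟨fun B hB => ?_, ?_, fun a ha => ?_⟩
  · have h1 := hA.2.2 _ (sup_le (hB.trans hA.1) (inf_le_left.trans hVP)) (isEA_sup (isEA_of_le hA.2.1 hB)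
      (isEA_of_le hV (inf_le_left : V ⊓ centralizer (B : Set G) ≤ V)) (le_centralizer_iff.1 inf_le_right))
    rw [← card_sup_mul_card_inf ((le_centralizer_iff.1 inf_le_right).trans (centralizer_le_normalizer _))]
    refine Nat.mul_le_mul h1 (card_le_of_le ?_)
    exact le_inf (inf_le_right.trans inf_le_left)
      ((inf_le_left.trans hB).trans (le_centralizer_of_isEA hA.2.1))
  · rw [commutator_self_eq_bot hA.2.1.1]; exact bot_le
  · rw [hA.2.1.2 a ha]; exact one_mem _

theorem inf_centralizer_eq_of_mem_maxEA [Finite G] {P V A : Subgroup G}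
    (hV : IsElementaryAbelian e V) (hVP : V ≤ P) (hA : A ∈ maxEA e P) :
    V ⊓ centralizer (A : Set G) = V ⊓ A :=
  le_antisymm (le_inf inf_le_left (le_of_mem_maxEA hA (inf_le_left.trans hVP)
    (isEA_of_le hV inf_le_left) inf_le_right)) (inf_le_inf_left _ (le_centralizer_of_isEA hA.2.1))

/-- Thompson replacement -/
theorem thompson_replacement [Finite G] [Fact p.Prime] {P V A : Subgroup G}
    (hV : IsElementaryAbelian p V) (hVP : V ≤ P) (hAV : A ≤ normalizer (V : Set G))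
    (hA : A ∈ maxEA p P) :
    ⁅V, A⁆ ⊔ (A ⊓ centralizer ((⁅V, A⁆ : Subgroup G) : Set G)) ∈ maxEA p P ∧
    ⁅⁅V, ⁅V, A⁆ ⊔ (A ⊓ centralizer ((⁅V, A⁆ : Subgroup G) : Set G))⁆,
      ⁅V, A⁆ ⊔ (A ⊓ centralizer ((⁅V, A⁆ : Subgroup G) : Set G))⁆ = ⊥ ∧
    (⁅V, A⁆ ≠ ⊥ → ⁅V, ⁅V, A⁆ ⊔ (A ⊓ centralizer ((⁅V, A⁆ : Subgroup G) : Set G))⁆ ≠ ⊥) := by
  have hb := bestOff_of_mem_maxEA hV hVP hA
  obtain ⟨e1, e2⟩ := timmesfeld hV.1 hAV hb.2.1 hb.1 le_rfl
  obtain ⟨-, -, h3⟩ := timmesfeld_best hV.1 (isPGroup_of_isEA hV) hAV hb le_rfl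
  have hX : ⁅V, A⁆ ≤ V := commutator_le_left' hAV
  set X := ⁅V, A⁆ with hXd
  set B := A ⊓ centralizer (X : Set G) with hB
  have hXB : X ≤ centralizer (B : Set G) := le_centralizer_iff.1 inf_le_right
  have hea := isEA_sup (isEA_of_le hV hX) (isEA_of_le hA.2.1 inf_le_left) hXB
  refine ⟨mem_maxEA_of_card hA (sup_le (hX.trans hVP) (inf_le_left.trans hA.1)) hea ?_, ?_,
    fun h hb => h3 h (commutator_eq_bot_of_le hb le_rfl le_sup_right)⟩
  · rw [offM, offM, e1, inf_centralizer_eq_of_mem_maxEA hV hVP hA] at e2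
    have c1 := card_sup_mul_card_inf (hXB.trans (centralizer_le_normalizer _))
    have c2 := card_sup_mul_card_inf (H := X) (N := V ⊓ A)
      (hX.trans (le_normalizer_of_comm hV.1 inf_le_left))
    have c3 : X ⊓ B = X ⊓ (V ⊓ A) := le_antisymm
      (le_inf inf_le_left (le_inf (inf_le_left.trans hX) (inf_le_right.trans inf_le_left)))
      (le_inf inf_le_left (le_inf (inf_le_right.trans inf_le_right) (inf_le_left.trans
        (le_centralizer_of_isEA (isEA_of_le hV hX)))))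
    rw [c3] at c1
    have hpos : 0 < Nat.card (X ⊓ (V ⊓ A) : Subgroup G) * Nat.card (V ⊓ A : Subgroup G) :=
      Nat.mul_pos Nat.card_pos Nat.card_pos
    refine (Nat.eq_of_mul_eq_mul_right hpos ?_).le
    rw [← mul_assoc (Nat.card (X ⊔ B : Subgroup G)), c1, mul_comm (Nat.card (X ⊓ _ : Subgroup G)),
      ← mul_assoc, e2, mul_assoc, c2]
    ring
  · refine commutator_eq_bot_of_le (commutator_self_eq_bot hea.1) ?_ le_rfl
    refine le_trans (commutator_le_of_le_sup_centralizer le_rfl hAV ?_) le_sup_left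
    exact sup_le ((hX.trans (le_centralizer_of_isEA hV)).trans le_sup_right)
      (inf_le_left.trans le_sup_left)

theorem exists_quad_maxEA [Finite G] [Fact p.Prime] {P V : Subgroup G}
    (hV : IsElementaryAbelian p V) (hVP : V ≤ P) (hPV : P ≤ normalizer (V : Set G))
    (h : ¬ JOf p P ≤ centralizer (V : Set G)) :
    ∃ A ∈ maxEA p P, ⁅⁅V, A⁆, A⁆ = ⊥ ∧ ⁅V, A⁆ ≠ ⊥ := by
  rw [JOf_le_iff] at h
  push Not at h
  obtain ⟨A, hA, h⟩ := h
  obtain ⟨h1, h2, h3⟩ := thompson_replacement hV hVP (hA.1.trans hPV) hA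
  exact ⟨_, h1, h2, h3 fun hb => h (le_centralizer_iff.1 (commutator_eq_bot_iff_le_centralizer.1 hb))⟩

/-! ### Thompson factorization -/

/-- `Ω₁(Z(S))` -/
def OmZ (p : ℕ) (S : Subgroup G) : Subgroup G := omegaOne p (S ⊓ centralizer (S : Set G))

theorem OmZ_def (S : Subgroup G) : omegaOne p (S ⊓ centralizer (S : Set G)) = OmZ p S := rfl

theorem OmZ_le (S : Subgroup G) : OmZ p S ≤ S := (omegaOne_le _).trans inf_le_left

theorem OmZ_le_centralizer (S : Subgroup G) : OmZ p S ≤ centralizer (S : Set G) :=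
  (omegaOne_le _).trans inf_le_right

theorem le_centralizer_OmZ (S : Subgroup G) : S ≤ centralizer (OmZ p S : Set G) :=
  le_centralizer_iff.1 (OmZ_le_centralizer S)

theorem isEA_OmZ (S : Subgroup G) : IsElementaryAbelian p (OmZ p S) :=
  isEA_omegaOne (isMulCommutative_inf_centralizer S)

theorem map_OmZ {G' : Type*} [Group G'] {f : G →* G'} {S : Subgroup G}
    (hf : ∀ x ∈ S, f x = 1 → x = 1) : (OmZ p S).map f = OmZ p (S.map f) := by
  rw [OmZ, map_omegaOne fun x hx => hf x (mem_inf.1 hx).1, map_inf_centralizer hf le_rfl, OmZ]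

theorem cj_OmZ (g : G) (S : Subgroup G) : cj g (OmZ p S) = OmZ p (cj g S) :=
  map_OmZ (inj_on_of_injective (MulAut.conj g).injective S)

theorem normalizer_le_normalizer_OmZ (S : Subgroup G) :
    normalizer (S : Set G) ≤ normalizer (OmZ p S : Set G) := fun g hg => by
  rw [← cj_eq_self_iff] at hg ⊢
  rw [cj_OmZ, hg]

theorem OmZ_le_ZJOf [Finite G] (S : Subgroup G) : OmZ p S ≤ ZJOf p S := omegaOne_center_le_ZJOf S

theorem OmZ_ne_bot [Finite G] [Fact p.Prime] {S : Subgroup G} (hS : IsPGroup p S) (h : S ≠ ⊥) :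
    OmZ p S ≠ ⊥ := omegaOne_center_ne_bot hS h

theorem OmZ_top : OmZ p (⊤ : Subgroup G) = omegaOne p (center G) := by
  rw [OmZ, top_inf_centralizer_top]

/-- the subgroup generated by the `Ω₁(Z(S))` -/
def VOm (p : ℕ) (G : Type*) [Group G] : Subgroup G := ⨆ S : Sylow p G, OmZ p (S : Subgroup G)

theorem VOm_def : (⨆ S : Sylow p G, omegaOne p ((S : Subgroup G) ⊓
    centralizer ((S : Subgroup G) : Set G))) = VOm p G := rfl

theorem OmZ_le_VOm [Finite G] [Fact p.Prime] {S : Subgroup G} (hS : IsSylowOf p S ⊤) :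
    OmZ p S ≤ VOm p G := by
  obtain ⟨T, rfl⟩ := hS.exists_sylow_top
  exact le_iSup (fun S : Sylow p G => OmZ p (S : Subgroup G)) T

instance VOm_normal_inst [Finite G] : (VOm p G).Normal := by
  refine normal_of_forall_mem_normalizer fun g => mem_normalizer_of_cj_le ?_
  rw [cj_le_iff]
  refine iSup_le fun S => le_cj_iff.2 ?_
  rw [inv_inv, cj_OmZ, ← coe_smul_sylow]
  exact le_iSup (fun S : Sylow p G => OmZ p (S : Subgroup G)) _

theorem VOm_le_iff [Finite G] [Fact p.Prime] {S K : Subgroup G} (hS : IsSylowOf p S ⊤) :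
    VOm p G ≤ K ↔ ∀ g, cj g (OmZ p S) ≤ K := by
  constructor
  · intro h g
    exact (cj_le_of_mem_normalizer (OmZ_le_VOm hS) (mem_normalizer_of_normal _ g)).trans h
  · intro h
    refine iSup_le fun T => ?_
    obtain ⟨g, -, hg⟩ := hS.exists_cj_eq (isSylowOf_top T)
    rw [← hg, ← cj_OmZ]; exact h g

theorem VOm_eq_normalClosure [Finite G] [Fact p.Prime] {S : Subgroup G} (hS : IsSylowOf p S ⊤) :
    VOm p G = normalClosure (OmZ p S : Set G) :=
  le_antisymm ((VOm_le_iff hS).2 fun g => cj_le_of_mem_normalizer le_normalClosure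
    (mem_normalizer_of_normal _ g)) (normalClosure_le_normal (OmZ_le_VOm hS))

theorem le_centralizer_VOm_of_inOp [Finite G] [Fact p.Prime] {A : Subgroup G}
    (h : InOp p A ⊤ (centralizer (VOm p G : Set G))) : A ≤ centralizer (VOm p G : Set G) := by
  refine le_centralizer_iff.1 (iSup_le fun S => le_centralizer_iff.1 ?_)
  obtain ⟨D, h1, -, -, h2⟩ := h.le_sup (isSylowOf_top S)
  exact h1.trans (h2.trans (sup_le (centralizer_anti (OmZ_le_VOm (isSylowOf_top S)))
    (le_centralizer_OmZ _)))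

theorem VOm_le_center [Finite G] [Fact p.Prime]
    (hc : centralizer (pCore p G : Set G) ≤ pCore p G) :
    VOm p G ≤ pCore p G ⊓ centralizer (pCore p G : Set G) := by
  refine iSup_le fun S => ?_
  have := (OmZ_le_centralizer (p := p) (S : Subgroup G)).trans (centralizer_anti (pCore_le_sylow S))
  exact le_inf (this.trans hc) this

theorem isEA_VOm [Finite G] [Fact p.Prime] (hc : centralizer (pCore p G : Set G) ≤ pCore p G) :
    IsElementaryAbelian p (VOm p G) :=
  isEA_of_le (isEA_omegaOne (isMulCommutative_inf_centralizer (pCore p G))) (iSup_le fun S =>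
    le_omegaOne (isEA_OmZ _) ((OmZ_le_VOm (isSylowOf_top S)).trans (VOm_le_center hc)))

theorem pCore_quotient_eq_bot_iff [Finite G] [Fact p.Prime] {C : Subgroup G} [C.Normal] :
    pCore p (G ⧸ C) = ⊥ ↔ ∀ A, InOp p A ⊤ C → A ≤ C := by
  constructor
  · intro h A hA
    rwa [inOp_top_iff, h, MonoidHom.comap_bot, QuotientGroup.ker_mk'] at hA
  · intro h
    have := h _ (inOp_top_iff.2 le_rfl)
    rw [← map_comap_eq_self_of_surjective (QuotientGroup.mk'_surjective C) (pCore p (G ⧸ C)),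
      Subgroup.map_eq_bot_iff, QuotientGroup.ker_mk']
    exact this

theorem isThompsonFactorizable_iff' [Finite G] [Fact p.Prime] : IsThompsonFactorizable p G ↔
    ∀ S : Subgroup G, IsSylowOf p S ⊤ → ∀ g : G, ∃ x ∈ pPrimeCore p G, ∃ c ∈ centralizer (OmZ p S : Set G),
      ∃ n ∈ normalizer ((JOf p S : Subgroup G) : Set G), g = x * c * n := by
  constructor
  · intro h S hS
    obtain ⟨T, rfl⟩ := hS.exists_sylow_top
    rw [← thompsonSubgroupOf_eq]; exact h T
  · intro h S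
    rw [thompsonSubgroupOf_eq]; exact h S (isSylowOf_top S)

theorem JOf_top_eq_iSup [Finite G] [Fact p.Prime] :
    JOf p (⊤ : Subgroup G) = ⨆ S : Sylow p G, JOf p (S : Subgroup G) := by
  refine le_antisymm (JOf_le_iff.2 fun A hA => ?_) (iSup_le fun S => ?_)
  · obtain ⟨S, hS⟩ := (isPGroup_of_isEA hA.2.1).exists_le_sylow
    exact (le_JOf (mem_maxEA_of_le hA hS le_top)).trans
      (le_iSup (fun S : Sylow p G => JOf p (S : Subgroup G)) S)
  · exact sSup_le_sSup (isSylowOf_top S).maxEA_subset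

theorem frattini_JOf [Finite G] [Fact p.Prime] {S C : Subgroup G} [C.Normal] (hS : IsSylowOf p S ⊤)
    (h : JOf e S ≤ C) (g : G) : ∃ c ∈ C, ∃ n ∈ normalizer (JOf e S : Set G), g = c * n := by
  obtain ⟨c, hc, n, hn, rfl⟩ := (hS.inf_of_le le_top le_normalizer_of_normal).frattini
    (mem_normalizer_of_normal C g)
  refine ⟨c, hc, n, ?_, rfl⟩
  rw [← JOf_eq_of_le (le_inf (JOf_le S) h) inf_le_left]
  exact normalizer_le_normalizer_JOf _ hn

theorem isThompsonFactorizable_iff [Finite G] [Fact p.Prime] (hO : pPrimeCore p G = ⊥) :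
    IsThompsonFactorizable p G ↔ JOf p (⊤ : Subgroup G) ≤ centralizer (VOm p G : Set G) := by
  rw [isThompsonFactorizable_iff', hO]
  constructor
  · intro h
    rw [JOf_top_eq_iSup]
    refine iSup_le fun S => le_centralizer_iff.1 ((VOm_le_iff (isSylowOf_top S)).2 fun g => ?_)
    obtain ⟨x, hx, c, hc, n, hn, e⟩ := h S (isSylowOf_top S) g⁻¹
    rw [mem_bot.1 hx, one_mul, inv_eq_iff_eq_inv, mul_inv_rev] at e
    rw [e, cj_mul, cj_eq_self_iff.2 (centralizer_le_normalizer _ (inv_mem hc))]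
    exact (cj_le_of_mem_normalizer (OmZ_le_ZJOf _)
      (normalizer_JOf_le_normalizer_ZJOf _ (inv_mem hn))).trans (ZJOf_le_centralizer _)
  · intro h S hS g
    obtain ⟨c, hc, n, hn, rfl⟩ := frattini_JOf hS ((sSup_le_sSup hS.maxEA_subset).trans h) g
    exact ⟨1, one_mem _, c, centralizer_anti (OmZ_le_VOm hS) hc, n, hn, by rw [one_mul]⟩

theorem exists_isSylowOf_map_eq [Finite G] [Fact p.Prime] {G' : Type*} [Group G'] [Finite G']
    (f : G →* G') {H : Subgroup G} {S' : Subgroup G'} (hS : IsSylowOf p S' (H.map f)) :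
    ∃ S, IsSylowOf p S H ∧ S.map f = S' := by
  obtain ⟨S, hS0⟩ := exists_isSylowOf (p := p) H
  obtain ⟨_, ⟨g, hg, rfl⟩, e⟩ := (hS0.map f).exists_cj_eq hS
  exact ⟨cj g S, hS0.cj_of_mem_normalizer (le_normalizer hg), by rw [map_cj, e]⟩

theorem isSylowOf_map_top [Finite G] [Fact p.Prime] {G' : Type*} [Group G'] {f : G →* G'}
    (hf : Function.Surjective f) {S : Subgroup G} (hS : IsSylowOf p S ⊤) : IsSylowOf p (S.map f) ⊤ :=
  map_top_of_surjective f hf ▸ hS.map f

theorem inj_on_mk_pPrimeCore [Finite G] [Fact p.Prime] {T : Subgroup G} (hT : IsPGroup p T) :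
    ∀ x ∈ T, QuotientGroup.mk' (pPrimeCore p G) x = 1 → x = 1 :=
  inj_on_of_coprime (H := ⊤)
    (by rw [inf_top_eq, QuotientGroup.ker_mk']; exact pPrimeCore_coprime) hT le_top

theorem isThompsonFactorizable_quotient_iff [Finite G] [Fact p.Prime] :
    IsThompsonFactorizable p G ↔ IsThompsonFactorizable p (G ⧸ pPrimeCore p G) := by
  rw [isThompsonFactorizable_iff', isThompsonFactorizable_iff', pPrimeCore_quotient_pPrimeCore]
  have hs := QuotientGroup.mk'_surjective (pPrimeCore p G)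
  constructor
  · intro h S' hS' g
    obtain ⟨S, hS, rfl⟩ := exists_isSylowOf_map_eq (QuotientGroup.mk' (pPrimeCore p G)) (H := ⊤)
      (by rwa [map_top_of_surjective _ hs])
    obtain ⟨g, rfl⟩ := hs g
    obtain ⟨x, hx, c, hc, n, hn, rfl⟩ := h S hS g
    rw [← map_OmZ (inj_on_mk_pPrimeCore hS.isP), ← map_JOf (inj_on_mk_pPrimeCore hS.isP)]
    refine ⟨_, mem_bot.2 ((QuotientGroup.eq_one_iff x).2 hx), _,
      le_centralizer_map _ le_rfl (mem_map_of_mem _ hc), _,
      le_normalizer_map' _ le_rfl (mem_map_of_mem _ hn), ?_⟩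
    rw [map_mul, map_mul]; rfl
  · intro h S hS g
    obtain ⟨x, hx, c, hc, n, hn, e⟩ := h _ (isSylowOf_map_top hs hS) (QuotientGroup.mk' _ g)
    have h1 := hS.isP.to_le (OmZ_le (p := p) S)
    have h2 := hS.isP.to_le (JOf_le (e := p) S)
    rw [← map_OmZ (inj_on_mk_pPrimeCore hS.isP), Core.centralizer_map_mk'
      (coprime_card_card h1 pPrimeCore_coprime) (Or.inl (isSolvable_of_isPGroup' h1))] at hc
    rw [← map_JOf (inj_on_mk_pPrimeCore hS.isP), Core.normalizer_map_mk'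
      (coprime_card_card h2 pPrimeCore_coprime) (Or.inl (isSolvable_of_isPGroup' h2))] at hn
    obtain ⟨c, hc, rfl⟩ := hc
    obtain ⟨n, hn, rfl⟩ := hn
    refine ⟨g * (c * n)⁻¹, (QuotientGroup.eq_one_iff _).1 ?_, c, hc, n, hn, by group⟩
    rw [mem_bot.1 hx, one_mul, ← map_mul] at e
    rw [← QuotientGroup.mk'_apply, map_mul, e, map_inv, mul_inv_cancel]

theorem nonempty_equiv_of_ker_eq {G₁ G₂ : Type*} [Group G₁] [Group G₂] {f₁ : G →* G₁}
    {f₂ : G →* G₂} (h₁ : Function.Surjective f₁) (h₂ : Function.Surjective f₂)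
    (h : f₁.ker = f₂.ker) : Nonempty (G₁ ≃* G₂) :=
  ⟨(QuotientGroup.quotientKerEquivOfSurjective f₁ h₁).symm.trans
    ((QuotientGroup.quotientMulEquivOfEq h).trans (QuotientGroup.quotientKerEquivOfSurjective f₂ h₂))⟩

theorem pPrimeCore_quotient_comap [Finite G] {G' : Type*} [Group G'] {f : G →* G'}
    (hf : Function.Surjective f) {N : Subgroup G} [N.Normal] (hN : N = (pPrimeCore p G').comap f) :
    pPrimeCore p (G ⧸ N) = ⊥ := by
  have := Finite.of_surjective _ hf
  obtain ⟨e⟩ := nonempty_equiv_of_ker_eq (f₁ := (QuotientGroup.mk' (pPrimeCore p G')).comp f)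
    ((QuotientGroup.mk'_surjective _).comp hf) (QuotientGroup.mk'_surjective N)
    (by rw [← MonoidHom.comap_ker, QuotientGroup.ker_mk', QuotientGroup.ker_mk', hN])
  rw [← map_pPrimeCore_equiv e, pPrimeCore_quotient_pPrimeCore, Subgroup.map_bot]

theorem pCore_quotient_comap {G' : Type*} [Group G'] {f : G →* G'}
    (hf : Function.Surjective f) {N : Subgroup G} [N.Normal] (hN : N = (pCore p G').comap f) :
    pCore p (G ⧸ N) = ⊥ := by
  obtain ⟨e⟩ := nonempty_equiv_of_ker_eq (f₁ := (QuotientGroup.mk' (pCore p G')).comp f)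
    ((QuotientGroup.mk'_surjective _).comp hf) (QuotientGroup.mk'_surjective N)
    (by rw [← MonoidHom.comap_ker, QuotientGroup.ker_mk', QuotientGroup.ker_mk', hN])
  rw [← map_pCore_equiv e, pCore_quotient_pCore, Subgroup.map_bot]

end Cfsg.Agent.PLoc
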