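import Cfsg.Agent.PLoc.Replace
import Cfsg.Agent.Core.Coprime
import Cfsg.Prelude.Def_Local

/-!
`O_p` of sections, `p`-constraint, `p`-solvability, `p`-stability and the ZJ-theorem.
-/

set_option autoImplicit false

namespace Cfsg.Agent.PLoc

open Subgroup
open scoped commutatorElement Pointwise

variable {G : Type*} [Group G] {p e : ℕ}

theorem isSolvable_of_isPGroup' [Finite G] [Fact p.Prime] {P : Subgroup G} (h : IsPGroup p P) :
    Group.IsSolvable P := haveI := h.isNilpotent; inferInstance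

theorem coprime_card_card [Finite G] [Fact p.Prime] {P K : Subgroup G} (h : IsPGroup p P)
    (hK : (Nat.card K).Coprime p) : (Nat.card P).Coprime (Nat.card K) :=
  (coprime_card_of_isPGroup h hK).symm

theorem coprime_orderOf_of_mem {K : Subgroup G} (hK : (Nat.card K).Coprime p) {x : G} (hx : x ∈ K) :
    (orderOf x).Coprime p := hK.coprime_dvd_left (orderOf_dvd_card_of_mem hx)

theorem inj_on_of_coprime [Fact p.Prime] {G' : Type*} [Group G'] {f : G →* G'} {H T : Subgroup G}
    (hk : (Nat.card (f.ker ⊓ H : Subgroup G)).Coprime p) (hT : IsPGroup p T) (hTH : T ≤ H) :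
    ∀ x ∈ T, f x = 1 → x = 1 := fun _ hx h =>
  eq_one_of_isPGroup_of_coprime hT hx (coprime_orderOf_of_mem hk ⟨h, hTH hx⟩)

theorem eq_bot_of_map_eq_bot {G' : Type*} [Group G'] {f : G →* G'} {T X : Subgroup G}
    (hf : ∀ x ∈ T, f x = 1 → x = 1) (hX : X ≤ T) (h : X.map f = ⊥) : X = ⊥ :=
  eq_bot_iff.2 fun x hx => mem_bot.2 (hf x (hX hx) (mem_bot.1 (h ▸ mem_map_of_mem f hx)))

theorem exists_isPGroup_map_eq [Finite G] [Fact p.Prime] {G' : Type*} [Group G'] (f : G →* G')
    {H : Subgroup G} {T' : Subgroup G'} (hT : IsPGroup p T') (h : T' ≤ H.map f) :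
    ∃ T ≤ H, IsPGroup p T ∧ T.map f = T' := by
  obtain ⟨T, hT2⟩ := exists_isSylowOf (p := p) (T'.comap f ⊓ H)
  have h3 := hT2.map f
  rw [map_comap_inf_of_le h] at h3
  have : Finite (H.map f) := Finite.of_surjective _ (f.subgroupMap_surjective H)
  refine ⟨T, hT2.le.trans inf_le_right, hT2.isP, le_antisymm h3.le ?_⟩
  obtain ⟨k, hk⟩ : ∃ k, (T.map f).relIndex T' = p ^ k := by
    have : Finite T' := Finite.of_injective _ (inclusion_injective h)
    obtain ⟨n, hn⟩ := IsPGroup.iff_card.1 hT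
    have := (relIndex_dvd_card (T.map f) T').trans hn.dvd
    obtain ⟨k, -, hk⟩ := (Nat.dvd_prime_pow Fact.out).1 this
    exact ⟨k, hk⟩
  rcases k with _ | k
  · exact relIndex_eq_one.1 (by simpa using hk)
  · exact absurd (hk ▸ dvd_pow_self p k.succ_ne_zero) h3.not_dvd

theorem le_normalizer_map' {G' : Type*} [Group G'] (f : G →* G') {A H : Subgroup G}
    (h : A ≤ normalizer (H : Set G)) : A.map f ≤ normalizer (H.map f : Set G') :=
  (map_mono h).trans (le_normalizer_map f)

theorem le_centralizer_map {G' : Type*} [Group G'] (f : G →* G') {A H : Subgroup G}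
    (h : A ≤ centralizer (H : Set G)) : A.map f ≤ centralizer (H.map f : Set G') := by
  rintro _ ⟨a, ha, rfl⟩ _ ⟨x, hx, rfl⟩
  rw [← map_mul, ← map_mul, h ha x hx]

theorem le_normalizer_comap' {G' : Type*} [Group G'] (f : G →* G') {A : Subgroup G}
    {H : Subgroup G'} (h : A.map f ≤ normalizer (H : Set G')) :
    A ≤ normalizer (H.comap f : Set G) :=
  (map_le_iff_le_comap.1 h).trans (le_normalizer_comap f)

theorem mem_centralizer_of_map {G' : Type*} [Group G'] {f : G →* G'} {P : Subgroup G}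
    (hf : ∀ x ∈ P, f x = 1 → x = 1) {x : G} (hx : x ∈ normalizer (P : Set G))
    (h : f x ∈ centralizer (P.map f : Set G')) : x ∈ centralizer (P : Set G) := by
  intro y hy
  have h1 := h _ (mem_map_of_mem f hy)
  have := hf (y * (x * y⁻¹ * x⁻¹)) (P.mul_mem hy (conj_mem_of_mem_normalizer hx (P.inv_mem hy)))
    (by simp only [map_mul, map_inv]; rw [← mul_assoc, ← mul_assoc, h1]; group)
  calc y * x = y * (x * y⁻¹ * x⁻¹) * (x * y) := by group
    _ = x * y := by rw [this, one_mul]

/-! ### `O_p` of a section -/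

/-- the image of `A` in `N / C` lies in `O_p(N / C)` -/
def InOp (p : ℕ) (A N C : Subgroup G) : Prop :=
  ∃ D : Subgroup G, A ≤ D ∧ D ≤ N ∧ N ≤ normalizer (D : Set G) ∧ pResOf p D ≤ C

theorem InOp.mono {A A' N C C' : Subgroup G} (h : InOp p A N C) (h1 : A' ≤ A) (h2 : C ≤ C') :
    InOp p A' N C' := by
  obtain ⟨D, a, b, c, d⟩ := h
  exact ⟨D, h1.trans a, b, c, d.trans h2⟩

theorem InOp.restrict {A N N' C : Subgroup G} (h : InOp p A N C) (h1 : A ≤ N') (h2 : N' ≤ N) :
    InOp p A N' C := by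
  obtain ⟨D, a, -, c, d⟩ := h
  exact ⟨D ⊓ N', le_inf a h1, inf_le_right, le_normalizer_inf (h2.trans c) le_normalizer,
    (pResOf_mono inf_le_left).trans d⟩

theorem InOp.map [Finite G] [Fact p.Prime] {G' : Type*} [Group G'] (f : G →* G')
    {A N C : Subgroup G} (h : InOp p A N C) : InOp p (A.map f) (N.map f) (C.map f) := by
  obtain ⟨D, a, b, c, d⟩ := h
  exact ⟨D.map f, map_mono a, map_mono b, le_normalizer_map' f c, (map_pResOf f D).ge.trans (map_mono d)⟩

theorem InOp.comap {G' : Type*} [Group G'] (f : G →* G') {A N : Subgroup G} {C : Subgroup G'}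
    (hA : A ≤ N) (h : InOp p (A.map f) (N.map f) C) : InOp p A N (C.comap f ⊓ N) := by
  obtain ⟨D, a, -, c, d⟩ := h
  refine ⟨D.comap f ⊓ N, le_inf (map_le_iff_le_comap.1 a) hA, inf_le_right,
    le_normalizer_inf (le_normalizer_comap' f c) le_normalizer,
    le_inf (map_le_iff_le_comap.1 ?_) ((pResOf_le _).trans inf_le_right)⟩
  exact (map_pResOf_le f _).trans ((pResOf_mono ((map_mono inf_le_left).trans (map_comap_le _ _))).trans d)

theorem inOp_bot_iff [Finite G] [Fact p.Prime] {A N : Subgroup G} :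
    InOp p A N ⊥ ↔ A ≤ pCoreOf p N := by
  constructor
  · rintro ⟨D, a, b, c, d⟩
    exact a.trans (le_pCoreOf b c (pResOf_eq_bot_iff.1 (eq_bot_iff.2 d)))
  · intro h
    exact ⟨_, h, pCoreOf_le N, le_normalizer_pCoreOf N,
      (pResOf_eq_bot_iff.2 (pCoreOf_isPGroup N)).le⟩

theorem InOp.le_pCoreOf [Finite G] [Fact p.Prime] {A N C : Subgroup G} (h : InOp p A N C)
    (hC : IsPGroup p C) : A ≤ pCoreOf p N := by
  obtain ⟨D, a, b, c, d⟩ := h
  refine inOp_bot_iff.1 ⟨D, a, b, c, pResOf_le_iff.2 fun x hx ho => ?_⟩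
  exact mem_bot.2 (eq_one_of_isPGroup_of_coprime hC (d (mem_pResOf hx ho)) ho)

theorem inOp_ker_iff [Finite G] [Fact p.Prime] {G' : Type*} [Group G'] [Finite G'] (f : G →* G')
    {A N : Subgroup G} (hA : A ≤ N) : InOp p A N f.ker ↔ A.map f ≤ pCoreOf p (N.map f) := by
  rw [← inOp_bot_iff]
  refine ⟨fun h => by simpa using h.map f, fun h => (h.comap f hA).mono le_rfl inf_le_left⟩

theorem inOp_top_ker_iff [Finite G] [Fact p.Prime] {G' : Type*} [Group G'] [Finite G']
    {f : G →* G'} (hf : Function.Surjective f) {A : Subgroup G} :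
    InOp p A ⊤ f.ker ↔ A ≤ (pCore p G').comap f := by
  rw [inOp_ker_iff f le_top, map_top_of_surjective f hf, pCoreOf_top, map_le_iff_le_comap]

theorem inOp_top_iff [Finite G] [Fact p.Prime] {A C : Subgroup G} [C.Normal] :
    InOp p A ⊤ C ↔ A ≤ (pCore p (G ⧸ C)).comap (QuotientGroup.mk' C) := by
  rw [← inOp_top_ker_iff (QuotientGroup.mk'_surjective C), QuotientGroup.ker_mk']

theorem inOp_subgroupOf_iff [Finite G] [Fact p.Prime] {A N C : Subgroup G} (hA : A ≤ N) :
    InOp p (A.subgroupOf N) ⊤ (C.subgroupOf N) ↔ InOp p A N C := by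
  constructor
  · intro h
    have := h.map N.subtype
    rw [map_top_subtype', subgroupOf_map_subtype, subgroupOf_map_subtype, inf_eq_left.2 hA] at this
    exact this.mono le_rfl inf_le_left
  · intro h
    refine (InOp.comap N.subtype le_top (C := C) ?_).mono le_rfl inf_le_left
    rwa [map_top_subtype', subgroupOf_map_subtype, inf_eq_left.2 hA]

theorem inOp_iff_subgroupOf [Finite G] [Fact p.Prime] {A N C : Subgroup G} (hA : A ≤ N)
    [(C.subgroupOf N).Normal] : (A.subgroupOf N).map (QuotientGroup.mk' (C.subgroupOf N)) ≤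
      pCore p (N ⧸ C.subgroupOf N) ↔ InOp p A N C := by
  rw [map_le_iff_le_comap, ← inOp_top_iff, inOp_subgroupOf_iff hA]

theorem InOp.le_sup [Finite G] [Fact p.Prime] {A N C P : Subgroup G} (h : InOp p A N C)
    (hP : IsSylowOf p P N) :
    ∃ D : Subgroup G, A ≤ D ∧ D ≤ N ∧ N ≤ normalizer (D : Set G) ∧ D ≤ C ⊔ P := by
  obtain ⟨D, a, b, c, d⟩ := h
  refine ⟨D, a, b, c, ?_⟩
  rw [← (hP.inf_of_le b (hP.le.trans c)).sup_pResOf]
  exact sup_le (inf_le_left.trans le_sup_right) (d.trans le_sup_left)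

theorem comap_pCore_eq_of_ker_eq [Finite G] [Fact p.Prime] {G₁ G₂ : Type*} [Group G₁] [Group G₂]
    {f₁ : G →* G₁} {f₂ : G →* G₂} (h₁ : Function.Surjective f₁) (h₂ : Function.Surjective f₂)
    (h : f₁.ker = f₂.ker) : (pCore p G₁).comap f₁ = (pCore p G₂).comap f₂ := by
  have := Finite.of_surjective _ h₁
  have := Finite.of_surjective _ h₂
  refine le_antisymm ?_ ?_
  · rw [← inOp_top_ker_iff h₂, ← h, inOp_top_ker_iff h₁]
  · rw [← inOp_top_ker_iff h₁, h, inOp_top_ker_iff h₂]

/-! ### `p`-constraint -/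

instance pPrimePCore_normal_inst : (pPrimePCore p G).Normal := by
  unfold pPrimePCore; infer_instance

theorem pPrimeCore_le_pPrimePCore : pPrimeCore p G ≤ pPrimePCore p G := fun x hx => by
  rw [pPrimePCore, mem_comap, QuotientGroup.mk'_apply, (QuotientGroup.eq_one_iff x).2 hx]
  exact one_mem _

theorem pCore_le_pPrimePCore : pCore p G ≤ pPrimePCore p G :=
  map_le_iff_le_comap.1 (map_pCore_le _ (QuotientGroup.mk'_surjective _))

theorem map_pPrimePCore : (pPrimePCore p G).map (QuotientGroup.mk' (pPrimeCore p G)) =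
    pCore p (G ⧸ pPrimeCore p G) := map_comap_eq_self_of_surjective (QuotientGroup.mk'_surjective _) _

theorem ker_eq_pPrimeCore [Finite G] {G' : Type*} [Group G'] {f : G →* G'}
    (hf : Function.Surjective f) (hk : (Nat.card f.ker).Coprime p) (h : pPrimeCore p G' = ⊥) :
    f.ker = pPrimeCore p G :=
  le_antisymm (le_pPrimeCore inferInstance hk) ((Subgroup.map_eq_bot_iff _).1
    (eq_bot_iff.2 ((map_pPrimeCore_le f hf).trans h.le)))

theorem pPrimePCore_eq_comap [Finite G] [Fact p.Prime] {G' : Type*} [Group G'] {f : G →* G'}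
    (hf : Function.Surjective f) (hk : f.ker = pPrimeCore p G) :
    pPrimePCore p G = (pCore p G').comap f :=
  comap_pCore_eq_of_ker_eq (QuotientGroup.mk'_surjective _) hf (by rw [QuotientGroup.ker_mk', hk])

theorem pPrimePCore_eq_pCore [Finite G] [Fact p.Prime] (h : pPrimeCore p G = ⊥) :
    pPrimePCore p G = pCore p G := by
  rw [pPrimePCore_eq_comap (f := MonoidHom.id G) Function.surjective_id (by rw [h]; rfl), comap_id]

theorem IsSylowOf.map_eq_of_isPGroup [Finite G] [Fact p.Prime] {G' : Type*} [Group G'] [Finite G']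
    (f : G →* G') {P H : Subgroup G} (hP : IsSylowOf p P H) (h : IsPGroup p (H.map f)) :
    P.map f = H.map f := ((hP.map f).eq_of_le h le_rfl (map_mono hP.le)).symm

theorem isPConstrained_iff' [Finite G] [Fact p.Prime] : IsPConstrained p G ↔
    ∀ P, IsSylowOf p P (pPrimePCore p G) → centralizer (P : Set G) ≤ pPrimePCore p G :=
  ⟨fun h P hP => by obtain ⟨S, -, rfl⟩ := hP.exists_sylow; exact h S,
    fun h S => h _ (isSylowOf_map_subtype S)⟩

theorem isPConstrained_iff [Finite G] [Fact p.Prime] : IsPConstrained p G ↔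
    centralizer (pCore p (G ⧸ pPrimeCore p G) : Set (G ⧸ pPrimeCore p G)) ≤
      pCore p (G ⧸ pPrimeCore p G) := by
  have key : ∀ P, IsSylowOf p P (pPrimePCore p G) →
      P.map (QuotientGroup.mk' (pPrimeCore p G)) = pCore p (G ⧸ pPrimeCore p G) := fun P hP => by
    rw [hP.map_eq_of_isPGroup _ (by rw [map_pPrimePCore]; exact pCore_isPGroup), map_pPrimePCore]
  rw [isPConstrained_iff']
  constructor
  · intro h
    obtain ⟨P, hP⟩ := exists_isSylowOf (p := p) (pPrimePCore p G)
    nth_rewrite 1 [← key P hP]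
    rw [Core.centralizer_map_mk' (coprime_card_card hP.isP pPrimeCore_coprime)
      (Or.inl (isSolvable_of_isPGroup' hP.isP)), ← map_pPrimePCore]
    exact map_mono (h P hP)
  · intro h P hP
    refine map_le_iff_le_comap.1 ((le_centralizer_map _ le_rfl).trans ?_)
    rwa [key P hP]

theorem isPConstrained_iff_of_eq_bot [Finite G] [Fact p.Prime] (h : pPrimeCore p G = ⊥) :
    IsPConstrained p G ↔ centralizer (pCore p G : Set G) ≤ pCore p G := by
  rw [isPConstrained_iff', pPrimePCore_eq_pCore h]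
  have h1 : IsSylowOf p (pCore p G) (pCore p G) :=
    ⟨le_rfl, pCore_isPGroup, by rw [relIndex_self]; exact (Fact.out : p.Prime).not_dvd_one⟩
  exact ⟨fun h => h _ h1, fun h P hP => by rwa [← hP.eq_of_le pCore_isPGroup le_rfl hP.le]⟩

theorem isPConstrained_of_surjective [Finite G] [Fact p.Prime] {G' : Type*} [Group G']
    {f : G →* G'} (hf : Function.Surjective f) (hk : (Nat.card f.ker).Coprime p)
    (h : centralizer (pCore p G' : Set G') ≤ pCore p G') : IsPConstrained p G := by
  have := Finite.of_surjective _ hf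
  have h1 := pPrimePCore_eq_comap hf (ker_eq_pPrimeCore hf hk (pPrimeCore_eq_bot_of_centralizer_le h))
  rw [isPConstrained_iff', h1]
  intro P hP
  refine map_le_iff_le_comap.1 ((le_centralizer_map _ le_rfl).trans ?_)
  rwa [hP.map_eq_of_isPGroup f (pCore_isPGroup.to_le (map_comap_le _ _)),
    map_comap_eq_self_of_surjective hf]

/-- `H` has characteristic `p` -/
def CharPOf (p : ℕ) (H : Subgroup G) : Prop :=
  H ⊓ centralizer (pCoreOf p H : Set G) ≤ pCoreOf p H

theorem charPOf_top : CharPOf p (⊤ : Subgroup G) ↔ centralizer (pCore p G : Set G) ≤ pCore p G := by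
  rw [CharPOf, pCoreOf_top, top_inf_eq]

theorem charPOf_iff {H : Subgroup G} :
    CharPOf p H ↔ centralizer (pCore p H : Set H) ≤ pCore p H := by
  constructor
  · intro h x hx
    refine mem_pCoreOf.1 (h ⟨x.2, ?_⟩)
    rintro _ ⟨y, hy, rfl⟩
    exact congrArg Subtype.val (hx y hy)
  · rintro h x ⟨hx, hx2⟩
    exact mem_pCoreOf.2 (h (x := ⟨x, hx⟩) fun y hy => Subtype.ext (hx2 y (mem_pCoreOf.2 hy)))

theorem card_ker_subgroupMap {G' : Type*} [Group G'] (f : G →* G') (H : Subgroup G) :
    Nat.card (f.subgroupMap H).ker = Nat.card (f.ker ⊓ H : Subgroup G) := by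
  rw [← card_subgroupOf_of_le (inf_le_right : f.ker ⊓ H ≤ H)]
  congr 2
  ext x
  simp [MonoidHom.mem_ker, mem_subgroupOf, Subtype.ext_iff]

theorem isPConstrained_of_map [Finite G] [Fact p.Prime] {G' : Type*} [Group G'] (f : G →* G')
    {H : Subgroup G} (hk : (Nat.card (f.ker ⊓ H : Subgroup G)).Coprime p)
    (h : CharPOf p (H.map f)) : IsPConstrained p H :=
  isPConstrained_of_surjective (f.subgroupMap_surjective H) (by rwa [card_ker_subgroupMap])
    (charPOf_iff.1 h)

theorem CharPOf.eq_one [Finite G] [Fact p.Prime] {H P : Subgroup G} (h : CharPOf p H)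
    (hP : IsPGroup p P) (hPH : P ≤ normalizer (H : Set G)) {x : G} (hx : x ∈ H)
    (ho : (orderOf x).Coprime p) (h1 : x ∈ centralizer (P : Set G))
    (h2 : x ∈ centralizer ((pCoreOf p H ⊓ centralizer (P : Set G) : Subgroup G) : Set G)) :
    x = 1 := by
  have := Core.pq_lemma (Q := zpowers x) (U := pCoreOf p H) hP (by rwa [Nat.card_zpowers])
    (pCoreOf_isPGroup H) (le_centralizer_iff.1 (zpowers_le.2 h1))
    (hPH.trans (normalizer_le_normalizer_pCoreOf H)) (zpowers_le.2 (le_normalizer_pCoreOf H hx))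
    (le_centralizer_iff.1 (zpowers_le.2 h2))
  exact eq_one_of_isPGroup_of_coprime (pCoreOf_isPGroup H) (h ⟨hx, this (mem_zpowers x)⟩) ho

/-- subgroups between `C_H(P)` and `N_H(P)` that contain or centralize `P` inherit
characteristic `p` -/
theorem CharPOf.local [Finite G] [Fact p.Prime] {H P L : Subgroup G} (h : CharPOf p H)
    (hP : IsPGroup p P) (hPH : P ≤ normalizer (H : Set G)) (hLH : L ≤ H)
    (h1 : H ⊓ centralizer (P : Set G) ≤ L) (h2 : L ≤ normalizer (P : Set G))
    (h3 : P ≤ L ∨ L ≤ centralizer (P : Set G)) : CharPOf p L := by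
  refine le_pCoreOf inf_le_left (le_normalizer_inf le_normalizer
    (le_normalizer_centralizer (le_normalizer_pCoreOf L))) (isPGroup_of_forall_coprime ?_)
  intro x hx ho
  refine h.eq_one hP hPH (hLH hx.1) ho ?_ (centralizer_anti ?_ hx.2)
  · rcases h3 with h3 | h3
    · exact centralizer_anti (le_pCoreOf h3 h2 hP) hx.2
    · exact h3 hx.1
  · exact le_pCoreOf ((inf_le_inf_right _ (pCoreOf_le H)).trans h1)
      (le_normalizer_inf (hLH.trans (le_normalizer_pCoreOf H)) (le_normalizer_centralizer h2))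
      (pCoreOf_isPGroup H).to_inf_left

theorem CharPOf.pPrimeCoreOf_eq_bot [Finite G] {H : Subgroup G} (h : CharPOf p H) :
    pPrimeCoreOf p H = ⊥ :=
  pPrimeCoreOf_eq_bot_iff.2 (pPrimeCore_eq_bot_of_centralizer_le (charPOf_iff.1 h))

theorem CharPOf.of_le {H L : Subgroup G} (h : CharPOf p H) (hLH : L ≤ H) (h1 : pCoreOf p H ≤ L) :
    CharPOf p L := by
  have : pCoreOf p H ≤ pCoreOf p L :=
    le_pCoreOf h1 (hLH.trans (le_normalizer_pCoreOf H)) (pCoreOf_isPGroup H)
  exact ((inf_le_inf hLH (centralizer_anti this)).trans h).trans this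

/-! ### `p`-solvable groups -/

theorem relIndex_inf_dvd {A B K : Subgroup G} (hAB : B ≤ normalizer (A : Set G)) :
    A.relIndex (B ⊓ K) ∣ A.relIndex B := by
  have : (A.subgroupOf B).Normal := normal_subgroupOf_of_le_normalizer hAB
  rw [← relIndex_subgroupOf (inf_le_left : B ⊓ K ≤ B)]
  exact relIndex_dvd_index_of_normal _ _

theorem isPSolvable_exists_step [Finite G] [hp : Fact p.Prime] (h : IsPSolvable p G)
    {N C : Subgroup G} [N.Normal] [C.Normal] (hlt : N < C) :
    ∃ M : Subgroup G, M.Normal ∧ N < M ∧ M ≤ C ∧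
      ((∃ k, N.relIndex M = p ^ k) ∨ (N.relIndex M).Coprime p) := by
  obtain ⟨n, H, h0, hn, -, hnorm, hidx⟩ := h
  have : ∃ i : Fin n, H i.castSucc ⊓ C ≤ N ∧ ¬ H i.succ ⊓ C ≤ N := by
    by_contra hcon
    push Not at hcon
    have : ∀ i, H i ⊓ C ≤ N := by
      intro i
      induction i using Fin.induction with
      | zero => rw [h0, bot_inf_eq]; exact bot_le
      | succ i ih => exact hcon i ih
    have := this (Fin.last n)
    rw [hn, top_inf_eq] at this
    exact hlt.not_ge this
  obtain ⟨i, h1, h2⟩ := this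
  have := hnorm i.succ
  have := hnorm i.castSucc
  have hd : N.relIndex ((H i.succ ⊓ C) ⊔ N) ∣ (H i.castSucc).relIndex (H i.succ) := by
    rw [relIndex_sup_right]
    refine dvd_trans ?_ (relIndex_inf_dvd (K := C) (le_normalizer_of_normal))
    rw [← inf_relIndex_right (H i.castSucc)]
    exact relIndex_dvd_of_le_left _ ((inf_le_inf_left _ inf_le_right).trans h1)
  refine ⟨(H i.succ ⊓ C) ⊔ N, inferInstance, lt_of_le_of_ne le_sup_right
    fun he => h2 (le_sup_left.trans he.ge), sup_le inf_le_right hlt.le, ?_⟩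
  rcases hidx i with ⟨m, hm⟩ | hm
  · obtain ⟨k, -, hk⟩ := (Nat.dvd_prime_pow hp.out).1 (hm ▸ hd)
    exact Or.inl ⟨k, hk⟩
  · exact Or.inr (hm.coprime_dvd_left hd)

theorem isPSolvable_of_injective [hp : Fact p.Prime] {G' : Type*} [Group G'] {f : G' →* G}
    (hf : Function.Injective f) (h : IsPSolvable p G) : IsPSolvable p G' := by
  obtain ⟨n, H, h0, hn, hmono, hnorm, hidx⟩ := h
  refine ⟨n, fun i => (H i).comap f, by simp [h0, (MonoidHom.ker_eq_bot_iff f).2 hf], by simp [hn],
    fun i j hij => comap_mono (hmono hij), fun i => (hnorm i).comap f, fun i => ?_⟩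
  have := hnorm i.castSucc
  have hd : ((H i.castSucc).comap f).relIndex ((H i.succ).comap f) ∣
      (H i.castSucc).relIndex (H i.succ) := by
    rw [relIndex_comap, map_comap_eq, inf_comm]
    exact relIndex_inf_dvd le_normalizer_of_normal
  rcases hidx i with ⟨m, hm⟩ | hm
  · obtain ⟨k, -, hk⟩ := (Nat.dvd_prime_pow hp.out).1 (hm ▸ hd)
    exact Or.inl ⟨k, hk⟩
  · exact Or.inr (hm.coprime_dvd_left hd)

theorem relIndex_map_dvd {G' : Type*} [Group G'] (f : G →* G') {A B : Subgroup G} (h : A ≤ B) :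
    (A.map f).relIndex (B.map f) ∣ A.relIndex B := by
  rw [← relIndex_comap]
  exact relIndex_dvd_of_le_left _ (le_comap_map f A)

theorem isPSolvable_of_surjective [hp : Fact p.Prime] {G' : Type*} [Group G'] {f : G →* G'}
    (hf : Function.Surjective f) (h : IsPSolvable p G) : IsPSolvable p G' := by
  obtain ⟨n, H, h0, hn, hmono, hnorm, hidx⟩ := h
  refine ⟨n, fun i => (H i).map f, by simp [h0], by simp only [hn, map_top_of_surjective f hf],
    fun i j hij => map_mono (hmono hij), fun i => (hnorm i).map f hf, fun i => ?_⟩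
  have hd := relIndex_map_dvd f (hmono (Fin.castSucc_le_succ i))
  rcases hidx i with ⟨m, hm⟩ | hm
  · obtain ⟨k, -, hk⟩ := (Nat.dvd_prime_pow hp.out).1 (hm ▸ hd)
    exact Or.inl ⟨k, hk⟩
  · exact Or.inr (hm.coprime_dvd_left hd)

theorem isPSolvable_subgroup [Fact p.Prime] (h : IsPSolvable p G) (H : Subgroup G) :
    IsPSolvable p H := isPSolvable_of_injective H.subtype_injective h

theorem isPSolvable_of_le [Fact p.Prime] {H K : Subgroup G} (h : IsPSolvable p K) (hle : H ≤ K) :
    IsPSolvable p H := isPSolvable_of_injective (inclusion_injective hle) h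

theorem isPSolvable_quotient [Fact p.Prime] (h : IsPSolvable p G) (N : Subgroup G) [N.Normal] :
    IsPSolvable p (G ⧸ N) := isPSolvable_of_surjective (QuotientGroup.mk'_surjective N) h

theorem isPSolvable_map [Fact p.Prime] {G' : Type*} [Group G'] (f : G →* G') {H : Subgroup G}
    (h : IsPSolvable p H) : IsPSolvable p (H.map f) :=
  isPSolvable_of_surjective (f.subgroupMap_surjective H) h

/-- Hall–Higman Lemma 1.2.3 -/
theorem centralizer_pCore_le_of_isPSolvable [Finite G] [Fact p.Prime] (h : IsPSolvable p G)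
    (hO : pPrimeCore p G = ⊥) : centralizer (pCore p G : Set G) ≤ pCore p G := by
  by_contra hcon
  have hlt : pCore p G ⊓ centralizer (pCore p G : Set G) < centralizer (pCore p G : Set G) :=
    lt_of_le_of_ne inf_le_right fun he => hcon (he.ge.trans inf_le_left)
  obtain ⟨M, hM, h1, h2, h3⟩ := isPSolvable_exists_step h hlt
  refine h1.not_ge (le_inf (le_pCore hM ?_) h2)
  rcases h3 with h3 | h3
  · exact isPGroup_of_relIndex pCore_isPGroup.to_inf_left h3
  · have hS : IsSylowOf p (pCore p G ⊓ centralizer (pCore p G : Set G)) M :=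
      ⟨h1.le, pCore_isPGroup.to_inf_left, ((Nat.Prime.coprime_iff_not_dvd Fact.out).1 h3.symm)⟩
    have := hS.npc_of_burnside (inf_le_left.trans (h2.trans (centralizer_anti inf_le_left)))
    exact pResOf_eq_bot_iff.1 (eq_bot_of_pPrimeCore_eq_bot hO (normal_of_forall_mem_normalizer fun g =>
      normalizer_le_normalizer_pResOf M (mem_normalizer_of_normal M g)) (npc_iff_coprime.1 this))

theorem centralizer_pPrimeCore_le_of_isPSolvable [Finite G] [Fact p.Prime] (h : IsPSolvable p G)
    (hO : pCore p G = ⊥) : centralizer (pPrimeCore p G : Set G) ≤ pPrimeCore p G := by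
  by_contra hcon
  have hlt : pPrimeCore p G ⊓ centralizer (pPrimeCore p G : Set G) <
      centralizer (pPrimeCore p G : Set G) :=
    lt_of_le_of_ne inf_le_right fun he => hcon (he.ge.trans inf_le_left)
  obtain ⟨M, hM, h1, h2, h3⟩ := isPSolvable_exists_step h hlt
  have hc : (Nat.card (pPrimeCore p G ⊓ centralizer (pPrimeCore p G : Set G) : Subgroup G)).Coprime p :=
    pPrimeCore_coprime.coprime_dvd_left (card_dvd_of_le inf_le_left)
  rcases h3 with h3 | h3
  · obtain ⟨P, hP⟩ := exists_isSylowOf (p := p) M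
    have e := hP.sup_eq_of_relIndex h1.le h3
    have hn : M ≤ normalizer (P : Set G) := by
      rw [← e]
      exact sup_le le_normalizer ((le_centralizer_iff.1 ((hP.le.trans h2).trans
        (centralizer_anti inf_le_left))).trans (centralizer_le_normalizer _))
    have := (le_pCoreOf hP.le hn hP.isP).trans (pCoreOf_le_pCore M)
    rw [hO, le_bot_iff] at this
    rw [this, bot_sup_eq] at e
    exact h1.ne e
  · refine h1.not_ge (le_inf (le_pPrimeCore hM ?_) h2)
    rw [← card_mul_relIndex h1.le]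
    exact Nat.Coprime.mul_left hc h3

theorem charPOf_of_isPSolvable [Finite G] [Fact p.Prime] {H : Subgroup G} (h : IsPSolvable p H)
    (hO : pPrimeCoreOf p H = ⊥) : CharPOf p H :=
  charPOf_iff.2 (centralizer_pCore_le_of_isPSolvable h (pPrimeCoreOf_eq_bot_iff.1 hO))

theorem isPConstrained_of_isPSolvable [Finite G] [Fact p.Prime] (h : IsPSolvable p G) :
    IsPConstrained p G :=
  isPConstrained_iff.2 (centralizer_pCore_le_of_isPSolvable (isPSolvable_quotient h _)
    pPrimeCore_quotient_pPrimeCore)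

/-! ### `p`-stability -/

theorem isPStableOn_iff [Finite G] [Fact p.Prime] {V : Subgroup G} [V.Normal] :
    IsPStableOn p V ↔ ∀ A : Subgroup G, ⁅⁅V, A⁆, A⁆ = ⊥ → InOp p A ⊤ (centralizer (V : Set G)) := by
  constructor
  · intro h A hA
    rw [inOp_top_iff]
    exact fun a ha => h a (commutator_eq_bot_of_le hA (commutator_mono le_rfl (zpowers_le.2 ha))
      (zpowers_le.2 ha))
  · intro h a ha
    exact inOp_top_iff.1 (h _ ha) (mem_zpowers a)

theorem isPStable_iff [Finite G] [Fact p.Prime] : IsPStable p G ↔ Odd p ∧ pCore p G ≠ ⊥ ∧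
    ∀ A P : Subgroup G, IsPGroup p A → IsPGroup p P → A ≤ normalizer (P : Set G) →
      P ≤ pPrimePCore p G → (pPrimeCore p G ⊔ P).Normal → ⁅⁅P, A⁆, A⁆ = ⊥ →
        InOp p A (normalizer (P : Set G)) (centralizer (P : Set G)) := by
  refine and_congr_right fun _ => and_congr_right fun _ => ⟨fun h A P h1 h2 h3 h4 h5 h6 => ?_,
    fun h A P h1 h2 h3 h4 h5 h6 => ?_⟩
  · exact (inOp_iff_subgroupOf h3).1
      (h A P h1 h2 (fun a ha x hx => conj_mem_of_mem_normalizer (h3 ha) hx) h4 h5 h6)
  · have h3' : A ≤ normalizer (P : Set G) := fun a ha => mem_normalizer_of_conj_mem (h3 a ha)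
    exact (inOp_iff_subgroupOf h3').2 (h A P h1 h2 h3' h4 h5 h6)

/-- stability on all normal `p`-subgroups, for acting `p`-subgroups -/
def StabN (p : ℕ) (G : Type*) [Group G] : Prop :=
  ∀ A B : Subgroup G, IsPGroup p A → IsPGroup p B → B.Normal → ⁅⁅B, A⁆, A⁆ = ⊥ →
    InOp p A ⊤ (centralizer (B : Set G))

theorem isPStable_iff_of_eq_bot [Finite G] [Fact p.Prime] (hO : pPrimeCore p G = ⊥) :
    IsPStable p G ↔ Odd p ∧ pCore p G ≠ ⊥ ∧ StabN p G := by
  rw [isPStable_iff, pPrimePCore_eq_pCore hO, hO]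
  refine and_congr_right fun _ => and_congr_right fun _ => ⟨fun h A B h1 h2 h3 h4 => ?_,
    fun h A P h1 h2 h3 h4 h5 h6 => ?_⟩
  · have := h A B h1 h2 le_normalizer_of_normal (le_pCore h3 h2) (by rwa [bot_sup_eq]) h4
    rwa [normalizer_eq_top] at this
  · rw [bot_sup_eq] at h5
    rw [normalizer_eq_top]
    exact h A P h1 h2 h5 h6

theorem isPStable_iff_quotient [Finite G] [Fact p.Prime] :
    IsPStable p G ↔ Odd p ∧ pCore p G ≠ ⊥ ∧ StabN p (G ⧸ pPrimeCore p G) := by
  rw [isPStable_iff]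
  set π := QuotientGroup.mk' (pPrimeCore p G) with hπ
  have hs : Function.Surjective π := QuotientGroup.mk'_surjective _
  have hk : π.ker = pPrimeCore p G := QuotientGroup.ker_mk' _
  have hinj : ∀ T : Subgroup G, IsPGroup p T → ∀ x ∈ T, π x = 1 → x = 1 := fun T hT =>
    inj_on_of_coprime (H := ⊤) (by rw [inf_top_eq, hk]; exact pPrimeCore_coprime) hT le_top
  refine and_congr_right fun _ => and_congr_right fun _ => ⟨fun h A B h1 h2 h3 h4 => ?_,
    fun h A P h1 h2 h3 h4 h5 h6 => ?_⟩
  · obtain ⟨T, -, hT, e⟩ := exists_isPGroup_map_eq π (H := ⊤)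
      (IsPGroup.to_sup_of_normal_right h1 h2) (by rw [map_top_of_surjective _ hs]; exact le_top)
    have eA := map_comap_inf_of_le (le_sup_left.trans e.ge : A ≤ T.map π)
    have eB := map_comap_inf_of_le (le_sup_right.trans e.ge : B ≤ T.map π)
    have hAB : A.comap π ⊓ T ≤ normalizer ((B.comap π ⊓ T : Subgroup G) : Set G) :=
      le_normalizer_inf le_normalizer_of_normal (inf_le_right.trans le_normalizer)
    have := (h (A.comap π ⊓ T) (B.comap π ⊓ T) hT.to_inf_right hT.to_inf_right hAB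
      (inf_le_left.trans (comap_mono (le_pCore h3 h2))) ?_ ?_).map π
    · rwa [← Core.normalizer_map_mk' (coprime_card_card hT.to_inf_right pPrimeCore_coprime)
        (Or.inl (isSolvable_of_isPGroup' hT.to_inf_right)),
        ← Core.centralizer_map_mk' (coprime_card_card hT.to_inf_right pPrimeCore_coprime)
        (Or.inl (isSolvable_of_isPGroup' hT.to_inf_right)), ← hπ, eA, eB, normalizer_eq_top] at this
    · have : pPrimeCore p G ⊔ B.comap π ⊓ T = B.comap π := by
        have h5 := comap_map_eq π (B.comap π ⊓ T)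
        rw [eB, hk, sup_comm] at h5
        exact h5.symm
      rw [this]; infer_instance
    · refine eq_bot_of_map_eq_bot (hinj T hT) ?_ ?_
      · exact (commutator_mono (commutator_mono inf_le_right inf_le_right) inf_le_right).trans
          ((commutator_mono (commutator_le_left' le_normalizer) le_rfl).trans
            (commutator_le_left' le_normalizer))
      · rw [map_commutator, map_commutator, eA, eB, h4]
  · have hn : (P.map π).Normal := by
      have := h5.map π hs
      rwa [Subgroup.map_sup, (Subgroup.map_eq_bot_iff _).2 hk.ge, bot_sup_eq] at this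
    have := h (A.map π) (P.map π) (h1.map π) (h2.map π) hn
      (by rw [← map_commutator, ← map_commutator, h6, Subgroup.map_bot])
    refine (InOp.comap π h3 (this.restrict (map_mono h3) le_top)).mono le_rfl fun x hx => ?_
    exact mem_centralizer_of_map (hinj P h2) hx.2 hx.1

theorem pCore_quotient_ne_bot [Finite G] [Fact p.Prime] (h : pCore p G ≠ ⊥) :
    pCore p (G ⧸ pPrimeCore p G) ≠ ⊥ := fun hb => h <|
  eq_bot_of_map_eq_bot (f := QuotientGroup.mk' (pPrimeCore p G)) (inj_on_of_coprime (H := ⊤)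
    (by rw [inf_top_eq, QuotientGroup.ker_mk']; exact pPrimeCore_coprime) pCore_isPGroup le_top)
    le_rfl (eq_bot_iff.2 ((map_pCore_le _ (QuotientGroup.mk'_surjective _)).trans hb.le))

/-! ### the ZJ-theorem -/

theorem ZJOf_inf_normal [Finite G] [Fact p.Prime] (h2 : p ≠ 2) (he : Odd e ∨ e = 0)
    (hst : StabN p G) {P : Subgroup G} (hP : IsSylowOf p P ⊤) (B : Subgroup G) (hBn : B.Normal)
    (hB : IsPGroup p B) : (ZJOf e P ⊓ B).Normal := by
  induction B using (measure fun B : Subgroup G => Nat.card B).wf.induction with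
  | h B ih =>
  set Z := ZJOf e P with hZ
  have hBP : B ≤ P := hP.le_of_normalizes hB le_top le_normalizer_of_normal
  by_cases hcl : normalClosure ((Z ⊓ B : Subgroup G) : Set G) = B
  swap
  · have hle : normalClosure ((Z ⊓ B : Subgroup G) : Set G) ≤ B :=
      normalClosure_le_normal inf_le_right
    have := ih _ (card_lt_of_lt (lt_of_le_of_ne hle hcl)) inferInstance (hB.to_le hle)
    rwa [le_antisymm (inf_le_inf_left _ hle) (le_inf inf_le_left le_normalClosure)] at this
  by_cases hb : B = ⊥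
  · rw [hb, inf_bot_eq]; infer_instance
  have hW := ih ⁅B, B⁆ (card_lt_of_lt (Core.commutator_lt_of_isPGroup hB hB le_normalizer hb))
    inferInstance (hB.to_le (commutator_le_left _ _))
  have hBB : ⁅B, B⁆ ≤ Z := by
    refine le_trans ?_ (inf_le_left : Z ⊓ ⁅B, B⁆ ≤ Z)
    nth_rewrite 1 [← hcl]
    refine commutator_closure_left_le le_normalizer_of_normal fun x hx y hy => ?_
    obtain ⟨z, hz, hzx⟩ := Group.mem_conjugatesOfSet_iff.1 hx
    obtain ⟨g, rfl⟩ := isConj_iff.1 hzx
    have : ⁅g * z * g⁻¹, y⁆ = g * ⁅z, g⁻¹ * y * g⁆ * g⁻¹ := by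
      simp only [commutatorElement_def]; group
    rw [this]
    have hy' := hBn.conj_mem' y hy g
    refine hW.conj_mem _ (mem_inf.2 ⟨?_, commutator_mem_commutator hz.2 hy'⟩) g
    exact commutator_le_left' (hBP.trans (le_normalizer_ZJOf P)) (commutator_mem_commutator hz.1 hy')
  set L := (normalizer ((Z ⊓ B : Subgroup G) : Set G)).normalCore with hL
  have hPZ : P ≤ normalizer ((Z ⊓ B : Subgroup G) : Set G) :=
    le_normalizer_inf (le_normalizer_ZJOf P) le_normalizer_of_normal
  have ha : ∀ A ∈ maxEA e P, B ≤ normalizer (A : Set G) → A ≤ L := by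
    intro A hA hn
    obtain ⟨D, a, -, c, d⟩ := (hst A B (hP.isP.to_le hA.1) hB hBn (commutator_eq_bot_of_le
      (commutator_self_eq_bot hA.2.1.1) (commutator_le_right' hn) le_rfl)).le_sup hP
    have := normal_of_top_le_normalizer c
    refine a.trans (normal_le_normalCore.2 (d.trans (sup_le ?_ hPZ)))
    exact (centralizer_anti inf_le_right).trans (centralizer_le_normalizer _)
  have hR : IsSylowOf p (P ⊓ L) L := hP.inf_of_le le_top le_normalizer_of_normal
  have hall : ∀ A ∈ maxEA e P, A ≤ L := by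
    by_contra hcon
    push Not at hcon
    obtain ⟨A, ⟨hA, hAL⟩, hmax⟩ := Set.exists_max_image {A | A ∈ maxEA e P ∧ ¬ A ≤ L}
      (fun A => Nat.card (A ⊓ B : Subgroup G)) (Set.toFinite _) hcon
    obtain ⟨A', hA', -, hlt, hnle, -⟩ := exists_replacement h2 he hP.isP le_normalizer le_rfl hBP
      le_normalizer_of_normal hA (hBB.trans (ZJOf_le_of_mem hA)) fun hn => hAL (ha A hA hn)
    have hA'L : A' ≤ L := by
      by_contra h
      exact (card_lt_of_lt hlt).not_ge (hmax A' ⟨hA', h⟩)
    have hA'R : A' ≤ P ⊓ L := le_inf hA'.1 hA'L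
    refine hnle (le_trans ?_ (ZJOf_le_of_mem (mem_maxEA_of_le hA' hA'R inf_le_left)))
    nth_rewrite 1 [← hcl]
    refine (closure_le _).2 fun x hx => ?_
    obtain ⟨z, hz, hzx⟩ := Group.mem_conjugatesOfSet_iff.1 hx
    obtain ⟨g, rfl⟩ := isConj_iff.1 hzx
    obtain ⟨n, hn, l, hl, rfl⟩ := (mem_sup_of_le_normalizer_right (H := normalizer ((P ⊓ L : Subgroup G) : Set G))
      (N := L) le_normalizer_of_normal).1 ((sup_comm _ _).trans hR.frattini_sup ▸ mem_top g)
    have : n * l * z * (n * l)⁻¹ = n * (l * z * l⁻¹) * n⁻¹ := by group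
    rw [SetLike.mem_coe, this]
    exact conj_mem_of_mem_normalizer (normalizer_le_normalizer_ZJOf _ hn)
      (ZJOf_le_ZJOf hA' hA'R inf_le_left (conj_mem_of_mem_normalizer (normalCore_le _ hl) hz).1)
  have hJ : JOf e P ≤ P ⊓ L := le_inf (JOf_le P) (JOf_le_iff.2 hall)
  refine normal_of_top_le_normalizer (hR.frattini_sup.ge.trans (sup_le (normalCore_le _) ?_))
  refine le_normalizer_inf ?_ le_normalizer_of_normal
  rw [hZ, ← ZJOf_eq_of_le hJ inf_le_left]
  exact normalizer_le_normalizer_ZJOf _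

theorem le_pCore_of_stabN [Finite G] [Fact p.Prime] (hst : StabN p G)
    (hc : centralizer (pCore p G : Set G) ≤ pCore p G) {Z : Subgroup G} (hZ : IsPGroup p Z)
    (hab : IsMulCommutative Z) (hn : pCore p G ≤ normalizer (Z : Set G)) : Z ≤ pCore p G := by
  rw [← pCoreOf_top]
  exact (hst Z _ hZ pCore_isPGroup inferInstance (commutator_eq_bot_of_le
    (commutator_self_eq_bot hab) (commutator_le_right' hn) le_rfl)).le_pCoreOf
      (pCore_isPGroup.to_le hc)

/-- Glauberman's ZJ-theorem -/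
theorem ZJOf_normal [Finite G] [Fact p.Prime] (h2 : p ≠ 2) (he : Odd e ∨ e = 0) (hst : StabN p G)
    (hc : centralizer (pCore p G : Set G) ≤ pCore p G) {P : Subgroup G} (hP : IsSylowOf p P ⊤) :
    (ZJOf e P).Normal := by
  have := ZJOf_inf_normal h2 he hst hP (pCore p G) inferInstance pCore_isPGroup
  rwa [inf_eq_left.2 (le_pCore_of_stabN hst hc (hP.isP.to_le (ZJOf_le P)) (isEA_ZJOf P).1
    ((pCoreOf_top (p := p) (G := G) ▸ hP.pCoreOf_le).trans (le_normalizer_ZJOf P)))] at this

theorem ZJOf_characteristic [Finite G] [Fact p.Prime] {P : Subgroup G} (hP : IsSylowOf p P ⊤)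
    (h : (ZJOf e P).Normal) : (ZJOf e P).Characteristic := by
  refine characteristic_iff_map_eq.2 fun φ => ?_
  have h1 := hP.map φ.toMonoidHom
  rw [map_top_of_surjective _ φ.surjective] at h1
  obtain ⟨g, -, hg⟩ := hP.exists_cj_eq h1
  rw [map_ZJOf_inj φ.injective, ← hg, ← cj_ZJOf, cj_eq_of_normal]

theorem stabN_of_isPStableOn [Finite G] [Fact p.Prime]
    (h : ∀ (P : Subgroup G) [P.Normal], IsPGroup p P → IsPStableOn p P) : StabN p G :=
  fun A B _ hB _ hq => isPStableOn_iff.1 (h B hB) A hq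

theorem odd_of_ne_two [hp : Fact p.Prime] (h : p ≠ 2) : Odd p := hp.out.odd_of_ne_two h

/-- factorization through the quotient by a normal `p'`-subgroup -/
theorem sup_normalizer_eq_top_of_map_normal [Finite G] [Fact p.Prime] {K W : Subgroup G} [K.Normal]
    (hK : (Nat.card K).Coprime p) (hW : IsPGroup p W) (h : (W.map (QuotientGroup.mk' K)).Normal) :
    K ⊔ normalizer (W : Set G) = ⊤ := by
  have := Core.normalizer_map_mk' (coprime_card_card hW hK) (Or.inl (isSolvable_of_isPGroup' hW))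
  rw [normalizer_eq_top] at this
  have h2 := congrArg (comap (QuotientGroup.mk' K)) this
  rw [comap_top, comap_map_eq, QuotientGroup.ker_mk', sup_comm] at h2
  exact h2.symm

theorem ZJ_factorization [Finite G] [Fact p.Prime] (h2 : p ≠ 2) (he : Odd e ∨ e = 0)
    (hc : IsPConstrained p G) (hst : StabN p (G ⧸ pPrimeCore p G)) {P : Subgroup G}
    (hP : IsSylowOf p P ⊤) : pPrimeCore p G ⊔ normalizer (ZJOf e P : Set G) = ⊤ := by
  refine sup_normalizer_eq_top_of_map_normal pPrimeCore_coprime (hP.isP.to_le (ZJOf_le P)) ?_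
  have h1 := hP.map (QuotientGroup.mk' (pPrimeCore p G))
  rw [map_top_of_surjective _ (QuotientGroup.mk'_surjective _)] at h1
  rw [map_ZJOf (inj_on_of_coprime (H := ⊤)
    (by rw [inf_top_eq, QuotientGroup.ker_mk']; exact pPrimeCore_coprime) hP.isP le_top)]
  exact ZJOf_normal h2 he hst (isPConstrained_iff.1 hc) h1

end Cfsg.Agent.PLoc
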