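import Cfsg.Agent.PLoc.Quad

/-!
Elementary facts on `SL(2, K)` used for quadratic action.
-/

set_option autoImplicit false

namespace Cfsg.Agent.PLoc

open Subgroup
open scoped commutatorElement Pointwise MatrixGroups

variable {K : Type*} [Field K] {p : ℕ}

/-- upper unitriangular matrices -/
def upT (t : K) : SL(2, K) := ⟨!![1, t; 0, 1], by simp [Matrix.det_fin_two_of]⟩

/-- lower unitriangular matrices -/
def loT (t : K) : SL(2, K) := ⟨!![1, 0; t, 1], by simp [Matrix.det_fin_two_of]⟩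

@[simp] theorem upT_00 (t : K) : upT t 0 0 = 1 := rfl
@[simp] theorem upT_01 (t : K) : upT t 0 1 = t := rfl
@[simp] theorem upT_10 (t : K) : upT t 1 0 = 0 := rfl
@[simp] theorem upT_11 (t : K) : upT t 1 1 = 1 := rfl
@[simp] theorem loT_00 (t : K) : loT t 0 0 = 1 := rfl
@[simp] theorem loT_01 (t : K) : loT t 0 1 = 0 := rfl
@[simp] theorem loT_10 (t : K) : loT t 1 0 = t := rfl
@[simp] theorem loT_11 (t : K) : loT t 1 1 = 1 := rfl

theorem sl2_ext {x y : SL(2, K)} (h1 : x 0 0 = y 0 0) (h2 : x 0 1 = y 0 1) (h3 : x 1 0 = y 1 0)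
    (h4 : x 1 1 = y 1 1) : x = y := by
  ext i j
  fin_cases i <;> fin_cases j <;> assumption

theorem sl2_mul (x y : SL(2, K)) (i j : Fin 2) : (x * y) i j = x i 0 * y 0 j + x i 1 * y 1 j := by
  simp [Matrix.mul_apply, Fin.sum_univ_two]

theorem sl2_det (x : SL(2, K)) : x 0 0 * x 1 1 - x 0 1 * x 1 0 = 1 := by
  have := x.det_coe
  rwa [Matrix.det_fin_two] at this

theorem sl2_inv_00 (x : SL(2, K)) : x⁻¹ 0 0 = x 1 1 := by simp [Matrix.adjugate_fin_two]
theorem sl2_inv_01 (x : SL(2, K)) : x⁻¹ 0 1 = -x 0 1 := by simp [Matrix.adjugate_fin_two]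
theorem sl2_inv_10 (x : SL(2, K)) : x⁻¹ 1 0 = -x 1 0 := by simp [Matrix.adjugate_fin_two]
theorem sl2_inv_11 (x : SL(2, K)) : x⁻¹ 1 1 = x 0 0 := by simp [Matrix.adjugate_fin_two]

theorem sl2_one_00 : (1 : SL(2, K)) 0 0 = 1 := by simp
theorem sl2_one_01 : (1 : SL(2, K)) 0 1 = 0 := by simp
theorem sl2_one_10 : (1 : SL(2, K)) 1 0 = 0 := by simp
theorem sl2_one_11 : (1 : SL(2, K)) 1 1 = 1 := by simp

theorem sl2_neg (x : SL(2, K)) (i j : Fin 2) : (-x) i j = -x i j := by simp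

theorem upT_mul (s t : K) : upT s * upT t = upT (s + t) :=
  sl2_ext (by simp [sl2_mul]) (by simp [sl2_mul, add_comm]) (by simp [sl2_mul]) (by simp [sl2_mul])

theorem loT_mul (s t : K) : loT s * loT t = loT (s + t) :=
  sl2_ext (by simp [sl2_mul]) (by simp [sl2_mul]) (by simp [sl2_mul]) (by simp [sl2_mul])

theorem upT_zero : upT (0 : K) = 1 := sl2_ext (by simp) (by simp) (by simp) (by simp)
theorem loT_zero : loT (0 : K) = 1 := sl2_ext (by simp) (by simp) (by simp) (by simp)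

theorem upT_pow (t : K) (n : ℕ) : upT t ^ n = upT (n * t) := by
  induction n with
  | zero => simp [upT_zero]
  | succ n ih => rw [pow_succ, ih, upT_mul]; congr 1; push_cast; ring

theorem loT_pow (t : K) (n : ℕ) : loT t ^ n = loT (n * t) := by
  induction n with
  | zero => simp [loT_zero]
  | succ n ih => rw [pow_succ, ih, loT_mul]; congr 1; push_cast; ring

theorem upT_inv (t : K) : (upT t)⁻¹ = upT (-t) := by
  rw [inv_eq_iff_mul_eq_one, upT_mul, add_neg_cancel, upT_zero]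

theorem loT_inv (t : K) : (loT t)⁻¹ = loT (-t) := by
  rw [inv_eq_iff_mul_eq_one, loT_mul, add_neg_cancel, loT_zero]

theorem upT_pow_char [CharP K p] (t : K) : upT t ^ p = 1 := by
  rw [upT_pow, CharP.cast_eq_zero, zero_mul, upT_zero]

theorem loT_pow_char [CharP K p] (t : K) : loT t ^ p = 1 := by
  rw [loT_pow, CharP.cast_eq_zero, zero_mul, loT_zero]

/-- the trace -/
def trS (x : SL(2, K)) : K := x 0 0 + x 1 1

theorem trS_mul_comm (x y : SL(2, K)) : trS (x * y) = trS (y * x) := by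
  simp only [trS, sl2_mul]; ring

theorem trS_conj (g x : SL(2, K)) : trS (g * x * g⁻¹) = trS x := by
  rw [trS_mul_comm, inv_mul_cancel_left]

theorem trS_neg (x : SL(2, K)) : trS (-x) = -trS x := by simp only [trS, sl2_neg]; ring

theorem exists_span_of_comm {x y : SL(2, K)} (hx : trS x ^ 2 ≠ 4) (h : x * y = y * x) :
    ∃ s t : K, y 0 0 = s + t * x 0 0 ∧ y 0 1 = t * x 0 1 ∧ y 1 0 = t * x 1 0 ∧
      y 1 1 = s + t * x 1 1 := by
  have e00 := congrArg (fun z : SL(2, K) => z 0 0) h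
  have e01 := congrArg (fun z : SL(2, K) => z 0 1) h
  have e10 := congrArg (fun z : SL(2, K) => z 1 0) h
  simp only [sl2_mul] at e00 e01 e10
  have hd := sl2_det x
  have hδ : trS x ^ 2 - 4 ≠ 0 := sub_ne_zero.2 hx
  set μ := (x 0 0 - x 1 1) * (y 0 0 - y 1 1) + 4 * x 0 1 * y 1 0 with hμ
  refine ⟨y 0 0 - μ / (trS x ^ 2 - 4) * x 0 0, μ / (trS x ^ 2 - 4), by ring, ?_, ?_, ?_⟩
  · field_simp
    rw [hμ, trS]
    linear_combination (x 0 0 - x 1 1) * e01 - 4 * x 0 1 * e00 + 4 * y 0 1 * hd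
  · field_simp
    rw [hμ, trS]
    linear_combination (-(x 0 0 - x 1 1)) * e10 + 4 * y 1 0 * hd
  · field_simp
    rw [hμ, trS]
    linear_combination (-4 * x 0 1) * e10 - 4 * (y 0 0 - y 1 1) * hd

theorem comm_of_comm_of_trS {x y z : SL(2, K)} (hx : trS x ^ 2 ≠ 4) (hy : x * y = y * x)
    (hz : x * z = z * x) : y * z = z * y := by
  obtain ⟨s, t, a1, a2, a3, a4⟩ := exists_span_of_comm hx hy
  obtain ⟨s', t', b1, b2, b3, b4⟩ := exists_span_of_comm hx hz
  refine sl2_ext ?_ ?_ ?_ ?_ <;> simp only [sl2_mul, a1, a2, a3, a4, b1, b2, b3, b4] <;> ring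

theorem eq_or_eq_inv_of_comm (h2 : (2 : K) ≠ 0) {x y : SL(2, K)} (hx : trS x ^ 2 ≠ 4)
    (h : x * y = y * x) (ht : trS y = trS x) : y = x ∨ y = x⁻¹ := by
  obtain ⟨s, t, a1, a2, a3, a4⟩ := exists_span_of_comm hx h
  have hd := sl2_det x
  have hd' := sl2_det y
  rw [trS, a1, a4, trS] at ht
  rw [a1, a2, a3, a4] at hd'
  have : (trS x ^ 2 - 4) * ((t - 1) * (t + 1)) = 0 := by
    rw [trS]
    linear_combination (-4) * hd' + 4 * t ^ 2 * hd +
      (2 * s + (x 0 0 + x 1 1) * (1 + t)) * ht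
  rcases mul_eq_zero.1 ((mul_eq_zero.1 this).resolve_left (sub_ne_zero.2 hx)) with h1 | h1
  · have ht1 : t = 1 := sub_eq_zero.1 h1
    have hs : s = 0 := (mul_eq_zero.1 (show 2 * s = 0 by rw [ht1] at ht; linear_combination ht)).resolve_left h2
    left
    refine sl2_ext ?_ ?_ ?_ ?_ <;> simp [a1, a2, a3, a4, ht1, hs]
  · have ht1 : t = -1 := eq_neg_of_add_eq_zero_left h1
    have hs : s = x 0 0 + x 1 1 := mul_left_cancel₀ h2 (by rw [ht1] at ht; linear_combination ht)
    right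
    refine sl2_ext ?_ ?_ ?_ ?_
    · rw [a1, sl2_inv_00, ht1, hs]; ring
    · rw [a2, sl2_inv_01, ht1]; ring
    · rw [a3, sl2_inv_10, ht1]; ring
    · rw [a4, sl2_inv_11, ht1, hs]; ring

theorem off_eq_zero_of_comm {x y : SL(2, K)} (hx : trS x ^ 2 ≠ 4) (h : x * y = y * x)
    (hy : trS y ^ 2 = 4) : y 0 1 = 0 ∧ y 1 0 = 0 := by
  obtain ⟨s, t, a1, a2, a3, a4⟩ := exists_span_of_comm hx h
  have hd := sl2_det x
  have hd' := sl2_det y
  rw [trS, a1, a4] at hy
  rw [a1, a2, a3, a4] at hd'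
  have : (trS x ^ 2 - 4) * t ^ 2 = 0 := by
    rw [trS]
    linear_combination hy - 4 * hd' + 4 * t ^ 2 * hd
  have ht : t = 0 := pow_eq_zero_iff two_ne_zero |>.1
    ((mul_eq_zero.1 this).resolve_left (sub_ne_zero.2 hx))
  rw [a2, a3, ht, zero_mul, zero_mul]
  exact ⟨rfl, rfl⟩

theorem sq_comm_of_conj_comm (h2 : (2 : K) ≠ 0) {x g : SL(2, K)} (hx : trS x ^ 2 ≠ 4)
    (h : x * (g * x * g⁻¹) = g * x * g⁻¹ * x) : g ^ 2 * x = x * g ^ 2 := by
  rcases eq_or_eq_inv_of_comm h2 hx h (trS_conj g x) with h1 | h1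
  · have : Commute g x := mul_inv_eq_iff_eq_mul.1 h1
    exact (this.pow_left 2).eq
  · calc g ^ 2 * x = g * (g * x * g⁻¹) * g⁻¹ * g ^ 2 := by rw [sq]; group
      _ = (g * x * g⁻¹)⁻¹ * g ^ 2 := by nth_rewrite 1 [h1]; group
      _ = _ := by rw [h1, inv_inv]

theorem comm_of_sq_comm {G : Type*} [Group G] {x g : G} (hg : (orderOf g).Coprime 2)
    (h : g ^ 2 * x = x * g ^ 2) : g * x = x * g := by
  have : g ∈ centralizer ({x} : Set G) :=
    mem_of_pow_mem_of_coprime (mem_centralizer_singleton_iff.2 h) hg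
  exact mem_centralizer_singleton_iff.1 this

theorem pow_eq_of_trS_two {x : SL(2, K)} (h : trS x = 2) (n : ℕ) :
    (x ^ n) 0 0 = 1 + n * (x 0 0 - 1) ∧ (x ^ n) 0 1 = n * x 0 1 ∧ (x ^ n) 1 0 = n * x 1 0 ∧
      (x ^ n) 1 1 = 1 + n * (x 1 1 - 1) := by
  induction n with
  | zero => simp
  | succ n ih =>
    obtain ⟨a1, a2, a3, a4⟩ := ih
    have hd := sl2_det x
    rw [trS] at h
    simp only [pow_succ, sl2_mul, a1, a2, a3, a4]
    push_cast
    refine ⟨?_, ?_, ?_, ?_⟩
    · linear_combination (n * x 0 0) * h - n * hd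
    · linear_combination (n * x 0 1) * h
    · linear_combination (n * x 1 0) * h
    · linear_combination (n * x 1 1) * h - n * hd

theorem pow_char_of_trS_two [CharP K p] {x : SL(2, K)} (h : trS x = 2) : x ^ p = 1 := by
  obtain ⟨a1, a2, a3, a4⟩ := pow_eq_of_trS_two h p
  rw [CharP.cast_eq_zero K p, zero_mul] at a1 a2 a3 a4
  exact sl2_ext (by rw [a1]; simp) (by rw [a2]; simp) (by rw [a3]; simp) (by rw [a4]; simp)

theorem eq_one_or_neg_one_of_sq (h2 : (2 : K) ≠ 0) {x : SL(2, K)} (h : x ^ 2 = 1) :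
    x = 1 ∨ x = -1 := by
  have h' : x = x⁻¹ := by rw [eq_inv_iff_mul_eq_one, ← sq, h]
  have e00 := congrArg (fun z : SL(2, K) => z 0 0) h'
  have e01 := congrArg (fun z : SL(2, K) => z 0 1) h'
  have e10 := congrArg (fun z : SL(2, K) => z 1 0) h'
  simp only [sl2_inv_00, sl2_inv_01, sl2_inv_10] at e00 e01 e10
  have b0 : x 0 1 = 0 := (mul_eq_zero.1 (show 2 * x 0 1 = 0 by linear_combination e01)).resolve_left h2
  have c0 : x 1 0 = 0 := (mul_eq_zero.1 (show 2 * x 1 0 = 0 by linear_combination e10)).resolve_left h2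
  have hd := sl2_det x
  rw [b0, ← e00] at hd
  rcases mul_self_eq_one_iff.1 (show x 0 0 * x 0 0 = 1 by linear_combination hd) with h1 | h1
  · left; exact sl2_ext (by simp [h1]) (by simp [b0]) (by simp [c0]) (by simp [← e00, h1])
  · right; exact sl2_ext (by simp [h1]) (by simp [b0]) (by simp [c0]) (by simp [← e00, h1])

theorem eq_one_or_neg_one_of_trS [CharP K p] (h2 : (2 : K) ≠ 0) {x : SL(2, K)}
    (h : trS x ^ 2 = 4) (ho : (orderOf x).Coprime p) : x = 1 ∨ x = -1 := by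
  refine eq_one_or_neg_one_of_sq h2 ?_
  have h1 : (x ^ 2) ^ p = 1 := by
    rcases mul_eq_zero.1 (show (trS x - 2) * (trS x + 2) = 0 by linear_combination h) with h | h
    · rw [← pow_mul, mul_comm, pow_mul, pow_char_of_trS_two (sub_eq_zero.1 h), one_pow]
    · have : trS (-x) = 2 := by rw [trS_neg]; linear_combination -h
      rw [← neg_sq, ← pow_mul, mul_comm, pow_mul, pow_char_of_trS_two this, one_pow]
  exact orderOf_eq_one_iff.1 ((Nat.Coprime.coprime_dvd_left
    (orderOf_pow_dvd 2) ho).eq_one_of_dvd (orderOf_dvd_of_pow_eq_one h1))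

theorem trS_eq_two_of_pow [Fact p.Prime] [CharP K p] {x : SL(2, K)} {k : ℕ} (h : x ^ p ^ k = 1) :
    trS x = 2 := by
  have h1 : IsNilpotent ((x : Matrix (Fin 2) (Fin 2) K) - 1) := ⟨p ^ k, by
    rw [sub_pow_char_pow_of_commute _ _ (Commute.one_right _), ← Matrix.SpecialLinearGroup.coe_pow, h]
    simp⟩
  have := (Matrix.isNilpotent_trace_of_isNilpotent h1).eq_zero
  rw [Matrix.trace_sub, Matrix.trace_one, Matrix.trace_fin_two] at this
  simp only [Fintype.card_fin, Nat.cast_ofNat] at this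
  rw [trS]; linear_combination this

theorem trS_eq_two_of_isPGroup [Fact p.Prime] [CharP K p] {N : Subgroup SL(2, K)}
    (hN : IsPGroup p N) {x : SL(2, K)} (hx : x ∈ N) : trS x = 2 :=
  (isPGroup_iff_forall.1 hN x hx).elim fun _ h => trS_eq_two_of_pow h

theorem trS_upT_mul_loT (s t : K) : trS (upT s * loT t) = 2 + s * t := by
  simp only [trS, sl2_mul, upT_00, upT_01, upT_10, upT_11, loT_00, loT_01, loT_10, loT_11]; ring

theorem not_isPGroup_of_mem [Fact p.Prime] [CharP K p] {L : Subgroup SL(2, K)} {s t : K}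
    (hs : s ≠ 0) (ht : t ≠ 0) (h1 : upT s ∈ L) (h2 : loT t ∈ L) : ¬ IsPGroup p L := fun h => by
  have := trS_eq_two_of_isPGroup h (mul_mem h1 h2)
  rw [trS_upT_mul_loT] at this
  exact mul_ne_zero hs ht (by linear_combination this)

theorem two_ne_zero_of_ne [hp : Fact p.Prime] [CharP K p] (h : p ≠ 2) : (2 : K) ≠ 0 := fun h2 =>
  h ((Nat.prime_dvd_prime_iff_eq hp.out Nat.prime_two).1 ((CharP.cast_eq_zero_iff K p 2).1 (by simpa using h2)))

theorem eq_upT_of_comm (h2 : (2 : K) ≠ 0) {s : K} (hs : s ≠ 0) {n : SL(2, K)}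
    (h : n * upT s = upT s * n) (ht : trS n = 2) : n = upT (n 0 1) := by
  have e00 := congrArg (fun z : SL(2, K) => z 0 0) h
  have e01 := congrArg (fun z : SL(2, K) => z 0 1) h
  simp only [sl2_mul, upT_00, upT_01, upT_10, upT_11] at e00 e01
  have c0 : n 1 0 = 0 := (mul_eq_zero.1 (show s * n 1 0 = 0 by linear_combination -e00)).resolve_left hs
  have d0 : n 0 0 = n 1 1 := mul_left_cancel₀ hs (by linear_combination e01)
  rw [trS] at ht
  have a0 : n 0 0 = 1 := mul_left_cancel₀ h2 (by linear_combination ht + d0)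
  exact sl2_ext a0 rfl c0 (d0 ▸ a0)

theorem eq_loT_of_comm (h2 : (2 : K) ≠ 0) {s : K} (hs : s ≠ 0) {n : SL(2, K)}
    (h : n * loT s = loT s * n) (ht : trS n = 2) : n = loT (n 1 0) := by
  have e00 := congrArg (fun z : SL(2, K) => z 0 0) h
  have e10 := congrArg (fun z : SL(2, K) => z 1 0) h
  simp only [sl2_mul, loT_00, loT_01, loT_10, loT_11] at e00 e10
  have c0 : n 0 1 = 0 := (mul_eq_zero.1 (show s * n 0 1 = 0 by linear_combination e00)).resolve_left hs
  have d0 : n 0 0 = n 1 1 := mul_left_cancel₀ hs (by linear_combination -e10)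
  rw [trS] at ht
  have a0 : n 0 0 = 1 := mul_left_cancel₀ h2 (by linear_combination ht + d0)
  exact sl2_ext a0 c0 rfl (d0 ▸ a0)

theorem eq_bot_of_normalized [Finite K] [Fact p.Prime] [CharP K p] (hp : p ≠ 2) {s t : K}
    (hs : s ≠ 0) (ht : t ≠ 0) {N : Subgroup SL(2, K)} (hN : IsPGroup p N)
    (h1 : upT s ∈ normalizer (N : Set SL(2, K))) (h2 : loT t ∈ normalizer (N : Set SL(2, K))) :
    N = ⊥ := by
  by_contra hne
  have h0 := two_ne_zero_of_ne (K := K) hp
  obtain ⟨⟨n, hn⟩, hn1⟩ := ne_bot_iff_exists_ne_one.1 (inf_centralizer_ne_bot (isPGroup_zpowers (k := 1)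
    (by rw [pow_one, upT_pow_char])) hN (zpowers_le.2 h1) hne)
  obtain ⟨⟨m, hm⟩, hm1⟩ := ne_bot_iff_exists_ne_one.1 (inf_centralizer_ne_bot (isPGroup_zpowers (k := 1)
    (by rw [pow_one, loT_pow_char])) hN (zpowers_le.2 h2) hne)
  have e1 := eq_upT_of_comm h0 hs (hn.2 _ (mem_zpowers _)).symm (trS_eq_two_of_isPGroup hN hn.1)
  have e2 := eq_loT_of_comm h0 ht (hm.2 _ (mem_zpowers _)).symm (trS_eq_two_of_isPGroup hN hm.1)
  refine not_isPGroup_of_mem (fun h => hn1 ?_) (fun h => hm1 ?_) (e1 ▸ hn.1) (e2 ▸ hm.1) hN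
  · rw [h, upT_zero] at e1; exact Subtype.ext e1
  · rw [h, loT_zero] at e2; exact Subtype.ext e2

theorem mem_zpowers_neg_one {x : SL(2, K)} : x ∈ zpowers (-1 : SL(2, K)) ↔ x = 1 ∨ x = -1 := by
  constructor
  · rintro ⟨k, rfl⟩
    rcases Int.even_or_odd k with h | h
    · left; exact h.neg_one_zpow
    · right; exact h.neg_one_zpow
  · rintro (rfl | rfl)
    · exact one_mem _
    · exact mem_zpowers _

instance zpowers_neg_one_normal_inst : (zpowers (-1 : SL(2, K))).Normal := ⟨fun x hx g => by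
  rcases mem_zpowers_neg_one.1 hx with rfl | rfl
  · simp
  · simp⟩

theorem coprime_orderOf_of_isPGroup {G : Type*} [Group G] {r : ℕ} [hr : Fact r.Prime]
    [hp : Fact p.Prime] (hrp : r ≠ p) {R : Subgroup G} (hR : IsPGroup r R) {x : G} (hx : x ∈ R) :
    (orderOf x).Coprime p := by
  obtain ⟨k, hk⟩ := IsPGroup_orderOf hR hx
  rw [hk]
  exact ((Nat.coprime_primes hr.out hp.out).2 hrp).pow_left k

theorem coprime_two_of_pow_char [hp : Fact p.Prime] (h2 : p ≠ 2) {G : Type*} [Group G] {x : G}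
    (h : x ^ p = 1) : (orderOf x).Coprime 2 :=
  ((Nat.coprime_primes hp.out Nat.prime_two).2 h2).coprime_dvd_left (orderOf_dvd_of_pow_eq_one h)

/-- a transvection normalizing an `r`-subgroup -/
theorem trS_eq_zero_of_normalized [Finite K] [Fact p.Prime] [CharP K p] (hp : p ≠ 2) {r : ℕ}
    [Fact r.Prime] (hrp : r ≠ p) {s : K} (hs : s ≠ 0) {R : Subgroup SL(2, K)} (hR : IsPGroup r R)
    (h1 : upT s ∈ normalizer (R : Set SL(2, K))) {g : SL(2, K)} (hg : g ∈ R) (hg1 : g 1 0 ≠ 0) :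
    trS g = 0 := by
  have h0 := two_ne_zero_of_ne (K := K) hp
  have hδ : ∀ x ∈ R, x ∉ zpowers (-1 : SL(2, K)) → trS x ^ 2 ≠ 4 := fun x hx hx1 h =>
    hx1 (mem_zpowers_neg_one.2 (eq_one_or_neg_one_of_trS h0 h (coprime_orderOf_of_isPGroup hrp hR hx)))
  have hgZ : g ∉ zpowers (-1 : SL(2, K)) := fun h => by
    rcases mem_zpowers_neg_one.1 h with rfl | rfl <;> simp at hg1
  by_contra hne
  have hb : R.map (QuotientGroup.mk' (zpowers (-1 : SL(2, K)))) ≠ ⊥ := fun h => by
    rw [Subgroup.map_eq_bot_iff, QuotientGroup.ker_mk'] at h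
    exact hgZ (h hg)
  obtain ⟨⟨_, ⟨i, hi, rfl⟩, hi2⟩, hi1⟩ := ne_bot_iff_exists_ne_one.1 (center_ne_bot (hR.map _) hb)
  have hiZ : i ∉ zpowers (-1 : SL(2, K)) := fun h =>
    hi1 (Subtype.ext ((QuotientGroup.eq_one_iff i).2 h))
  have key : ∀ x ∈ R, trS x ≠ 0 → i * x = x * i := by
    intro x hx hx0
    have := hi2 _ (mem_map_of_mem _ hx)
    rw [eq_comm, ← commutatorElement_eq_one_iff_mul_comm, ← map_commutatorElement,
      QuotientGroup.mk'_apply, QuotientGroup.eq_one_iff, mem_zpowers_neg_one] at this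
    rcases this with h | h
    · exact commutatorElement_eq_one_iff_mul_comm.1 h
    · rw [commutatorElement_def, mul_inv_eq_iff_eq_mul, neg_one_mul] at h
      have h3 := trS_conj i x
      rw [h, trS_neg] at h3
      exact absurd ((mul_eq_zero.1 (show 2 * trS x = 0 by linear_combination -h3)).resolve_left h0) hx0
  have h3 := comm_of_comm_of_trS (hδ i hi hiZ) (key g hg hne)
    (key _ (conj_mem_of_mem_normalizer h1 hg) (by rwa [trS_conj]))
  have h4 := comm_of_sq_comm (coprime_two_of_pow_char hp (upT_pow_char s))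
    (sq_comm_of_conj_comm h0 (hδ g hg hgZ) h3)
  exact hs (off_eq_zero_of_comm (hδ g hg hgZ) h4.symm (by simp [trS]; norm_num)).1

theorem three_of_normalized [Finite K] [hp : Fact p.Prime] [CharP K p] (h2 : p ≠ 2) {r : ℕ}
    [Fact r.Prime] (hrp : r ≠ p) {s : K} (hs : s ≠ 0) {R : Subgroup SL(2, K)} (hR : IsPGroup r R)
    (h1 : upT s ∈ normalizer (R : Set SL(2, K))) (y1 : upT s * (loT 1)⁻¹ ∈ R)
    (y2 : upT s ^ 2 * (loT 1 ^ 2)⁻¹ ∈ R) : p = 3 ∧ s = -1 := by
  have h0 := two_ne_zero_of_ne (K := K) h2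
  rw [loT_inv] at y1
  rw [upT_pow, loT_pow, loT_inv] at y2
  have e1 := trS_eq_zero_of_normalized h2 hrp hs hR h1 y1 (by simp [sl2_mul])
  have e2 := trS_eq_zero_of_normalized h2 hrp hs hR h1 y2 (by simpa [sl2_mul] using h0)
  rw [trS_upT_mul_loT] at e1 e2
  push_cast at e2
  have e3 : (3 : K) = 0 := mul_left_cancel₀ h0 (by linear_combination 4 * e1 - e2)
  refine ⟨(Nat.prime_dvd_prime_iff_eq hp.out Nat.prime_three).1
    ((CharP.cast_eq_zero_iff K p 3).1 (by simpa using e3)), by linear_combination e3 - e1⟩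

theorem isPGroup_of_abelian_sylow_two [Finite K] [hp : Fact p.Prime] [CharP K p] (h2 : p ≠ 2)
    {L T : Subgroup SL(2, K)} (hL : ∀ q : ℕ, q.Prime → q ≠ p → pResOf q L = L)
    (hT : IsSylowOf 2 T L) (hab : IsMulCommutative T) : IsPGroup p L := by
  have h0 := two_ne_zero_of_ne (K := K) h2
  have hsq : ∀ (q : ℕ) [Fact q.Prime], q ≠ p → ∀ Q : Subgroup SL(2, K), IsPGroup q Q →
      IsMulCommutative Q → ∀ g ∈ normalizer (Q : Set SL(2, K)), g ^ 2 ∈ centralizer (Q : Set SL(2, K)) := by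
    intro q _ hq Q hQ hQc g hg x hx
    by_cases hδ : trS x ^ 2 = 4
    · rcases eq_one_or_neg_one_of_trS h0 hδ (coprime_orderOf_of_isPGroup hq hQ hx) with rfl | rfl
      · simp
      · simp
    · exact (sq_comm_of_conj_comm h0 hδ (comm_of_mem hQc hx (conj_mem_of_mem_normalizer hg hx))).symm
  have hodd : (Nat.card L).Coprime 2 := by
    have := hT.npc_of_burnside fun g hg => by
      obtain ⟨a, ha, b, hb, rfl, -, ⟨k, hk⟩, ho⟩ := exists_p_part 2 g
      have ha' := zpowers_le.2 hg ha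
      have hb' := zpowers_le.2 hg hb
      refine mul_mem (le_centralizer_self hab (hT.le_of_le_normalizer (isPGroup_zpowers hk)
        (zpowers_le.2 ha'.1) (zpowers_le.2 ha'.2) (mem_zpowers a))) ?_
      exact mem_of_pow_mem_of_coprime (hsq 2 h2.symm T hT.isP hab b hb'.2) ho
    rwa [npc_iff_coprime, hL 2 Nat.prime_two h2.symm] at this
  have hq : ∀ q : ℕ, q.Prime → q ≠ p → (Nat.card L).Coprime q := by
    intro q hq hqp
    have := Fact.mk hq
    obtain ⟨Q, hQ⟩ := exists_isSylowOf (p := q) L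
    by_cases hb : Q = ⊥
    · exact hQ.eq_bot_iff.1 hb
    obtain ⟨⟨z, hz⟩, hz1⟩ := ne_bot_iff_exists_ne_one.1 (center_ne_bot hQ.isP hb)
    have hδ : trS z ^ 2 ≠ 4 := fun h => by
      rcases eq_one_or_neg_one_of_trS h0 h (coprime_orderOf_of_isPGroup hqp hQ.isP hz.1) with h | h
      · exact hz1 (Subtype.ext h)
      · refine hz1 (Subtype.ext (eq_one_of_isPGroup_of_coprime (isPGroup_zpowers (p := 2) (k := 1)
          (x := z) (by rw [h]; simp)) (mem_zpowers z) (coprime_orderOf_of_mem hodd (hQ.le hz.1))))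
    have hQc : IsMulCommutative Q := isMulCommutative_of_forall fun x hx y hy =>
      comm_of_comm_of_trS hδ (hz.2 x hx).symm (hz.2 y hy).symm
    have := hQ.npc_of_burnside fun g hg =>
      mem_of_pow_mem_of_coprime (hsq q hqp Q hQ.isP hQc g hg.2) (coprime_orderOf_of_mem hodd hg.1)
    rwa [npc_iff_coprime, hL q hq hqp] at this
  refine isPGroup_of_forall_coprime fun x hx ho => ?_
  by_contra hne
  obtain ⟨q, hq1, hq2⟩ := Nat.exists_prime_and_dvd (fun h => hne (orderOf_eq_one_iff.1 h))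
  refine hq1.one_lt.ne' ((hq q hq1 fun h => ?_).symm.eq_one_of_dvd
    (hq2.trans (orderOf_dvd_card_of_mem hx)))
  exact hp.out.one_lt.ne' (ho.symm.eq_one_of_dvd (h ▸ hq2))

theorem pResOf_closure_eq {G : Type*} [Group G] [hp : Fact p.Prime] {s : Set G}
    (hs : ∀ x ∈ s, x ^ p = 1) {q : ℕ} (hq : q.Prime) (hqp : q ≠ p) :
    pResOf q (closure s) = closure s :=
  le_antisymm (pResOf_le _) ((closure_le _).2 fun x hx => mem_pResOf (subset_closure hx)
    (((Nat.coprime_primes hp.out hq).2 hqp.symm).coprime_dvd_left (orderOf_dvd_of_pow_eq_one (hs x hx))))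

theorem not_comm_sylow_two [Finite K] [hp : Fact p.Prime] [CharP K p] (h2 : p ≠ 2) {s t : K}
    (hs : s ≠ 0) (ht : t ≠ 0) {T : Subgroup SL(2, K)}
    (hT : IsSylowOf 2 T (closure {upT s, loT t})) : ¬ IsMulCommutative T := fun hab =>
  not_isPGroup_of_mem hs ht (subset_closure (by simp)) (subset_closure (by simp))
    (isPGroup_of_abelian_sylow_two h2 (fun q hq hqp => pResOf_closure_eq (by
      rintro x (rfl | rfl)
      · exact upT_pow_char _
      · exact loT_pow_char _) hq hqp) hT hab)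

theorem closure_upT_loT_zmod [Fact p.Prime] {a b : ZMod p} (ha : a ≠ 0) (hb : b ≠ 0) :
    Subgroup.closure {upT a, loT b} = ⊤ := by
  refine eq_top_iff.2 fun A _ => Matrix.SL2.transvection_induction (· ∈ Subgroup.closure {upT a, loT b})
    (fun i j h c => ?_) (fun _ _ => mul_mem) A
  fin_cases i <;> fin_cases j
  · exact absurd rfl h
  · have : Matrix.SpecialLinearGroup.transvection h c = upT a ^ (c * a⁻¹).val := by
      rw [upT_pow, ZMod.natCast_zmod_val, inv_mul_cancel_right₀ ha]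
      refine sl2_ext ?_ ?_ ?_ ?_ <;> simp [Matrix.SpecialLinearGroup.transvection_coe]
    rw [this]; exact pow_mem (subset_closure (by simp)) _
  · have : Matrix.SpecialLinearGroup.transvection h c = loT b ^ (c * b⁻¹).val := by
      rw [loT_pow, ZMod.natCast_zmod_val, inv_mul_cancel_right₀ hb]
      refine sl2_ext ?_ ?_ ?_ ?_ <;> simp [Matrix.SpecialLinearGroup.transvection_coe]
    rw [this]; exact pow_mem (subset_closure (by simp)) _
  · exact absurd rfl h

theorem map_upT {K' : Type*} [Field K'] (f : K →+* K') (t : K) :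
    Matrix.SpecialLinearGroup.map f (upT t) = upT (f t) := by
  refine sl2_ext ?_ ?_ ?_ ?_ <;> simp

theorem map_loT {K' : Type*} [Field K'] (f : K →+* K') (t : K) :
    Matrix.SpecialLinearGroup.map f (loT t) = loT (f t) := by
  refine sl2_ext ?_ ?_ ?_ ?_ <;> simp

theorem sl2_map_injective {K' : Type*} [Field K'] (f : K →+* K') :
    Function.Injective (Matrix.SpecialLinearGroup.map (n := Fin 2) f) := fun x y h => by
  ext i j
  exact f.injective (congrArg (fun z : SL(2, K') => z i j) h)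

theorem range_map_castHom [Fact p.Prime] [CharP K p] {a b : ZMod p} (ha : a ≠ 0) (hb : b ≠ 0) :
    (Matrix.SpecialLinearGroup.map (n := Fin 2) (ZMod.castHom (dvd_refl p) K)).range =
      closure {upT (ZMod.castHom (dvd_refl p) K a), loT (ZMod.castHom (dvd_refl p) K b)} := by
  rw [MonoidHom.range_eq_map, ← closure_upT_loT_zmod ha hb, MonoidHom.map_closure, Set.image_pair,
    map_upT, map_loT]

theorem nonempty_equiv_closure_zmod [Fact p.Prime] [CharP K p] {a b : ZMod p} (ha : a ≠ 0)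
    (hb : b ≠ 0) : Nonempty (↥(closure {upT (ZMod.castHom (dvd_refl p) K a),
      loT (ZMod.castHom (dvd_refl p) K b)}) ≃* SL(2, ZMod p)) := by
  rw [← range_map_castHom ha hb]
  exact ⟨(MonoidHom.ofInjective (sl2_map_injective _)).symm⟩

end Cfsg.Agent.PLoc
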