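import Cfsg.Agent.PLoc.Hol

/-!
Dickson's count of the fixed points of a finite subgroup of `SL(2, F)` on the projective line.
-/

set_option autoImplicit false

namespace Cfsg.Agent.PLoc

open Subgroup OnePoint MulAction
open scoped commutatorElement Pointwise MatrixGroups Classical

variable {F : Type*} [Field F] {p : ℕ}

/-- the action of `SL(2, F)` on the projective line -/
noncomputable scoped instance slOnePoint : MulAction SL(2, F) (OnePoint F) :=
  MulAction.compHom _ (Matrix.SpecialLinearGroup.toGL (n := Fin 2) (R := F))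

theorem sl_smul_infty (g : SL(2, F)) :
    g • (∞ : OnePoint F) = if g 1 0 = 0 then ∞ else ((g 0 0 / g 1 0 : F) : OnePoint F) :=
  smul_infty_eq_ite (Matrix.SpecialLinearGroup.toGL g)

theorem sl_smul_coe (g : SL(2, F)) (k : F) : g • (k : OnePoint F) =
    if g 1 0 * k + g 1 1 = 0 then ∞ else
      (((g 0 0 * k + g 0 1) / (g 1 0 * k + g 1 1) : F) : OnePoint F) :=
  smul_some_eq_ite (g := Matrix.SpecialLinearGroup.toGL g)

theorem sl_fix_infty {g : SL(2, F)} : g • (∞ : OnePoint F) = ∞ ↔ g 1 0 = 0 := by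
  rw [sl_smul_infty]; split_ifs with h <;> simp [h]

theorem sl_fix_coe {g : SL(2, F)} {x : F} :
    g • (x : OnePoint F) = x ↔ g 1 0 * x ^ 2 + (g 1 1 - g 0 0) * x - g 0 1 = 0 := by
  rw [sl_smul_coe]
  split_ifs with h
  · refine ⟨fun hg => (infty_ne_coe _ hg).elim, fun hg => ?_⟩
    have := sl2_det g
    exfalso
    have h1 : g 0 0 * x + g 0 1 = 0 := by linear_combination x * h - hg
    exact one_ne_zero (by linear_combination -this + g 0 0 * h - g 1 0 * h1 : (1 : F) = 0)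
  · rw [coe_eq_coe, div_eq_iff h]
    constructor <;> intro h <;> linear_combination -h

theorem sl_neg_smul (g : SL(2, F)) (x : OnePoint F) : (-g) • x = g • x := by
  cases x with
  | infty => simp [sl_smul_infty, sl2_neg]
  | coe x =>
    rw [sl_smul_coe, sl_smul_coe]
    simp only [sl2_neg]
    rw [show -g 1 0 * x + -g 1 1 = -(g 1 0 * x + g 1 1) by ring,
      show -g 0 0 * x + -g 0 1 = -(g 0 0 * x + g 0 1) by ring, neg_div_neg_eq]
    simp only [neg_eq_zero]

theorem upT_smul_coe (s x : F) : upT s • (x : OnePoint F) = ((x + s : F) : OnePoint F) := by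
  simp [sl_smul_coe]

theorem upT_smul_infty (s : F) : upT s • (∞ : OnePoint F) = ∞ := sl_fix_infty.2 rfl

theorem loT_smul_infty {t : F} (ht : t ≠ 0) : loT t • (∞ : OnePoint F) = ((t⁻¹ : F) : OnePoint F) := by
  simp [sl_smul_infty, ht]

theorem loT_smul_zero (t : F) : loT t • ((0 : F) : OnePoint F) = ((0 : F) : OnePoint F) :=
  sl_fix_coe.2 (by simp)

theorem eq_or_of_upper {g : SL(2, F)} (h : g 1 0 = 0) (ht : trS g ^ 2 = 4) :
    g = upT (g 0 1) ∨ g = -upT (-g 0 1) := by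
  have hd := sl2_det g
  rw [h, mul_zero, sub_zero] at hd
  have h1 : g 0 0 = g 1 1 := by
    have : (g 0 0 - g 1 1) ^ 2 = 0 := by rw [trS] at ht; linear_combination ht - 4 * hd
    exact sub_eq_zero.1 (pow_eq_zero_iff two_ne_zero |>.1 this)
  rw [← h1] at hd
  rcases mul_self_eq_one_iff.1 hd with h2 | h2
  · exact Or.inl (sl2_ext h2 rfl h (h1 ▸ h2))
  · exact Or.inr (sl2_ext (by simp [sl2_neg, h2]) (by simp [sl2_neg]) (by simp [sl2_neg, h])
      (by simp [sl2_neg, ← h1, h2]))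

theorem exists_fix_of_par (h2 : (2 : F) ≠ 0) {g : SL(2, F)} (ht : trS g ^ 2 = 4) (h1 : g ≠ 1)
    (h1' : g ≠ -1) : ∃ x : OnePoint F, ∀ y, g • y = y ↔ y = x := by
  have hd := sl2_det g
  by_cases hc : g 1 0 = 0
  · refine ⟨∞, fun y => ?_⟩
    cases y with
    | infty => simp [sl_fix_infty, hc]
    | coe y =>
      simp only [coe_ne_infty, iff_false]
      have hb : g 0 1 ≠ 0 := fun hb => by
        have := eq_or_of_upper hc ht
        rw [hb, neg_zero, upT_zero] at this
        exact this.elim h1 h1'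
      rcases eq_or_of_upper hc ht with h | h
      · rw [h, upT_smul_coe]; simpa using hb
      · rw [h, sl_neg_smul, upT_smul_coe]; simpa using hb
  · refine ⟨((g 0 0 - g 1 1) / (2 * g 1 0) : F), fun y => ?_⟩
    cases y with
    | infty => simp [sl_fix_infty, hc]
    | coe y =>
      rw [sl_fix_coe, coe_eq_coe, eq_div_iff (mul_ne_zero h2 hc)]
      rw [trS] at ht
      constructor
      · intro h
        have : (y * (2 * g 1 0) - (g 0 0 - g 1 1)) ^ 2 = 0 := by
          linear_combination 4 * g 1 0 * h + ht - 4 * hd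
        exact sub_eq_zero.1 (pow_eq_zero_iff two_ne_zero |>.1 this)
      · intro h
        have h4 : (4 : F) * g 1 0 ≠ 0 := mul_ne_zero (by
          rw [show (4 : F) = 2 * 2 by norm_num]; exact mul_ne_zero h2 h2) hc
        apply mul_left_cancel₀ h4
        linear_combination (y * (2 * g 1 0) - (g 0 0 - g 1 1)) * h - ht + 4 * hd

theorem exists_fix_of_not_par [IsAlgClosed F] (h2 : (2 : F) ≠ 0) {g : SL(2, F)}
    (ht : trS g ^ 2 ≠ 4) : ∃ x x' : OnePoint F, x ≠ x' ∧ ∀ y, g • y = y ↔ y = x ∨ y = x' := by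
  have hd := sl2_det g
  rw [trS] at ht
  by_cases hc : g 1 0 = 0
  · have h3 : g 1 1 - g 0 0 ≠ 0 := fun h => ht (by
      rw [hc] at hd; linear_combination (g 1 1 - g 0 0) * h + 4 * hd)
    refine ⟨∞, (g 0 1 / (g 1 1 - g 0 0) : F), infty_ne_coe _, fun y => ?_⟩
    cases y with
    | infty => simp [sl_fix_infty, hc]
    | coe y =>
      rw [sl_fix_coe, coe_eq_coe, eq_div_iff h3, hc]
      simp only [coe_ne_infty, false_or]
      constructor <;> intro h <;> linear_combination h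
  · obtain ⟨δ, hδ⟩ := IsAlgClosed.exists_eq_mul_self ((g 0 0 + g 1 1) ^ 2 - 4)
    have hδ0 : δ ≠ 0 := fun h => ht (by rw [h] at hδ; linear_combination hδ)
    have h3 := mul_ne_zero h2 hc
    refine ⟨((g 0 0 - g 1 1 + δ) / (2 * g 1 0) : F), ((g 0 0 - g 1 1 - δ) / (2 * g 1 0) : F),
      fun h => ?_, fun y => ?_⟩
    · rw [coe_eq_coe, div_left_inj' h3] at h
      exact mul_ne_zero h2 hδ0 (by linear_combination h)
    cases y with
    | infty => simp [sl_fix_infty, hc]
    | coe y =>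
      rw [sl_fix_coe, coe_eq_coe, coe_eq_coe, eq_div_iff h3, eq_div_iff h3,
        ← sub_eq_zero (a := y * (2 * g 1 0)) (b := g 0 0 - g 1 1 + δ),
        ← sub_eq_zero (a := y * (2 * g 1 0)) (b := g 0 0 - g 1 1 - δ), ← mul_eq_zero]
      have h4 : (4 : F) * g 1 0 ≠ 0 := mul_ne_zero (by
          rw [show (4 : F) = 2 * 2 by norm_num]; exact mul_ne_zero h2 h2) hc
      constructor
      · intro h
        linear_combination 4 * g 1 0 * h + hδ - 4 * hd
      · intro h
        apply mul_left_cancel₀ h4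
        linear_combination h - hδ + 4 * hd

section count

variable {Γ X : Type*} [Group Γ] [Fintype Γ] [MulAction Γ X]

theorem sum_card_fix (P : Finset Γ) (S : Finset X) :
    ∑ x ∈ S, (P.filter fun g => g • x = x).card = ∑ g ∈ P, (S.filter fun x => g • x = x).card := by
  simp only [Finset.card_filter]
  exact Finset.sum_comm

theorem card_fix_of_orbit {P : Finset Γ} (hP : ∀ g ∈ P, ∀ h, h * g * h⁻¹ ∈ P) (x : X) (h : Γ) :
    (P.filter fun g => g • h • x = h • x).card = (P.filter fun g => g • x = x).card := by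
  refine Finset.card_bij' (fun g _ => h⁻¹ * g * h) (fun g _ => h * g * h⁻¹) (fun g hg => ?_)
    (fun g hg => ?_) (fun g _ => by group) (fun g _ => by group)
  · rw [Finset.mem_filter] at hg ⊢
    exact ⟨by simpa using hP g hg.1 h⁻¹, by rw [mul_smul, mul_smul, hg.2, inv_smul_smul]⟩
  · rw [Finset.mem_filter] at hg ⊢
    exact ⟨hP g hg.1 h, by rw [mul_smul, mul_smul, inv_smul_smul, hg.2]⟩

/-- an orbit as a finset -/
noncomputable def orbF (Γ : Type*) {X : Type*} [Group Γ] [Fintype Γ] [MulAction Γ X] (x : X) :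
    Finset X := Finset.univ.image fun g : Γ => g • x

theorem mem_orbF {x y : X} : y ∈ orbF Γ x ↔ ∃ g : Γ, g • x = y := by simp [orbF]

theorem sum_card_fix_orbit {P : Finset Γ} (hP : ∀ g ∈ P, ∀ h, h * g * h⁻¹ ∈ P) (x : X) :
    ∑ y ∈ orbF Γ x, (P.filter fun g => g • y = y).card =
      (orbF Γ x).card * (P.filter fun g => g • x = x).card := by
  rw [← smul_eq_mul, ← Finset.sum_const]
  refine Finset.sum_congr rfl fun y hy => ?_
  obtain ⟨h, rfl⟩ := mem_orbF.1 hy
  exact card_fix_of_orbit hP x h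

theorem card_filter_fix (x : X) :
    (Finset.univ.filter fun g : Γ => g • x = x).card = Nat.card (stabilizer Γ x) := by
  rw [Nat.card_eq_fintype_card, Fintype.card_subtype]; rfl

theorem card_orbF_mul (x : X) : (orbF Γ x).card * Nat.card (stabilizer Γ x) = Nat.card Γ := by
  rw [← (stabilizer Γ x).index_mul_card, index_stabilizer, ← Set.ncard_coe_finset]
  congr 2
  ext y
  simp [mem_orbF, mem_orbit_iff]

theorem disjoint_orbF {x y : X} (h : y ∉ orbF Γ x) : Disjoint (orbF Γ x) (orbF Γ y) := by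
  refine Finset.disjoint_left.2 fun z hz hz' => h ?_
  obtain ⟨g, rfl⟩ := mem_orbF.1 hz
  obtain ⟨g', e⟩ := mem_orbF.1 hz'
  exact mem_orbF.2 ⟨g'⁻¹ * g, by rw [mul_smul, ← e, inv_smul_smul]⟩

end count

theorem dickson_num {r k m e : ℕ} (hr : 1 ≤ r) (hk : k ≤ r + 1) (hk1 : 1 ≤ k) (hm : 1 ≤ m)
    (h : e * (2 + (1 + m * (r + 2)) * r) = (1 + m * (r + 2)) * ((r + 2) * k)) :
    m = 1 ∨ (r = 1 ∧ m = 3 ∧ k = 2) := by
  have h1 : e * (1 + m * r) = (1 + m * r) * k + m * (2 * k) :=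
    Nat.eq_of_mul_eq_mul_left (show 0 < r + 2 by omega) (by linear_combination h)
  have h2 : 1 + m * r ∣ m * (2 * k) :=
    (Nat.dvd_add_right (dvd_mul_right _ k)).1 (h1 ▸ dvd_mul_left _ e)
  have h3 : 1 + m * r ∣ 2 * k := Nat.Coprime.dvd_of_dvd_mul_left (by simp) h2
  have h4 := Nat.le_of_dvd (by omega) h3
  rcases Nat.lt_or_ge m 3 with h5 | h5
  · left
    by_contra h6
    obtain rfl : m = 2 := by omega
    obtain ⟨c, hc⟩ := h3
    have : c < 2 := by nlinarith
    interval_cases c <;> omega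
  · right
    obtain rfl : r = 1 := by nlinarith
    omega

/-- the root subgroup of upper transvections -/
def upQ (L : Subgroup SL(2, F)) : AddSubgroup F where
  carrier := {s | upT s ∈ L}
  add_mem' := fun ha hb => by simpa [upT_mul] using L.mul_mem ha hb
  zero_mem' := by simp [upT_zero]
  neg_mem' := fun ha => by simpa [upT_inv] using L.inv_mem ha

theorem mem_upQ {L : Subgroup SL(2, F)} {s : F} : s ∈ upQ L ↔ upT s ∈ L := Iff.rfl

theorem upT_injective : Function.Injective (upT : F → SL(2, F)) := fun _ _ h =>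
  congrArg (fun z : SL(2, F) => z 0 1) h

instance upQFinite (L : Subgroup SL(2, F)) [Finite L] : Finite (upQ L) :=
  Finite.of_injective (fun s : upQ L => (⟨upT s, s.2⟩ : L)) fun _ _ h =>
    Subtype.ext (upT_injective (congrArg Subtype.val h))

theorem card_dvd_of_add_mem {Q : AddSubgroup F} {S : Set F} (h : ∀ s ∈ Q, ∀ x ∈ S, x + s ∈ S) :
    Nat.card Q ∣ Nat.card S := by
  have : S = QuotientAddGroup.mk ⁻¹' ((QuotientAddGroup.mk : F → F ⧸ Q) '' S) := by
    refine Set.Subset.antisymm (Set.subset_preimage_image _ _) ?_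
    rintro y ⟨x, hx, e⟩
    simpa using h _ (QuotientAddGroup.eq.1 e) x hx
  rw [this, Nat.card_congr (QuotientAddGroup.preimageMkEquivAddSubgroupProdSet _ _), Nat.card_prod]
  exact dvd_mul_right _ _

theorem conj_upT_of_upper {g : SL(2, F)} (h : g 1 0 = 0) (s : F) :
    g * upT s * g⁻¹ = upT (g 0 0 ^ 2 * s) := by
  have hd := sl2_det g
  rw [h] at hd
  refine sl2_ext ?_ ?_ ?_ ?_ <;>
    simp only [sl2_mul, sl2_inv_00, sl2_inv_01, sl2_inv_10, sl2_inv_11, upT_00, upT_01, upT_10,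
      upT_11, h]
  · linear_combination hd
  · ring
  · ring
  · linear_combination hd

theorem exists_conj_upper [hp : Fact p.Prime] [CharP F p] (h2 : p ≠ 2) {L : Subgroup SL(2, F)}
    [Finite L] {ν : F} (hν : ν ≠ 0) (hu : upT ν ∈ L) {g : SL(2, F)} (hg : g ∈ L)
    (ht : trS g ^ 2 = 4) : ∃ h ∈ L, (h * g * h⁻¹) 1 0 = 0 := by
  have h0 := two_ne_zero_of_ne (K := F) h2
  suffices H : ∀ g ∈ L, trS g = 2 → ∃ h ∈ L, (h * g * h⁻¹) 1 0 = 0 by
    have : (trS g - 2) * (trS g + 2) = 0 := by linear_combination ht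
    rcases mul_eq_zero.1 this with h | h
    · exact H g hg (sub_eq_zero.1 h)
    · have h1 : trS (-g) = 2 := by rw [trS_neg]; linear_combination -h
      have h3 : -g = g ^ (p + 1) := by
        rw [← (odd_of_ne_two h2).add_one.neg_pow, pow_succ, pow_char_of_trS_two h1, one_mul]
      obtain ⟨h, hh, e⟩ := H (-g) (h3 ▸ pow_mem hg _) h1
      exact ⟨h, hh, by rwa [mul_neg, neg_mul, sl2_neg, neg_eq_zero] at e⟩
  intro g hg ht
  obtain ⟨T, hT, h1⟩ := exists_isSylowOf_ge (G := L) (Q := zpowers ⟨upT ν, hu⟩) (H := ⊤)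
    (isPGroup_zpowers (k := 1) (Subtype.ext (by simpa using upT_pow_char (p := p) ν))) le_top
  have h1' : (⟨upT ν, hu⟩ : L) ∈ T := h1 (mem_zpowers _)
  obtain ⟨h, -, hh⟩ := hT.exists_cj_le (Q := zpowers ⟨g, hg⟩)
    (isPGroup_zpowers (k := 1) (Subtype.ext (by simpa using pow_char_of_trS_two (p := p) ht))) le_top
  have hne : (⟨upT ν, hu⟩ : L) ≠ 1 := fun he =>
    hν (upT_injective ((congrArg Subtype.val he).trans upT_zero.symm))
  obtain ⟨⟨z, hz⟩, hz1⟩ := (ne_bot_iff_exists_ne_one).1 (center_ne_bot hT.isP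
    (fun hb => hne (mem_bot.1 (hb ▸ h1'))))
  have htr : ∀ x ∈ T, trS (x : SL(2, F)) = 2 := fun x hx =>
    trS_eq_two_of_isPGroup (hT.isP.map L.subtype) (mem_map_of_mem _ hx)
  have hz2 := eq_upT_of_comm h0 hν (congrArg Subtype.val (hz.2 _ h1')).symm (htr z hz.1)
  have hz3 : (z : SL(2, F)) 0 1 ≠ 0 := fun he => hz1 (Subtype.ext (Subtype.ext (by
    rw [hz2, he, upT_zero]; rfl)))
  have hx : h * ⟨g, hg⟩ * h⁻¹ ∈ T := hh (conj_mem_cj.2 (mem_zpowers _))
  have h5 := congrArg Subtype.val (hz.2 _ hx)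
  simp only [coe_mul] at h5
  rw [hz2] at h5
  exact ⟨h, h.2, by
    have := eq_upT_of_comm h0 hz3 h5 (htr _ hx)
    exact (congrArg (fun z : SL(2, F) => z 1 0) this).trans rfl⟩

theorem card_upper_par (h0 : (2 : F) ≠ 0) {L : Subgroup SL(2, F)} [Fintype L] (hneg : -1 ∈ L) :
    (Finset.univ.filter fun g : L => (g : SL(2, F)) 1 0 = 0 ∧ trS (g : SL(2, F)) ^ 2 = 4).card =
      2 * Nat.card (upQ L) := by
  have := Fintype.ofFinite (upQ L)
  rw [Nat.card_eq_fintype_card, show 2 * Fintype.card (upQ L) =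
    (Finset.univ : Finset (Bool × upQ L)).card by simp]
  have hm : ∀ g ∈ L, -g ∈ L := fun g hg => by simpa using mul_mem hneg hg
  symm
  refine Finset.card_bij (fun x _ => if x.1 then ⟨upT (x.2 : F), x.2.2⟩ else ⟨-upT (x.2 : F), hm _ x.2.2⟩)
    ?_ ?_ ?_
  · rintro ⟨b, s⟩ -
    rw [Finset.mem_filter]
    cases b <;> simp [trS, sl2_neg] <;> norm_num
  · rintro ⟨b, s⟩ - ⟨b', s'⟩ - h
    have h1 := congrArg (fun z : L => (z : SL(2, F)) 0 0) h
    have h3 := congrArg (fun z : L => (z : SL(2, F)) 0 1) h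
    cases b <;> cases b' <;> simp [sl2_neg] at h1 h3
    · rw [h3]
    · exact (h0 (by linear_combination -h1)).elim
    · exact (h0 (by linear_combination h1)).elim
    · rw [h3]
  · intro g hg
    rw [Finset.mem_filter] at hg
    rcases eq_or_of_upper hg.2.1 hg.2.2 with h | h
    · exact ⟨⟨true, ⟨_, mem_upQ.2 (h ▸ g.2)⟩⟩, Finset.mem_univ _, Subtype.ext h.symm⟩
    · exact ⟨⟨false, ⟨_, mem_upQ.2 (neg_neg (upT (-(g : SL(2, F)) 0 1)) ▸ hm _ (h ▸ g.2))⟩⟩, Finset.mem_univ _,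
        Subtype.ext h.symm⟩

theorem card_stabilizer_infty (h0 : (2 : F) ≠ 0) {L : Subgroup SL(2, F)} [Finite L] (hneg : -1 ∈ L)
    {ν : F} (hν : ν ≠ 0) (hu : upT ν ∈ L) : ∃ k, 1 ≤ k ∧ k + 1 ≤ Nat.card (upQ L) ∧
      Nat.card (stabilizer L (∞ : OnePoint F)) = 2 * (Nat.card (upQ L) * k) := by
  have := Fintype.ofFinite L
  have hs : ∀ g : stabilizer L (∞ : OnePoint F), ((g : L) : SL(2, F)) 1 0 = 0 := fun g =>
    sl_fix_infty.1 g.2
  let χ : stabilizer L (∞ : OnePoint F) →* F :=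
    { toFun := fun g => ((g : L) : SL(2, F)) 0 0 ^ 2
      map_one' := by simp
      map_mul' := fun a b => by simp only [coe_mul, sl2_mul, hs]; ring }
  refine ⟨Nat.card χ.toHomUnits.range, Nat.card_pos, ?_, ?_⟩
  · have h1 : Nat.card (Option χ.toHomUnits.range) ≤ Nat.card (upQ L) := by
      refine Nat.card_le_card_of_injective (fun x => x.elim 0 fun y => ⟨((y : Fˣ) : F) * ν, ?_⟩) ?_
      · obtain ⟨_, g, rfl⟩ := y
        exact mem_upQ.2 (conj_upT_of_upper (hs g) ν ▸ mul_mem (mul_mem g.1.2 hu) (inv_mem g.1.2))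
      · rintro (_ | x) (_ | y) h
        · rfl
        · exact (mul_ne_zero (Units.ne_zero _) hν (congrArg Subtype.val h).symm).elim
        · exact (mul_ne_zero (Units.ne_zero _) hν (congrArg Subtype.val h)).elim
        · exact congrArg Option.some (Subtype.ext (Units.ext (mul_right_cancel₀ hν (congrArg Subtype.val h))))
    rwa [Finite.card_option] at h1
  · rw [← mul_assoc, ← card_upper_par h0 hneg, ← index_ker, ← χ.toHomUnits.ker.card_mul_index]
    congr 1
    rw [← Fintype.card_subtype, ← Nat.card_eq_fintype_card]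
    refine Nat.card_congr ⟨fun g => ⟨g.1.1, hs g.1, ?_⟩, fun g => ⟨⟨g.1, sl_fix_infty.2 g.2.1⟩, ?_⟩,
      fun _ => rfl, fun _ => rfl⟩
    · have h1 : ((g.1 : L) : SL(2, F)) 0 0 ^ 2 = 1 := congrArg Units.val g.2
      have hd := sl2_det ((g.1 : L) : SL(2, F))
      rw [hs] at hd
      rw [trS]
      have h3 : ((g.1 : L) : SL(2, F)) 1 1 = ((g.1 : L) : SL(2, F)) 0 0 := by
        linear_combination ((g.1 : L) : SL(2, F)) 0 0 * hd - ((g.1 : L) : SL(2, F)) 1 1 * h1
      rw [h3]; linear_combination 4 * h1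
    · refine Units.ext ?_
      show (g.1 : SL(2, F)) 0 0 ^ 2 = 1
      rcases eq_or_of_upper g.2.1 g.2.2 with h | h <;> rw [h] <;> simp [sl2_neg]

/-- Dickson's count -/
theorem dickson_count [IsAlgClosed F] [hp : Fact p.Prime] [CharP F p] (h2 : p ≠ 2)
    {L : Subgroup SL(2, F)} [Fintype L] (hneg : -1 ∈ L) {ν : F} (hν : ν ≠ 0) (hu : upT ν ∈ L)
    (hn : ∃ g ∈ L, g 1 0 ≠ 0) : (orbF L (∞ : OnePoint F)).card = Nat.card (upQ L) + 1 ∨
      (Nat.card (upQ L) = 3 ∧ (orbF L (∞ : OnePoint F)).card = 10 ∧ Nat.card L = 120) := by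
  have h0 := two_ne_zero_of_ne (K := F) h2
  set O := orbF L (∞ : OnePoint F) with hO
  set q := Nat.card (upQ L) with hq
  set N := Nat.card L with hN
  let z : L := ⟨-1, hneg⟩
  have hz1 : (1 : L) ≠ z := fun h =>
    h0 (by have := congrArg (fun z : L => (z : SL(2, F)) 0 0) h; simp [z, sl2_neg] at this
           linear_combination this)
  have hzx : ∀ x : OnePoint F, z • x = x := fun x => (sl_neg_smul 1 x).trans (one_smul _ x)
  have hc2 : ∀ n : ℕ, n + 2 = n + ({1, z} : Finset L).card := fun n => by rw [Finset.card_pair hz1]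
  set Nc : Finset L := Finset.univ \ {1, z} with hNc
  have mNc : ∀ g : L, g ∈ Nc ↔ (g : SL(2, F)) ≠ 1 ∧ (g : SL(2, F)) ≠ -1 := fun g => by
    rw [hNc, Finset.mem_sdiff, Finset.mem_insert, Finset.mem_singleton, not_or]
    exact ⟨fun h => ⟨fun e => h.2.1 (Subtype.ext e), fun e => h.2.2 (Subtype.ext e)⟩,
      fun h => ⟨Finset.mem_univ _, fun e => h.1 (congrArg Subtype.val e),
        fun e => h.2 (congrArg Subtype.val e)⟩⟩
  have cNc : ∀ g ∈ Nc, ∀ h, h * g * h⁻¹ ∈ Nc := fun g hg h => by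
    rw [mNc] at hg ⊢
    refine ⟨fun e => hg.1 ?_, fun e => hg.2 ?_⟩
    · simpa using e
    · simp only [coe_mul, coe_inv] at e
      rw [mul_inv_eq_iff_eq_mul, neg_one_mul, ← mul_neg_one] at e
      exact mul_left_cancel e
  set P := Nc.filter fun g : L => trS (g : SL(2, F)) ^ 2 = 4 with hP
  set S := Nc.filter fun g : L => ¬ trS (g : SL(2, F)) ^ 2 = 4 with hS
  have cP : ∀ g ∈ P, ∀ h, h * g * h⁻¹ ∈ P := fun g hg h => by
    rw [hP, Finset.mem_filter] at hg ⊢
    exact ⟨cNc g hg.1 h, by simpa [trS_conj] using hg.2⟩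
  have e1 : P.card + S.card + 2 = N := by
    rw [hP, hS, Finset.card_filter_add_card_filter_not, hNc, hc2,
      Finset.card_sdiff_add_card_eq_card (Finset.subset_univ _), hN, Nat.card_eq_fintype_card,
      Finset.card_univ]
  have e2 : ∀ x : OnePoint F, (Nc.filter fun g => g • x = x).card + 2 = Nat.card (stabilizer L x) := by
    intro x
    rw [← card_filter_fix, hc2, ← Finset.card_union_of_disjoint
      (Finset.disjoint_of_subset_left (Finset.filter_subset _ _) Finset.sdiff_disjoint)]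
    congr 1
    ext g
    by_cases h : g = 1 ∨ g = z
    · rcases h with rfl | rfl <;> simp [hzx]
    · simp [hNc, h, not_or.1 h]
  have e3 : ∀ x : OnePoint F, ∑ y ∈ orbF L x, (Nc.filter fun g => g • y = y).card +
      2 * (orbF L x).card = N := fun x => by
    rw [sum_card_fix_orbit cNc, hN, ← card_orbF_mul x, ← e2]; ring
  have e4 : (P.filter fun g => g • (∞ : OnePoint F) = ∞).card + 2 = 2 * q := by
    rw [hq, ← card_upper_par h0 hneg, hc2, ← Finset.card_union_of_disjoint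
      (Finset.disjoint_of_subset_left ((Finset.filter_subset _ _).trans (Finset.filter_subset _ _))
      Finset.sdiff_disjoint)]
    congr 1
    ext g
    have : g • (∞ : OnePoint F) = ∞ ↔ (g : SL(2, F)) 1 0 = 0 := sl_fix_infty
    by_cases h : g = 1 ∨ g = z
    · rw [Finset.mem_filter (s := Finset.univ)]
      rcases h with rfl | rfl <;> simp [z, trS, sl2_neg] <;> norm_num
    · simp [hP, hNc, h, not_or.1 h, this, and_comm]
  have e5 : P.card + 2 * O.card = O.card * (2 * q) := by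
    rw [← e4, mul_add, ← sum_card_fix_orbit cP, sum_card_fix, Finset.card_eq_sum_ones, mul_comm 2]
    congr 1
    refine Finset.sum_congr rfl fun g hg => ?_
    rw [hP, Finset.mem_filter, mNc] at hg
    obtain ⟨x, hx⟩ := exists_fix_of_par h0 hg.2 hg.1.1 hg.1.2
    obtain ⟨h, hh, e⟩ := exists_conj_upper h2 hν hu g.2 hg.2
    have h3 : x ∈ orbF L (∞ : OnePoint F) := by
      refine mem_orbF.2 ⟨(⟨h, hh⟩ : L)⁻¹, (hx _).1 ?_⟩
      have := sl_fix_infty.2 e
      rw [mul_smul, mul_smul] at this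
      exact eq_inv_smul_iff.2 this
    symm
    rw [Finset.card_eq_one]
    exact ⟨x, by
      ext y
      rw [Finset.mem_filter, Finset.mem_singleton]
      exact ⟨fun h => (hx y).1 h.2, fun h => ⟨h ▸ h3, (hx y).2 h⟩⟩⟩
  have hfin : {x : OnePoint F | ∃ g ∈ Nc, g • x = x}.Finite := by
    have : {x : OnePoint F | ∃ g ∈ Nc, g • x = x} = ⋃ g ∈ Nc, {x | g • x = x} := by ext; simp
    rw [this]
    refine Nc.finite_toSet.biUnion fun g hg => ?_
    by_cases ht : trS (g : SL(2, F)) ^ 2 = 4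
    · obtain ⟨x, hx⟩ := exists_fix_of_par h0 ht ((mNc g).1 hg).1 ((mNc g).1 hg).2
      exact (Set.finite_singleton x).subset fun y hy => (hx y).1 hy
    · obtain ⟨x, x', -, hx⟩ := exists_fix_of_not_par h0 ht
      exact (Set.toFinite {x, x'}).subset fun y hy => (hx y).1 hy
  set Ω := hfin.toFinset with hΩ
  have mΩ : ∀ x, x ∈ Ω ↔ ∃ g ∈ Nc, g • x = x := fun x => Set.Finite.mem_toFinset _
  have hΩo : ∀ x ∈ Ω, orbF L x ⊆ Ω := fun x hx y hy => by
    obtain ⟨h, rfl⟩ := mem_orbF.1 hy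
    obtain ⟨g, hg, e⟩ := (mΩ x).1 hx
    exact (mΩ _).2 ⟨_, cNc g hg h, by rw [mul_smul, mul_smul, inv_smul_smul, e]⟩
  have e6 : ∑ x ∈ Ω, (Nc.filter fun g => g • x = x).card = P.card + 2 * S.card := by
    rw [sum_card_fix, ← Finset.sum_filter_add_sum_filter_not Nc
      (fun g : L => trS (g : SL(2, F)) ^ 2 = 4), Finset.card_eq_sum_ones P, mul_comm 2,
      ← smul_eq_mul, ← Finset.sum_const]
    congr 1 <;> refine Finset.sum_congr rfl fun g hg => ?_ <;> rw [Finset.mem_filter] at hg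
    · obtain ⟨x, hx⟩ := exists_fix_of_par h0 hg.2 ((mNc g).1 hg.1).1 ((mNc g).1 hg.1).2
      rw [Finset.card_eq_one]
      exact ⟨x, by
        ext y
        rw [Finset.mem_filter, Finset.mem_singleton]
        exact ⟨fun h => (hx y).1 h.2, fun h => ⟨(mΩ y).2 ⟨g, hg.1, (hx y).2 h⟩, (hx y).2 h⟩⟩⟩
    · obtain ⟨x, x', h, hx⟩ := exists_fix_of_not_par h0 hg.2
      rw [Finset.card_eq_two]
      exact ⟨x, x', h, by
        ext y
        rw [Finset.mem_filter, Finset.mem_insert, Finset.mem_singleton]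
        exact ⟨fun h => (hx y).1 h.2, fun h => ⟨(mΩ y).2 ⟨g, hg.1, (hx y).2 h⟩, (hx y).2 h⟩⟩⟩
  have hOΩ : O ⊆ Ω := hΩo _ ((mΩ _).2 ⟨⟨_, hu⟩, (mNc _).2 ⟨fun e => hν (by
    simpa using congrArg (fun z : SL(2, F) => z 0 1) e), fun e => hν (by
    simpa [sl2_neg] using congrArg (fun z : SL(2, F) => z 0 1) e)⟩, upT_smul_infty ν⟩)
  have e7 := Finset.sum_sdiff (f := fun x => (Nc.filter fun g => g • x = x).card) hOΩ
  have e8 := e3 ∞
  obtain ⟨k, hk1, hk, e9⟩ := card_stabilizer_infty h0 hneg hν hu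
  have e10 := card_orbF_mul (Γ := L) (∞ : OnePoint F)
  rw [e9, ← hq, ← hO, ← hN] at e10
  rw [← hO] at e8
  rw [← hq] at hk
  have hq3 : 3 ≤ q := by
    have h1 : p ∣ q := by
      rw [← addOrderOf_eq_prime (x := (⟨ν, hu⟩ : upQ L)) (p := p)
        (Subtype.ext (by simp)) (fun e => hν (congrArg Subtype.val e))]
      exact addOrderOf_dvd_natCard _
    have := Nat.le_of_dvd Nat.card_pos h1
    have := hp.out.two_le
    omega
  obtain ⟨m, hm1, hm⟩ : ∃ m, 1 ≤ m ∧ O.card = 1 + m * q := by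
    have h1 : q ∣ Nat.card {x : F | (x : OnePoint F) ∈ O} := card_dvd_of_add_mem fun s hs x hx => by
      obtain ⟨g, e⟩ := mem_orbF.1 hx
      exact mem_orbF.2 ⟨⟨_, hs⟩ * g, by rw [mul_smul, e]; exact upT_smul_coe s x⟩
    have h3 : O.card = Nat.card {x : F | (x : OnePoint F) ∈ O} + 1 := by
      have h4 : (O : Set (OnePoint F)) = insert ∞ ((↑) '' {x : F | (x : OnePoint F) ∈ O}) := by
        ext y
        cases y with
        | infty => simpa using mem_orbF.2 ⟨1, one_smul _ _⟩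
        | coe y => simp
      rw [← Set.ncard_coe_finset, h4, Set.ncard_insert_of_notMem (by simp) (O.finite_toSet.subset
        (by rw [h4]; exact Set.subset_insert _ _)), Set.ncard_image_of_injective _ coe_injective]
      rfl
    obtain ⟨m, hm⟩ := h1
    refine ⟨m, ?_, by rw [h3, hm]; ring⟩
    obtain ⟨g, hg, hc⟩ := hn
    have h5 : 1 < O.card := Finset.one_lt_card.2 ⟨_, mem_orbF.2 ⟨1, one_smul _ _⟩, _,
      mem_orbF.2 ⟨⟨g, hg⟩, rfl⟩, fun e => hc (sl_fix_infty.1 e.symm)⟩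
    rcases m with _ | m <;> omega
  have hb : ∀ x ∈ Ω, ∃ e, 2 ≤ e ∧ (orbF L x).card * (2 * e) = N := fun x hx => by
    have h1 : 2 ∣ Nat.card (stabilizer L x) := by
      have := orderOf_dvd_natCard (⟨z, hzx x⟩ : stabilizer L x)
      rwa [orderOf_eq_prime (p := 2)
        (Subtype.ext (Subtype.ext (by simp [z]))) (fun e => hz1 (congrArg Subtype.val e).symm)] at this
    obtain ⟨e, he⟩ := h1
    obtain ⟨g, hg, e'⟩ := (mΩ x).1 hx
    have := e2 x
    have : 0 < (Nc.filter fun g => g • x = x).card :=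
      Finset.card_pos.2 ⟨g, Finset.mem_filter.2 ⟨hg, e'⟩⟩
    exact ⟨e, by omega, by rw [← he, card_orbF_mul]⟩
  obtain ⟨r, hr⟩ : ∃ r, q = r + 2 := ⟨q - 2, by omega⟩
  by_cases hne : Ω \ O = ∅
  · rw [hne, Finset.sum_empty] at e7
    exfalso
    have h1 : O.card * (2 * q) ≤ N := e10 ▸ Nat.mul_le_mul_left _
      (Nat.mul_le_mul_left _ (Nat.le_mul_of_pos_right _ hk1))
    have : 1 * q ≤ m * q := Nat.mul_le_mul_right _ hm1
    omega
  obtain ⟨x, hx⟩ := Finset.nonempty_iff_ne_empty.2 hne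
  rw [Finset.mem_sdiff] at hx
  have hsub : ∀ y ∈ Ω \ O, orbF L y ⊆ Ω \ O := fun y hy => by
    rw [Finset.mem_sdiff] at hy
    exact Finset.subset_sdiff.2 ⟨hΩo y hy.1, (disjoint_orbF hy.2).symm⟩
  have hx' : Ω \ O = orbF L x := by
    refine Finset.Subset.antisymm (fun y hy => ?_) (hsub x (Finset.mem_sdiff.2 hx))
    by_contra hy'
    have h1 := Finset.sum_le_sum_of_subset (f := fun x => (Nc.filter fun g => g • x = x).card)
      (Finset.union_subset (hsub x (Finset.mem_sdiff.2 hx)) (hsub y hy))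
    rw [Finset.sum_union (disjoint_orbF hy')] at h1
    obtain ⟨a, ha, ea⟩ := hb x hx.1
    obtain ⟨b, hb, eb⟩ := hb y (Finset.mem_sdiff.1 hy).1
    have := e3 x
    have := e3 y
    have : (orbF L x).card * 4 ≤ N := ea ▸ Nat.mul_le_mul_left _ (by omega)
    have : (orbF L y).card * 4 ≤ N := eb ▸ Nat.mul_le_mul_left _ (by omega)
    have : O.card * 4 ≤ O.card * (2 * q) := Nat.mul_le_mul_left _ (by omega)
    omega
  rw [hx'] at e7
  obtain ⟨e, -, he⟩ := hb x hx.1
  have e11 := e3 x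
  have e12 : (orbF L x).card = 2 + O.card * r := by
    rw [hr] at e5
    have : O.card * (2 * (r + 2)) = 2 * (O.card * r) + 4 * O.card := by ring
    omega
  rcases dickson_num (r := r) (k := k) (m := m) (e := e) (by omega) (by omega) hk1 hm1 (by
    rw [e12, ← e10, hm, hr] at he
    linarith) with h | ⟨h1, h3, h4⟩
  · left; rw [hm, h]; ring
  · right
    rw [← e10, hm, hr, h1, h3, h4]
    simp

theorem neg_one_mem_of_mem {K : Type*} [Field K] [Finite K] [Fact p.Prime] [CharP K p] (h2 : p ≠ 2)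
    {L : Subgroup SL(2, K)} {s t : K} (hs : s ≠ 0) (ht : t ≠ 0) (h1 : upT s ∈ L) (h3 : loT t ∈ L) :
    -1 ∈ L := by
  obtain ⟨T, hT⟩ := exists_isSylowOf (p := 2) (Subgroup.closure {upT s, loT t})
  have hb : T ≠ ⊥ := fun hb => not_comm_sylow_two h2 hs ht hT (hb ▸ inferInstance)
  obtain ⟨x, hx, ho⟩ := exists_mem_orderOf_eq_prime Nat.prime_two (dvd_card_of_isPGroup hT.isP hb)
  have hle : Subgroup.closure {upT s, loT t} ≤ L := (closure_le _).2 (by
    rintro _ (rfl | rfl) <;> assumption)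
  rcases eq_one_or_neg_one_of_sq (two_ne_zero_of_ne h2) (ho ▸ pow_orderOf_eq_one x) with h | h
  · rw [h, orderOf_one] at ho; omega
  · exact h ▸ hle (hT.le hx)

theorem mem_of_card_three {Q : AddSubgroup F} (hq : Nat.card Q = 3) {ν : F} (hν : ν ≠ 0)
    (hu : ν ∈ Q) : (3 : F) = 0 ∧ ∀ s ∈ Q, s = 0 ∨ s = ν ∨ s = -ν := by
  have : Finite Q := Nat.finite_of_card_ne_zero (by omega)
  have h3 : (3 : F) = 0 := by
    have := congrArg Subtype.val (card_nsmul_eq_zero' (x := (⟨ν, hu⟩ : Q)))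
    rw [hq] at this
    simpa [hν] using this
  refine ⟨h3, fun s hs => ?_⟩
  by_contra hcon
  push Not at hcon
  have h1 : ν ≠ -ν := fun h => hν (by linear_combination ν * h3 - h)
  have h4 : ({s, 0, ν, -ν} : Finset F).card = 4 := by
    rw [Finset.card_insert_of_notMem (by simp [hcon]), Finset.card_insert_of_notMem
      (by simp [hν.symm, hν]), Finset.card_pair h1]
  have h5 := Set.ncard_le_ncard (s := (({s, 0, ν, -ν} : Finset F) : Set F)) (t := Q) (by
    intro x hx
    simp only [Finset.coe_insert, Finset.coe_singleton, Set.mem_insert_iff,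
      Set.mem_singleton_iff] at hx
    rcases hx with rfl | rfl | rfl | rfl
    exacts [hs, Q.zero_mem, hu, Q.neg_mem hu]) (Set.toFinite _)
  rw [Set.ncard_coe_finset, h4] at h5
  have : (Q : Set F).ncard = 3 := hq
  omega

theorem upT_one_mem_of_sq (h3 : (3 : F) = 0) {L : Subgroup SL(2, F)} (hneg : -1 ∈ L) {ν : F}
    (h : ν ^ 2 = 1 - ν) (hu : upT ν ∈ L) (hl : loT 1 ∈ L) : upT 1 ∈ L := by
  have hU : upT (-ν) ∈ L := upT_inv ν ▸ inv_mem hu
  have hL : loT (-1) ∈ L := loT_inv (1 : F) ▸ inv_mem hl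
  have key : upT (-ν) * loT (-1) * upT ν * loT 1 * upT (-ν) * loT 1 * upT ν * loT (-1) * -1 =
      (upT 1)⁻¹ := by
    rw [upT_inv, mul_neg_one]
    refine sl2_ext ?_ ?_ ?_ ?_ <;>
      simp only [sl2_neg, sl2_mul, upT_00, upT_01, upT_10, upT_11, loT_00, loT_01, loT_10, loT_11]
    all_goals grind
  rw [← inv_mem_iff, ← key]
  apply_rules [mul_mem]

/-- Dickson's lemma over an algebraically closed field -/
theorem dickson_main [IsAlgClosed F] [hp : Fact p.Prime] [CharP F p] (h2 : p ≠ 2)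
    {L : Subgroup SL(2, F)} [Finite L] (hneg : -1 ∈ L) {ν : F} (hν : ν ≠ 0) (hu : upT ν ∈ L)
    (hl : loT 1 ∈ L) : (∀ g ∈ L, g 1 0 ≠ 0 → g 0 0 / g 1 0 ∈ upQ L) ∨
      (Nat.card (upQ L) = 3 ∧ Nat.card L = 120 ∧ (upT 1 ∈ L ∨ ν ^ 2 = -1)) := by
  have := Fintype.ofFinite L
  have := Fintype.ofFinite (upQ L)
  have h0 : ((0 : F) : OnePoint F) ∈ orbF L (∞ : OnePoint F) := by
    obtain ⟨h, hh, e⟩ := exists_conj_upper h2 hν hu hl (by simp [trS]; norm_num)
    refine mem_orbF.2 ⟨(⟨h, hh⟩ : L)⁻¹, ?_⟩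
    have h1 := sl_fix_infty.2 e
    rw [mul_smul, mul_smul] at h1
    have h3 := (eq_inv_smul_iff.2 h1)
    change h⁻¹ • (∞ : OnePoint F) = _
    generalize h⁻¹ • (∞ : OnePoint F) = y at h3
    cases y with
    | infty => simpa using sl_fix_infty.1 h3
    | coe y => simpa using sl_fix_coe.1 h3
  have hadd : ∀ x : F, (x : OnePoint F) ∈ orbF L (∞ : OnePoint F) → ∀ s ∈ upQ L,
      ((x + s : F) : OnePoint F) ∈ orbF L (∞ : OnePoint F) := fun x hx s hs => by
    obtain ⟨g, e⟩ := mem_orbF.1 hx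
    exact mem_orbF.2 ⟨⟨_, hs⟩ * g, by rw [mul_smul, e]; exact upT_smul_coe s x⟩
  have hinf : (∞ : OnePoint F) ∈ orbF L (∞ : OnePoint F) := mem_orbF.2 ⟨1, one_smul _ _⟩
  have hg : ∀ g ∈ L, g 1 0 ≠ 0 → ((g 0 0 / g 1 0 : F) : OnePoint F) ∈ orbF L (∞ : OnePoint F) :=
    fun g hg hc => mem_orbF.2 ⟨⟨g, hg⟩, (sl_smul_infty g).trans (if_neg hc)⟩
  rcases dickson_count h2 hneg hν hu ⟨_, hl, by simp⟩ with h | ⟨h1, h3, h4⟩
  · left
    have h1 : insert ∞ (Finset.univ.image fun s : upQ L => ((s : F) : OnePoint F)) =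
        orbF L (∞ : OnePoint F) := by
      refine Finset.eq_of_subset_of_card_le (Finset.insert_subset hinf fun y hy => ?_) ?_
      · obtain ⟨s, -, rfl⟩ := Finset.mem_image.1 hy
        simpa using hadd 0 h0 s s.2
      · rw [h, Finset.card_insert_of_notMem (by simp), Finset.card_image_of_injective _
          fun a b e => Subtype.ext (coe_injective e), Finset.card_univ, Nat.card_eq_fintype_card]
    intro g hgL hc
    have := hg g hgL hc
    rw [← h1, Finset.mem_insert, Finset.mem_image] at this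
    obtain ⟨s, -, e⟩ := this.resolve_left (coe_ne_infty _)
    exact coe_injective e ▸ s.2
  · refine Or.inr ⟨h1, h4, ?_⟩
    by_cases h5 : (1 : F) ∈ upQ L
    · exact Or.inl h5
    right
    obtain ⟨h6, h7⟩ := mem_of_card_three h1 hν hu
    have h8 : insert ∞ (Finset.univ.image fun s : Fin 3 × upQ L =>
        ((![0, 1, -1] s.1 + s.2 : F) : OnePoint F)) = orbF L (∞ : OnePoint F) := by
      refine Finset.eq_of_subset_of_card_le (Finset.insert_subset hinf fun y hy => ?_) ?_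
      · obtain ⟨⟨i, s⟩, -, rfl⟩ := Finset.mem_image.1 hy
        refine hadd _ ?_ s s.2
        fin_cases i
        · exact h0
        · simpa using hg _ hl (by simp)
        · have hl' : loT (-1 : F) ∈ L := loT_inv (1 : F) ▸ inv_mem hl
          simpa [div_neg] using hg _ hl' (by simp)
      · rw [h3, Finset.card_insert_of_notMem (by simp), Finset.card_image_of_injective,
          Finset.card_univ, Fintype.card_prod, ← Nat.card_eq_fintype_card (α := upQ L), h1]
        · simp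
        rintro ⟨i, s⟩ ⟨j, t⟩ e
        have e' := coe_injective e
        have h9 := (upQ L).sub_mem s.2 t.2
        have h10 := (upQ L).sub_mem t.2 s.2
        fin_cases i <;> fin_cases j <;> simp at e' <;>
          first
          | (rw [e'])
          | (rw [Subtype.ext e'])
          | exact (h5 (by convert h9 using 1; linear_combination -e')).elim
          | exact (h5 (by convert h10 using 1; linear_combination e')).elim
          | exact (h5 (by convert h9 using 1; linear_combination -e' + h6)).elim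
          | exact (h5 (by convert h10 using 1; linear_combination e' + h6)).elim
    have hν1 : ν + 1 ≠ 0 := fun e => h5 (by
      convert (upQ L).neg_mem (mem_upQ.2 hu) using 1; linear_combination e)
    have hν2 : ν - 1 ≠ 0 := fun e => h5 (by
      convert (mem_upQ.2 hu) using 1; linear_combination -e)
    have h10 := mem_orbF.1 (hadd 0 h0 ν hu)
    obtain ⟨g, e⟩ := h10
    have h11 : ((ν / (ν + 1) : F) : OnePoint F) ∈ orbF L (∞ : OnePoint F) :=
      mem_orbF.2 ⟨⟨_, hl⟩ * g, by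
        rw [mul_smul, e]
        change loT (1 : F) • ((0 + ν : F) : OnePoint F) = _
        simp [sl_smul_coe, hν1]⟩
    rw [← h8, Finset.mem_insert, Finset.mem_image] at h11
    obtain ⟨⟨i, s⟩, -, e⟩ := h11.resolve_left (coe_ne_infty _)
    have e' := coe_injective e
    rw [eq_div_iff hν1] at e'
    by_contra hcon
    have a1 : ν ^ 2 ≠ 1 - ν := fun h => h5 (upT_one_mem_of_sq h6 hneg h hu hl)
    have a2 : (-ν) ^ 2 ≠ 1 - -ν := fun h =>
      h5 (upT_one_mem_of_sq h6 hneg h (upT_inv ν ▸ inv_mem hu) hl)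
    rcases h7 s s.2 with h | h | h <;> rw [h] at e' <;> fin_cases i <;> simp at e' <;> grind

/-- Dickson's lemma over a finite field -/
theorem dickson_fin {K : Type*} [Field K] [Finite K] [hp : Fact p.Prime] [CharP K p] (h2 : p ≠ 2)
    {L : Subgroup SL(2, K)} {ν : K} (hν : ν ≠ 0) (hu : upT ν ∈ L) (hl : loT 1 ∈ L) :
    (∀ g ∈ L, g 1 0 ≠ 0 → g 0 0 / g 1 0 ∈ upQ L) ∨
      (Nat.card (upQ L) = 3 ∧ Nat.card L = 120 ∧ (upT 1 ∈ L ∨ ν ^ 2 = -1)) := by
  set f := algebraMap K (AlgebraicClosure K) with hf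
  set φ := Matrix.SpecialLinearGroup.map (n := Fin 2) f with hφ
  have hi : Function.Injective φ := sl2_map_injective f
  have hm : ∀ s, upT (f s) ∈ L.map φ ↔ upT s ∈ L := fun s => by
    rw [← map_upT, mem_map_iff_mem hi]
  have hQ : upQ (L.map φ) = (upQ L).map f.toAddMonoidHom := by
    ext s
    constructor
    · rintro ⟨g, hg, e⟩
      have h1 : f (g 0 1) = s := congrArg (fun z : SL(2, AlgebraicClosure K) => z 0 1) e
      exact ⟨g 0 1, (hm _).1 ⟨g, hg, h1 ▸ e⟩, h1⟩
    · rintro ⟨s, hs, rfl⟩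
      exact (hm s).2 hs
  have : Finite (L.map φ) := Finite.Set.finite_image _ _
  rcases dickson_main (L := L.map φ) h2 ⟨-1, neg_one_mem_of_mem h2 hν one_ne_zero hu hl, by
      refine sl2_ext ?_ ?_ ?_ ?_ <;> simp [hφ]⟩ ((map_ne_zero f).2 hν) ((hm ν).2 hu)
    ⟨_, hl, by rw [map_loT, map_one]⟩ with h | ⟨h1, h3, h4⟩
  · refine Or.inl fun g hg hc => (hm _).1 ?_
    rw [map_div₀]
    exact h _ (mem_map_of_mem φ hg) ((map_ne_zero f).2 hc)
  · rw [hQ, AddSubgroup.card_map_of_injective f.injective] at h1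
    rw [card_map_of_injective hi] at h3
    exact Or.inr ⟨h1, h3, h4.imp (fun h => (hm 1).1 (by rwa [map_one]))
      fun h => f.injective (by simpa using h)⟩

theorem dickson_weak {K : Type*} [Field K] [Finite K] [hp : Fact p.Prime] [CharP K p] (h2 : p ≠ 2)
    {L : Subgroup SL(2, K)} {ν : K} (hν : ν ≠ 0) (hu : upT ν ∈ L) (hl : loT 1 ∈ L) :
    upT 1 ∈ L ∨ ν ^ 2 = -1 := by
  rcases dickson_fin h2 hν hu hl with h | ⟨-, -, h⟩
  · left; simpa [mem_upQ] using h _ hl (by simp)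
  · exact h

/-- the icosahedral form in characteristic three -/
def ico (x y : F) : F := x ^ 12 + x ^ 10 * y ^ 2 - x ^ 6 * y ^ 6 + x ^ 2 * y ^ 10 - y ^ 12

theorem upT_one_not_mem (h3 : (3 : F) = 0) {l : F} (hl : l ^ 2 = -1) :
    upT 1 ∉ Subgroup.closure {upT l, loT (1 : F)} := fun h => by
  have key : ∀ g ∈ Subgroup.closure {upT l, loT (1 : F)}, ∀ x y : F,
      ico (g 0 0 * x + g 0 1 * y) (g 1 0 * x + g 1 1 * y) = ico x y := by
    intro g hg
    induction hg using closure_induction with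
    | mem g hg =>
      rcases hg with rfl | rfl <;> intro x y <;>
        simp only [ico, upT_00, upT_01, upT_10, upT_11, loT_00, loT_01, loT_10, loT_11]
      · linear_combination ((1)*y^12*l^2 + (-1)*y^12*l^4 + (1)*y^12*l^10 + (8)*x^1*y^11*l^1 + (-8)*x^1*y^11*l^3
     + (2)*x^1*y^11*l^5 + (-2)*x^1*y^11*l^7 + (12)*x^1*y^11*l^9 + (36)*x^2*y^10
     + (-36)*x^2*y^10*l^2 + (21)*x^2*y^10*l^4 + (-21)*x^2*y^10*l^6 + (66)*x^2*y^10*l^8
     + (-120)*x^3*y^9*l^1 + (100)*x^3*y^9*l^3 + (-100)*x^3*y^9*l^5 + (220)*x^3*y^9*l^7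
     + (-300)*x^4*y^8 + (285)*x^4*y^8*l^2 + (-285)*x^4*y^8*l^4 + (495)*x^4*y^8*l^6
     + (540)*x^5*y^7*l^1 + (-540)*x^5*y^7*l^3 + (792)*x^5*y^7*l^5 + (714)*x^6*y^6
     + (-714)*x^6*y^6*l^2 + (924)*x^6*y^6*l^4 + (-672)*x^7*y^5*l^1 + (792)*x^7*y^5*l^3
     + (-450)*x^8*y^4 + (495)*x^8*y^4*l^2 + (220)*x^9*y^3*l^1 + (66)*x^10*y^2) * hl + ((-2)*x^1*y^11*l^1 + (-12)*x^2*y^10 + (40)*x^3*y^9*l^1 + (100)*x^4*y^8
     + (-182)*x^5*y^7*l^1 + (-238)*x^6*y^6 + (224)*x^7*y^5*l^1 + (150)*x^8*y^4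
     + (-70)*x^9*y^3*l^1 + (-22)*x^10*y^2 + (4)*x^11*y^1*l^1) * h3
      · linear_combination ((-4)*x^1*y^11 + (-22)*x^2*y^10 + (-70)*x^3*y^9 + (-150)*x^4*y^8 + (-224)*x^5*y^7
     + (-238)*x^6*y^6 + (-182)*x^7*y^5 + (-100)*x^8*y^4 + (-40)*x^9*y^3
     + (-12)*x^10*y^2 + (-2)*x^11*y^1) * h3
    | one => intro x y; simp
    | mul a b _ _ ha hb =>
      intro x y
      rw [← hb x y, ← ha (b 0 0 * x + b 0 1 * y)]
      simp only [sl2_mul]
      congr 1 <;> ring
    | inv a _ ha =>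
      intro x y
      rw [← ha]
      simp only [sl2_inv_00, sl2_inv_01, sl2_inv_10, sl2_inv_11]
      have := sl2_det a
      congr 1
      · linear_combination x * this
      · linear_combination y * this
  have := key _ h 0 1
  simp only [ico, upT_00, upT_01, upT_10, upT_11] at this
  exact one_ne_zero (by linear_combination h3 - this : (1 : F) = 0)

theorem loT_mem_of_upT_mem {L : Subgroup SL(2, F)} (h1 : upT 1 ∈ L) (hl : loT 1 ∈ L) {s : F}
    (hs : upT s ∈ L) : loT s ∈ L := by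
  have hw : upT 1 * (loT 1)⁻¹ * upT 1 ∈ L := mul_mem (mul_mem h1 (inv_mem hl)) h1
  have := mul_mem (mul_mem hw (inv_mem hs)) (inv_mem hw)
  convert this using 1
  rw [eq_mul_inv_iff_mul_eq, loT_inv, upT_inv]
  refine sl2_ext ?_ ?_ ?_ ?_ <;> simp [sl2_mul]

theorem eq_top_of_upQ {L : Subgroup SL(2, F)} (hl : loT 1 ∈ L) (h : ∀ s, upT s ∈ L) : L = ⊤ := by
  refine eq_top_iff.2 fun A _ => Matrix.SL2.transvection_induction (· ∈ L)
    (fun i j hij c => ?_) (fun _ _ => mul_mem) A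
  fin_cases i <;> fin_cases j
  · exact absurd rfl hij
  · convert h c using 1
    refine sl2_ext ?_ ?_ ?_ ?_ <;> simp [Matrix.SpecialLinearGroup.transvection, Matrix.transvection]
  · convert loT_mem_of_upT_mem (h 1) hl (h c) using 1
    refine sl2_ext ?_ ?_ ?_ ?_ <;> simp [Matrix.SpecialLinearGroup.transvection, Matrix.transvection]
  · exact absurd rfl hij

/-- an additive subgroup containing `1` and closed under inversion is a subfield (Hua) -/
theorem exists_subfield_of_inv_mem (h2 : (2 : F) ≠ 0) {Q : AddSubgroup F} (h1 : 1 ∈ Q)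
    (h : ∀ s ∈ Q, s⁻¹ ∈ Q) : ∃ S : Subfield F, ∀ x, x ∈ S ↔ x ∈ Q := by
  have hsq : ∀ a ∈ Q, a * a ∈ Q := fun a ha => by
    by_cases h0 : a = 0
    · simpa [h0] using Q.zero_mem
    by_cases h3 : a = 1
    · simpa [h3] using h1
    have h4 : 1 - a ≠ 0 := sub_ne_zero.2 (Ne.symm h3)
    have := Q.sub_mem ha (h _ (Q.add_mem (h a ha) (h _ (Q.sub_mem h1 ha))))
    convert this using 1
    field_simp
    ring
  have hh : ∀ a ∈ Q, a / 2 ∈ Q := fun a ha => by
    have := h _ (Q.add_mem (h a ha) (h a ha))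
    convert this using 1
    rw [← two_mul, mul_inv, inv_inv, div_eq_inv_mul]
  exact ⟨{ Q with
    mul_mem' := fun {a b} ha hb => by
      have := hh _ (Q.sub_mem (Q.sub_mem (hsq _ (Q.add_mem ha hb)) (hsq a ha)) (hsq b hb))
      rwa [show ((a + b) * (a + b) - a * a - b * b) / 2 = a * b by field_simp; ring] at this
    one_mem' := h1
    inv_mem' := h }, fun _ => Iff.rfl⟩

theorem card_eq_nine [Finite F] (h3 : (3 : F) = 0) {l : F} (hl : l ^ 2 = -1)
    (hgen : Subfield.closure ({l} : Set F) = ⊤) : Nat.card F = 9 := by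
  have hnorm : ∀ a b : ZMod 3, a ^ 2 + b ^ 2 = 0 → a = 0 ∧ b = 0 := by decide
  have : Fact (Nat.Prime 3) := ⟨Nat.prime_three⟩
  have : CharP F 3 := (CharP.charP_iff_prime_eq_zero Nat.prime_three).2 (by simpa using h3)
  set f := ZMod.castHom (dvd_refl 3) F with hf
  have hz : ∀ a b : ZMod 3, f a + f b * l = 0 → a = 0 ∧ b = 0 := fun a b h => hnorm a b
    (f.injective (by
      rw [map_add, map_pow, map_pow, map_zero]
      linear_combination (f a - f b * l) * h + f b ^ 2 * hl))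
  let S : Subfield F :=
    { carrier := {x | ∃ a b : ZMod 3, x = f a + f b * l}
      mul_mem' := by
        rintro _ _ ⟨a, b, rfl⟩ ⟨c, d, rfl⟩
        exact ⟨a * c - b * d, a * d + b * c, by
          simp only [map_sub, map_mul, map_add]; linear_combination f b * f d * hl⟩
      one_mem' := ⟨1, 0, by simp⟩
      add_mem' := by
        rintro _ _ ⟨a, b, rfl⟩ ⟨c, d, rfl⟩
        exact ⟨a + c, b + d, by simp only [map_add]; ring⟩
      zero_mem' := ⟨0, 0, by simp⟩
      neg_mem' := by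
        rintro _ ⟨a, b, rfl⟩
        exact ⟨-a, -b, by simp only [map_neg]; ring⟩
      inv_mem' := by
        rintro _ ⟨a, b, rfl⟩
        by_cases h : a ^ 2 + b ^ 2 = 0
        · obtain ⟨rfl, rfl⟩ := hnorm a b h
          exact ⟨0, 0, by simp⟩
        have h' : f a ^ 2 + f b ^ 2 ≠ 0 := by
          rw [← map_pow, ← map_pow, ← map_add]; exact (map_ne_zero f).2 h
        refine ⟨a / (a ^ 2 + b ^ 2), -b / (a ^ 2 + b ^ 2), inv_eq_of_mul_eq_one_right ?_⟩
        simp only [map_div₀, map_add, map_pow, map_neg]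
        field_simp
        linear_combination -f b ^ 2 * hl }
  have hS : S = ⊤ := eq_top_iff.2 (hgen ▸ Subfield.closure_le.2 (by
    rintro _ rfl; exact ⟨0, 1, by simp⟩))
  rw [← Nat.card_congr (Equiv.ofBijective (fun x : ZMod 3 × ZMod 3 => f x.1 + f x.2 * l) ⟨?_, ?_⟩)]
  · simp
  · rintro ⟨a, b⟩ ⟨c, d⟩ h
    have := hz (a - c) (b - d) (by simp only [map_sub]; linear_combination h)
    rw [sub_eq_zero.1 this.1, sub_eq_zero.1 this.2]
  · intro x
    obtain ⟨a, b, e⟩ : x ∈ S := hS ▸ Subfield.mem_top x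
    exact ⟨(a, b), e.symm⟩

/-- Dickson's generation theorem -/
theorem dickson_gen [Finite F] (h2 : (2 : F) ≠ 0) {l : F} (hl : l ≠ 0)
    (hgen : Subfield.closure ({l} : Set F) = ⊤) :
    (Subgroup.closure {upT l, loT (1 : F)} = ⊤ ∧ ¬ (Nat.card F = 9 ∧ l ^ 2 = -1)) ∨
      (Nat.card F = 9 ∧ l ^ 2 = -1 ∧ Nat.card (Subgroup.closure {upT l, loT (1 : F)}) = 120) := by
  obtain ⟨p, hp⟩ := CharP.exists F
  have := Fact.mk (CharP.char_is_prime F p)
  have hp2 : p ≠ 2 := by rintro rfl; exact h2 (by simpa using CharP.cast_eq_zero F 2)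
  set L := Subgroup.closure {upT l, loT (1 : F)} with hL
  have hu : upT l ∈ L := subset_closure (by simp)
  have hv : loT 1 ∈ L := subset_closure (by simp)
  have key : upT 1 ∈ L → (∀ s ∈ upQ L, s⁻¹ ∈ upQ L) → L = ⊤ ∧ ¬ (Nat.card F = 9 ∧ l ^ 2 = -1) := by
    intro h1 h
    obtain ⟨S, hS⟩ := exists_subfield_of_inv_mem h2 (mem_upQ.2 h1) h
    have h3 : S = ⊤ := eq_top_iff.2 (hgen ▸ Subfield.closure_le.2 (by
      rintro _ rfl; exact (hS _).2 hu))
    refine ⟨eq_top_of_upQ hv fun s => (hS s).1 (h3 ▸ Subfield.mem_top s), fun ⟨h4, h5⟩ =>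
      upT_one_not_mem ?_ h5 h1⟩
    have := card_nsmul_eq_zero' (x := (1 : F))
    rw [h4] at this
    exact pow_eq_zero_iff two_ne_zero |>.1 (by rw [← this]; simp; norm_num)
  rcases dickson_fin hp2 hl hu hv with h | ⟨h1, h3, h4⟩
  · have h1 : upT 1 ∈ L := by simpa [mem_upQ] using h _ hv (by simp)
    refine Or.inl (key h1 fun s hs => ?_)
    by_cases h0 : s = 0
    · rwa [h0, inv_zero, ← h0]
    · simpa using h _ (loT_mem_of_upT_mem h1 hv hs) h0
  · rcases h4 with h4 | h4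
    · refine Or.inl (key h4 fun s hs => ?_)
      rcases (mem_of_card_three h1 one_ne_zero h4).2 s hs with rfl | rfl | rfl <;> simpa using hs
    · exact Or.inr ⟨card_eq_nine (mem_of_card_three h1 hl hu).1 h4 hgen, h4, h3⟩

/-- a subgroup containing two opposite transvections contains a conjugate of `SL(2, p)` -/
theorem exists_SL2p {K : Type*} [Field K] [Finite K] [hp : Fact p.Prime] [CharP K p] (h2 : p ≠ 2)
    {L : Subgroup SL(2, K)} {ν : K} (hν : ν ≠ 0) (hu : upT ν ∈ L) (hl : loT 1 ∈ L) :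
    ∃ (ρ : SL(2, ZMod p) →* SL(2, K)) (h : GL (Fin 2) K), Function.Injective ρ ∧ ρ.range ≤ L ∧
      ∀ x, (ρ x : Matrix (Fin 2) (Fin 2) K) * h =
        h * (x : Matrix (Fin 2) (Fin 2) (ZMod p)).map (ZMod.castHom (dvd_refl p) K) := by
  set f := ZMod.castHom (dvd_refl p) K with hf
  suffices H : ∃ (h : GL (Fin 2) K) (u v : SL(2, K)), u ∈ L ∧ v ∈ L ∧
      (u : Matrix (Fin 2) (Fin 2) K) * h = h * (upT (1 : K) : SL(2, K)) ∧
      (v : Matrix (Fin 2) (Fin 2) K) * h = h * (loT (1 : K) : SL(2, K)) by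
    obtain ⟨h, u, v, h1, h3, h4, h5⟩ := H
    let c : SL(2, K) →* SL(2, K) :=
      { toFun := fun x => ⟨h * (x : Matrix (Fin 2) (Fin 2) K) * ↑h⁻¹, by
          rw [Matrix.det_units_conj, x.det_coe]⟩
        map_one' := Subtype.ext (by simp)
        map_mul' := fun x y => Subtype.ext (by
          change _ = (h.val * (x : Matrix (Fin 2) (Fin 2) K) * (h⁻¹).val) *
            (h.val * (y : Matrix (Fin 2) (Fin 2) K) * (h⁻¹).val)
          simp only [Matrix.SpecialLinearGroup.coe_mul, mul_assoc, Units.inv_mul_cancel_left]) }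
    have hc : ∀ x, (c x : Matrix (Fin 2) (Fin 2) K) * h = h * (x : Matrix (Fin 2) (Fin 2) K) :=
      fun x => Units.inv_mul_cancel_right _ _
    have hi : Function.Injective c := fun x y e =>
      Subtype.ext ((Units.mul_right_inj h).1 (by rw [← hc, ← hc, e]))
    refine ⟨c.comp (Matrix.SpecialLinearGroup.map f), h, hi.comp (sl2_map_injective f), ?_,
      fun x => hc _⟩
    rw [MonoidHom.range_comp, range_map_castHom one_ne_zero one_ne_zero, MonoidHom.map_closure,
      closure_le, map_one]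
    rintro _ ⟨_, rfl | rfl, rfl⟩
    · exact (Subtype.ext ((Units.mul_left_inj h).1 ((hc _).trans h4.symm)) : c _ = u) ▸ h1
    · exact (Subtype.ext ((Units.mul_left_inj h).1 ((hc _).trans h5.symm)) : c _ = v) ▸ h3
  rcases dickson_weak h2 hν hu hl with h | h
  · exact ⟨1, _, _, h, hl, by simp, by simp⟩
  · refine ⟨Matrix.GeneralLinearGroup.mkOfDetNeZero !![ν, 1; 0, 1] (by simpa using hν), _, _, hu,
      mul_mem (mul_mem hl hu) (inv_mem hl), ?_, ?_⟩
    · ext i j
      fin_cases i <;> fin_cases j <;> simp [upT, Matrix.mul_apply, add_comm]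
    · rw [loT_inv]
      ext i j
      rw [Matrix.SpecialLinearGroup.coe_mul, Matrix.SpecialLinearGroup.coe_mul]
      fin_cases i <;> fin_cases j <;> simp [upT, loT, Matrix.mul_apply] <;> grind

theorem hasSection_SL2p {G : Type*} [Group G] {H : Subgroup G} {K : Type*} [Field K] [Finite K]
    [Fact p.Prime] [CharP K p] (h2 : p ≠ 2) (φ : H →* SL(2, K)) {ν : K} (hν : ν ≠ 0)
    (hu : upT ν ∈ φ.range) (hl : loT 1 ∈ φ.range) : HasSection H SL(2, ZMod p) := by
  obtain ⟨ρ, -, h1, h3, -⟩ := exists_SL2p h2 hν hu hl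
  exact (hasSection_of_le_range φ h3).of_surj (ψ := (MonoidHom.ofInjective h1).symm.toMonoidHom)
    (MonoidHom.ofInjective h1).symm.surjective

end Cfsg.Agent.PLoc
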