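import Cfsg.Agent.PLoc.Transfer2
import Cfsg.Prelude.Def_PLocal

/-!
Elementary abelian subgroups, `Ω₁`, and the Thompson subgroups in ambient form.  The exponent `e`
is a parameter: `e = p` gives the elementary abelian version, `e = 0` the abelian version.
-/

set_option autoImplicit false

namespace Cfsg.Agent.PLoc

open Subgroup
open scoped commutatorElement Pointwise

variable {G : Type*} [Group G] {p e : ℕ}

/-! ### elementary abelian subgroups -/

theorem isEA_iff {A : Subgroup G} : IsElementaryAbelian e A ↔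
    (∀ x ∈ A, ∀ y ∈ A, x * y = y * x) ∧ ∀ a ∈ A, a ^ e = 1 :=
  and_congr isMulCommutative_iff_forall Iff.rfl

theorem isEA_zero_iff {A : Subgroup G} : IsElementaryAbelian 0 A ↔ IsMulCommutative A :=
  ⟨fun h => h.1, fun h => ⟨h, fun a _ => pow_zero a⟩⟩

theorem isEA_of_le {A B : Subgroup G} (h : IsElementaryAbelian e B) (hle : A ≤ B) :
    IsElementaryAbelian e A :=
  ⟨isMulCommutative_of_le h.1 hle, fun a ha => h.2 a (hle ha)⟩

theorem isEA_bot : IsElementaryAbelian e (⊥ : Subgroup G) :=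
  isEA_iff.2 ⟨fun x hx y hy => by rw [mem_bot.1 hx, mem_bot.1 hy],
    fun a ha => by rw [mem_bot.1 ha, one_pow]⟩

theorem isEA_map {G' : Type*} [Group G'] (f : G →* G') {A : Subgroup G}
    (h : IsElementaryAbelian e A) : IsElementaryAbelian e (A.map f) := by
  refine isEA_iff.2 ⟨?_, ?_⟩
  · rintro _ ⟨x, hx, rfl⟩ _ ⟨y, hy, rfl⟩
    rw [← map_mul, ← map_mul, comm_of_mem h.1 hx hy]
  · rintro _ ⟨x, hx, rfl⟩
    rw [← map_pow, h.2 x hx, map_one]

theorem isEA_comap {G' : Type*} [Group G'] {f : G →* G'} (hf : Function.Injective f)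
    {A : Subgroup G'} (h : IsElementaryAbelian e A) : IsElementaryAbelian e (A.comap f) := by
  refine isEA_iff.2 ⟨fun x hx y hy => hf ?_, fun x hx => hf ?_⟩
  · rw [map_mul, map_mul]; exact comm_of_mem h.1 hx hy
  · rw [map_pow, map_one]; exact h.2 _ hx

theorem isEA_map_iff {G' : Type*} [Group G'] {f : G →* G'} (hf : Function.Injective f)
    {A : Subgroup G} : IsElementaryAbelian e (A.map f) ↔ IsElementaryAbelian e A :=
  ⟨fun h => by simpa [comap_map_eq_self_of_injective hf] using isEA_comap hf h, isEA_map f⟩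

theorem isEA_cj (g : G) {A : Subgroup G} (h : IsElementaryAbelian e A) :
    IsElementaryAbelian e (cj g A) := isEA_map _ h

theorem isEA_sup {A B : Subgroup G} (hA : IsElementaryAbelian e A) (hB : IsElementaryAbelian e B)
    (h : A ≤ centralizer (B : Set G)) : IsElementaryAbelian e (A ⊔ B) := by
  refine ⟨isMulCommutative_sup hA.1 hB.1 h, fun x hx => ?_⟩
  obtain ⟨a, ha, b, hb, rfl⟩ :=
    (mem_sup_of_le_normalizer_right (h.trans (centralizer_le_normalizer _))).1 hx
  have hc : Commute a b := (h ha b hb).symm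
  rw [hc.mul_pow, hA.2 a ha, hB.2 b hb, one_mul]

theorem isEA_zpowers {x : G} (h : x ^ e = 1) : IsElementaryAbelian e (zpowers x) := by
  refine ⟨inferInstance, ?_⟩
  rintro _ ⟨k, rfl⟩
  show (x ^ k) ^ e = 1
  rw [← zpow_natCast, ← zpow_mul, mul_comm, zpow_mul, zpow_natCast, h, one_zpow]

theorem isPGroup_of_isEA {A : Subgroup G} (h : IsElementaryAbelian p A) : IsPGroup p A :=
  isPGroup_iff_forall.2 fun x hx => ⟨1, by rw [pow_one]; exact h.2 x hx⟩

theorem le_centralizer_of_isEA {A : Subgroup G} (h : IsElementaryAbelian e A) :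
    A ≤ centralizer (A : Set G) := fun _ hx _ hy => comm_of_mem h.1 hy hx

theorem le_centralizer_self {A : Subgroup G} (h : IsMulCommutative A) :
    A ≤ centralizer (A : Set G) := fun _ hx _ hy => comm_of_mem h hy hx

theorem isMulCommutative_of_le_centralizer {A : Subgroup G} (h : A ≤ centralizer (A : Set G)) :
    IsMulCommutative A := isMulCommutative_of_forall fun _ hx _ hy => h hy _ hx

theorem commutator_self_eq_bot {A : Subgroup G} (h : IsMulCommutative A) : ⁅A, A⁆ = ⊥ :=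
  commutator_eq_bot_iff_le_centralizer.2 (le_centralizer_self h)

theorem isMulCommutative_of_commutator {A : Subgroup G} (h : ⁅A, A⁆ = ⊥) : IsMulCommutative A :=
  isMulCommutative_of_le_centralizer (commutator_eq_bot_iff_le_centralizer.1 h)

theorem isMulCommutative_inf_centralizer (A : Subgroup G) :
    IsMulCommutative (A ⊓ centralizer (A : Set G) : Subgroup G) :=
  isMulCommutative_of_forall fun _ hx _ hy => hy.2 _ hx.1

theorem isMulCommutative_closure {s : Set G} (h : ∀ x ∈ s, ∀ y ∈ s, x * y = y * x) :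
    IsMulCommutative (closure s) := by
  refine isMulCommutative_of_le_centralizer ((closure_le _).2 fun x hx => ?_)
  have : closure s ≤ centralizer ({x} : Set G) :=
    (closure_le _).2 fun y hy z hz => by rw [Set.mem_singleton_iff.1 hz]; exact h x hx y hy
  exact fun y hy => (this hy x rfl).symm

theorem pow_eq_one_of_mem_closure {s : Set G} (hc : IsMulCommutative (closure s)) {n : ℕ}
    (h : ∀ x ∈ s, x ^ n = 1) {x : G} (hx : x ∈ closure s) : x ^ n = 1 := by
  induction hx using closure_induction with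
  | mem x hx => exact h x hx
  | one => exact one_pow _
  | mul x y hx hy ihx ihy =>
    have : Commute x y := comm_of_mem hc hx hy
    rw [this.mul_pow, ihx, ihy, one_mul]
  | inv x _ ih => rw [inv_pow, ih, inv_one]

theorem isEA_closure {s : Set G} (h : ∀ x ∈ s, ∀ y ∈ s, x * y = y * x)
    (h2 : ∀ x ∈ s, x ^ e = 1) : IsElementaryAbelian e (closure s) :=
  ⟨isMulCommutative_closure h, fun _ ha => pow_eq_one_of_mem_closure (isMulCommutative_closure h) h2 ha⟩

theorem isEA_of_le_iSup {ι : Sort*} {A : ι → Subgroup G} (h : ∀ i, IsElementaryAbelian e (A i))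
    (hc : ∀ i j, A i ≤ centralizer (A j : Set G)) : IsElementaryAbelian e (⨆ i, A i) := by
  rw [iSup_eq_closure]
  refine isEA_closure ?_ ?_
  · intro x hx y hy
    obtain ⟨i, hi⟩ := Set.mem_iUnion.1 hx
    obtain ⟨j, hj⟩ := Set.mem_iUnion.1 hy
    exact (hc i j hi y hj).symm
  · intro x hx
    obtain ⟨i, hi⟩ := Set.mem_iUnion.1 hx
    exact (h i).2 x hi

/-! ### `Ω₁` -/

theorem omegaOne_le (H : Subgroup G) : omegaOne e H ≤ H := (closure_le _).2 fun _ h => h.1

theorem mem_omegaOne {H : Subgroup G} {x : G} (hx : x ∈ H) (h : x ^ e = 1) : x ∈ omegaOne e H :=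
  subset_closure ⟨hx, h⟩

theorem omegaOne_le_iff {H K : Subgroup G} :
    omegaOne e H ≤ K ↔ ∀ x ∈ H, x ^ e = 1 → x ∈ K :=
  (closure_le _).trans ⟨fun h _ hx h2 => h ⟨hx, h2⟩, fun h _ hx => h _ hx.1 hx.2⟩

theorem omegaOne_mono {H K : Subgroup G} (h : H ≤ K) : omegaOne e H ≤ omegaOne e K :=
  omegaOne_le_iff.2 fun _ hx h2 => mem_omegaOne (h hx) h2

theorem omegaOne_zero (H : Subgroup G) : omegaOne 0 H = H :=
  le_antisymm (omegaOne_le H) fun x hx => mem_omegaOne hx (pow_zero x)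

theorem isEA_omegaOne {H : Subgroup G} (h : IsMulCommutative H) :
    IsElementaryAbelian e (omegaOne e H) :=
  isEA_closure (fun _ hx _ hy => comm_of_mem h hx.1 hy.1) fun _ hx => hx.2

theorem mem_omegaOne_iff {H : Subgroup G} (h : IsMulCommutative H) {x : G} :
    x ∈ omegaOne e H ↔ x ∈ H ∧ x ^ e = 1 :=
  ⟨fun hx => ⟨omegaOne_le H hx, (isEA_omegaOne h).2 x hx⟩, fun hx => mem_omegaOne hx.1 hx.2⟩

theorem le_omegaOne {A H : Subgroup G} (hA : IsElementaryAbelian e A) (h : A ≤ H) :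
    A ≤ omegaOne e H := fun x hx => mem_omegaOne (h hx) (hA.2 x hx)

theorem map_omegaOne_le {G' : Type*} [Group G'] (f : G →* G') (H : Subgroup G) :
    (omegaOne e H).map f ≤ omegaOne e (H.map f) :=
  map_le_iff_le_comap.2 <| omegaOne_le_iff.2 fun x hx h =>
    mem_omegaOne (mem_map_of_mem f hx) (by rw [← map_pow, h, map_one])

theorem map_omegaOne {G' : Type*} [Group G'] {f : G →* G'} {H : Subgroup G}
    (hf : ∀ x ∈ H, f x = 1 → x = 1) : (omegaOne e H).map f = omegaOne e (H.map f) := by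
  refine le_antisymm (map_omegaOne_le f H) (omegaOne_le_iff.2 ?_)
  rintro _ ⟨x, hx, rfl⟩ h
  exact mem_map_of_mem f (mem_omegaOne hx (hf _ (H.pow_mem hx e) (by rw [map_pow, h])))

theorem map_omegaOne_inj {G' : Type*} [Group G'] {f : G →* G'} (hf : Function.Injective f)
    (H : Subgroup G) : (omegaOne e H).map f = omegaOne e (H.map f) :=
  map_omegaOne fun _ _ h => (injective_iff_map_eq_one f).1 hf _ h

theorem cj_omegaOne (g : G) (H : Subgroup G) : cj g (omegaOne e H) = omegaOne e (cj g H) :=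
  map_omegaOne_inj (MulAut.conj g).injective H

theorem normalizer_le_normalizer_omegaOne (H : Subgroup G) :
    normalizer (H : Set G) ≤ normalizer (omegaOne e H : Set G) := fun g hg => by
  rw [← cj_eq_self_iff] at hg ⊢
  rw [cj_omegaOne, hg]

theorem omegaOne_normal (H : Subgroup G) [H.Normal] : (omegaOne e H).Normal :=
  normal_of_forall_mem_normalizer fun g =>
    normalizer_le_normalizer_omegaOne H (mem_normalizer_of_normal H g)

theorem omegaOne_ne_bot [Finite G] [hp : Fact p.Prime] {H : Subgroup G} (h : p ∣ Nat.card H) :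
    omegaOne p H ≠ ⊥ := by
  obtain ⟨x, hx, ho⟩ := exists_mem_orderOf_eq_prime hp.out h
  intro hb
  have := mem_omegaOne hx (ho ▸ pow_orderOf_eq_one x : x ^ p = 1)
  rw [hb, mem_bot] at this
  rw [this, orderOf_one] at ho
  exact hp.out.one_lt.ne ho

theorem dvd_card_of_isPGroup [Finite G] [hp : Fact p.Prime] {H : Subgroup G} (hH : IsPGroup p H)
    (h : H ≠ ⊥) : p ∣ Nat.card H := by
  obtain ⟨k, hk⟩ := IsPGroup.iff_card.1 hH
  rcases k with _ | k
  · exact absurd (card_eq_one.1 (by simpa using hk)) h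
  · rw [hk]; exact dvd_pow_self p k.succ_ne_zero

theorem omegaOne_ne_bot_of_isPGroup [Finite G] [Fact p.Prime] {H : Subgroup G} (hH : IsPGroup p H)
    (h : H ≠ ⊥) : omegaOne p H ≠ ⊥ := omegaOne_ne_bot (dvd_card_of_isPGroup hH h)

/-! ### centres of subgroups -/

theorem map_inf_centralizer {G' : Type*} [Group G'] {f : G →* G'} {H : Subgroup G}
    (hf : ∀ x ∈ H, f x = 1 → x = 1) {A : Subgroup G} (hA : A ≤ H) :
    (H ⊓ centralizer (A : Set G)).map f = H.map f ⊓ centralizer (A.map f : Set G') := by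
  refine le_antisymm ?_ ?_
  · rintro _ ⟨x, hx, rfl⟩
    refine ⟨mem_map_of_mem f hx.1, ?_⟩
    rintro _ ⟨y, hy, rfl⟩
    rw [← map_mul, ← map_mul, hx.2 y hy]
  · rintro _ ⟨⟨x, hx, rfl⟩, h⟩
    refine mem_map_of_mem f ⟨hx, fun y hy => ?_⟩
    have := h _ (mem_map_of_mem f hy)
    rw [← map_mul, ← map_mul, ← mul_inv_eq_one, ← map_inv, ← map_mul] at this
    exact mul_inv_eq_one.1 (hf _ (H.mul_mem (H.mul_mem (hA hy) hx) (H.inv_mem (H.mul_mem hx (hA hy))))
      this)

theorem map_center_subtype (H : Subgroup G) :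
    (center H).map H.subtype = H ⊓ centralizer (H : Set G) := by
  ext x
  constructor
  · rintro ⟨y, hy, rfl⟩
    exact ⟨y.2, fun z hz => congrArg Subtype.val (mem_center_iff.1 hy ⟨z, hz⟩)⟩
  · rintro ⟨h1, h2⟩
    exact ⟨⟨x, h1⟩, mem_center_iff.2 fun z => Subtype.ext (h2 z z.2), rfl⟩

theorem top_inf_centralizer_top : (⊤ : Subgroup G) ⊓ centralizer ((⊤ : Subgroup G) : Set G) = center G := by
  rw [top_inf_eq, coe_top, centralizer_univ]

/-! ### the Thompson families -/

/-- the abelian subgroups of `P` of exponent dividing `e` of largest order -/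
def maxEA (e : ℕ) (P : Subgroup G) : Set (Subgroup G) :=
  {A | A ≤ P ∧ IsElementaryAbelian e A ∧
    ∀ B ≤ P, IsElementaryAbelian e B → Nat.card B ≤ Nat.card A}

/-- the Thompson subgroup -/
def JOf (e : ℕ) (P : Subgroup G) : Subgroup G := sSup (maxEA e P)

/-- `Ω(Z(J(P)))` -/
def ZJOf (e : ℕ) (P : Subgroup G) : Subgroup G := sInf (maxEA e P)

theorem maxEA_top : maxEA e (⊤ : Subgroup G) = maxElementaryAbelianSubgroups e G := by
  ext A
  simp [maxEA, maxElementaryAbelianSubgroups]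

theorem maxAbelianSubgroups_eq : maxAbelianSubgroups G = maxElementaryAbelianSubgroups 0 G := by
  ext A
  simp [maxAbelianSubgroups, maxElementaryAbelianSubgroups, isEA_zero_iff]

theorem JOf_top : JOf e (⊤ : Subgroup G) = thompsonSubgroup e G := by
  rw [JOf, maxEA_top]; rfl

theorem thompsonSubgroupA_eq : thompsonSubgroupA G = thompsonSubgroup 0 G := by
  rw [thompsonSubgroupA, maxAbelianSubgroups_eq]; rfl

theorem card_map_of_inj_on {G' : Type*} [Group G'] {f : G →* G'} {H : Subgroup G}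
    (hf : ∀ x ∈ H, f x = 1 → x = 1) {A : Subgroup G} (hA : A ≤ H) :
    Nat.card (A.map f) = Nat.card A := by
  have := card_map_mul_card_ker_inf f A
  have h1 : f.ker ⊓ A = ⊥ := eq_bot_iff.2 fun x hx => mem_bot.2 (hf x (hA hx.2) hx.1)
  rwa [h1, card_bot, mul_one] at this

theorem map_comap_inf_of_le {G' : Type*} [Group G'] {f : G →* G'} {H : Subgroup G}
    {B : Subgroup G'} (hB : B ≤ H.map f) : (B.comap f ⊓ H).map f = B := by
  refine le_antisymm ?_ fun y hy => ?_
  · rintro _ ⟨x, hx, rfl⟩; exact hx.1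
  · obtain ⟨x, hx, rfl⟩ := hB hy
    exact ⟨x, ⟨hy, hx⟩, rfl⟩

theorem isEA_of_map {G' : Type*} [Group G'] {f : G →* G'} {H : Subgroup G}
    (hf : ∀ x ∈ H, f x = 1 → x = 1) {A : Subgroup G} (hA : A ≤ H)
    (h : IsElementaryAbelian e (A.map f)) : IsElementaryAbelian e A := by
  refine isEA_iff.2 ⟨fun x hx y hy => mul_inv_eq_one.1 (hf _ (hA ?_) ?_), fun x hx =>
    hf _ (hA (A.pow_mem hx e)) ?_⟩
  · exact A.mul_mem (A.mul_mem hx hy) (A.inv_mem (A.mul_mem hy hx))
  · rw [map_mul, map_inv, map_mul, map_mul,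
      comm_of_mem h.1 (mem_map_of_mem f hx) (mem_map_of_mem f hy), mul_inv_cancel]
  · rw [map_pow]; exact h.2 _ (mem_map_of_mem f hx)

theorem map_mem_maxEA {G' : Type*} [Group G'] {f : G →* G'} {P : Subgroup G}
    (hf : ∀ x ∈ P, f x = 1 → x = 1) {A : Subgroup G} (h : A ∈ maxEA e P) :
    A.map f ∈ maxEA e (P.map f) := by
  refine ⟨map_mono h.1, isEA_map f h.2.1, fun B hB hB2 => ?_⟩
  rw [card_map_of_inj_on hf h.1, ← map_comap_inf_of_le hB, card_map_of_inj_on hf inf_le_right]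
  refine h.2.2 _ inf_le_right (isEA_of_map hf inf_le_right ?_)
  rwa [map_comap_inf_of_le hB]

theorem comap_mem_maxEA {G' : Type*} [Group G'] {f : G →* G'} {P : Subgroup G}
    (hf : ∀ x ∈ P, f x = 1 → x = 1) {A : Subgroup G'} (h : A ∈ maxEA e (P.map f)) :
    A.comap f ⊓ P ∈ maxEA e P := by
  refine ⟨inf_le_right, isEA_of_map hf inf_le_right ?_, fun B hB hB2 => ?_⟩
  · rw [map_comap_inf_of_le h.1]; exact h.2.1
  · rw [← card_map_of_inj_on hf hB, ← card_map_of_inj_on hf inf_le_right, map_comap_inf_of_le h.1]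
    exact h.2.2 _ (map_mono hB) (isEA_map f hB2)

theorem image_maxEA {G' : Type*} [Group G'] {f : G →* G'} {P : Subgroup G}
    (hf : ∀ x ∈ P, f x = 1 → x = 1) :
    (fun A : Subgroup G => A.map f) '' maxEA e P = maxEA e (P.map f) := by
  ext B
  constructor
  · rintro ⟨A, hA, rfl⟩; exact map_mem_maxEA hf hA
  · intro hB
    exact ⟨_, comap_mem_maxEA hf hB, map_comap_inf_of_le hB.1⟩

theorem inj_on_of_injective {G' : Type*} [Group G'] {f : G →* G'} (hf : Function.Injective f)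
    (P : Subgroup G) : ∀ x ∈ P, f x = 1 → x = 1 :=
  fun _ _ h => (injective_iff_map_eq_one f).1 hf _ h

theorem map_top_subtype' (H : Subgroup G) : (⊤ : Subgroup H).map H.subtype = H := by
  rw [← MonoidHom.range_eq_map, range_subtype]

theorem image_maxElementaryAbelianSubgroups (P : Subgroup G) :
    (fun A : Subgroup P => A.map P.subtype) '' maxElementaryAbelianSubgroups e P = maxEA e P := by
  rw [← maxEA_top, image_maxEA (inj_on_of_injective P.subtype_injective _), map_top_subtype']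

theorem le_JOf {P A : Subgroup G} (h : A ∈ maxEA e P) : A ≤ JOf e P := le_sSup h

theorem JOf_le_iff {P K : Subgroup G} : JOf e P ≤ K ↔ ∀ A ∈ maxEA e P, A ≤ K := sSup_le_iff

theorem JOf_le (P : Subgroup G) : JOf e P ≤ P := JOf_le_iff.2 fun _ h => h.1

theorem map_JOf {G' : Type*} [Group G'] {f : G →* G'} {P : Subgroup G}
    (hf : ∀ x ∈ P, f x = 1 → x = 1) : (JOf e P).map f = JOf e (P.map f) := by
  rw [JOf, JOf, ← image_maxEA hf, sSup_image, (gc_map_comap f).l_sSup]

theorem map_JOf_inj {G' : Type*} [Group G'] {f : G →* G'} (hf : Function.Injective f)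
    (P : Subgroup G) : (JOf e P).map f = JOf e (P.map f) := map_JOf (inj_on_of_injective hf P)

theorem thompsonSubgroupOf_eq (P : Subgroup G) : thompsonSubgroupOf e P = JOf e P := by
  rw [thompsonSubgroupOf, ← JOf_top, map_JOf_inj P.subtype_injective, map_top_subtype']

theorem thompsonSubgroupAOf_eq (P : Subgroup G) : thompsonSubgroupAOf P = JOf 0 P := by
  rw [thompsonSubgroupAOf, thompsonSubgroupA_eq, ← thompsonSubgroupOf_eq]; rfl

theorem cj_mem_maxEA (g : G) {P A : Subgroup G} (h : A ∈ maxEA e P) : cj g A ∈ maxEA e (cj g P) :=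
  map_mem_maxEA (inj_on_of_injective (MulAut.conj g).injective P) h

theorem cj_mem_maxEA_of_mem_normalizer {g : G} {P A : Subgroup G} (h : A ∈ maxEA e P)
    (hg : g ∈ normalizer (P : Set G)) : cj g A ∈ maxEA e P := by
  have := cj_mem_maxEA g h
  rwa [cj_eq_self_iff.2 hg] at this

theorem cj_JOf (g : G) (P : Subgroup G) : cj g (JOf e P) = JOf e (cj g P) :=
  map_JOf_inj (MulAut.conj g).injective P

theorem normalizer_le_normalizer_JOf (P : Subgroup G) :
    normalizer (P : Set G) ≤ normalizer (JOf e P : Set G) := fun g hg => by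
  rw [← cj_eq_self_iff] at hg ⊢
  rw [cj_JOf, hg]

theorem le_normalizer_JOf (P : Subgroup G) : P ≤ normalizer (JOf e P : Set G) :=
  le_normalizer.trans (normalizer_le_normalizer_JOf P)

theorem maxEA_nonempty [Finite G] (P : Subgroup G) : (maxEA e P).Nonempty := by
  obtain ⟨A, hA, hmax⟩ := Set.exists_max_image {A : Subgroup G | A ≤ P ∧ IsElementaryAbelian e A}
    (fun A => Nat.card A) (Set.toFinite _) ⟨⊥, bot_le, isEA_bot⟩
  exact ⟨A, hA.1, hA.2, fun B h1 h2 => hmax B ⟨h1, h2⟩⟩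

theorem card_eq_of_mem_maxEA {P A B : Subgroup G} (hA : A ∈ maxEA e P) (hB : B ∈ maxEA e P) :
    Nat.card A = Nat.card B := le_antisymm (hB.2.2 A hA.1 hA.2.1) (hA.2.2 B hB.1 hB.2.1)

theorem mem_maxEA_of_card {P A B : Subgroup G} (hA : A ∈ maxEA e P) (h1 : B ≤ P)
    (h2 : IsElementaryAbelian e B) (h : Nat.card A ≤ Nat.card B) : B ∈ maxEA e P :=
  ⟨h1, h2, fun C hC hC2 => (hA.2.2 C hC hC2).trans h⟩

theorem eq_of_mem_maxEA [Finite G] {P A B : Subgroup G} (hA : A ∈ maxEA e P) (h1 : B ≤ P)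
    (h2 : IsElementaryAbelian e B) (h : A ≤ B) : A = B :=
  eq_of_le_of_card_ge h (hA.2.2 B h1 h2)

theorem le_of_mem_maxEA [Finite G] {P A B : Subgroup G} (hA : A ∈ maxEA e P) (h1 : B ≤ P)
    (h2 : IsElementaryAbelian e B) (h : B ≤ centralizer (A : Set G)) : B ≤ A := by
  have := eq_of_mem_maxEA hA (sup_le h1 hA.1) (isEA_sup h2 hA.2.1 h) le_sup_right
  rw [this]; exact le_sup_left

theorem mem_of_mem_maxEA [Finite G] {P A : Subgroup G} (hA : A ∈ maxEA e P) {x : G} (h1 : x ∈ P)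
    (h2 : x ^ e = 1) (h : x ∈ centralizer (A : Set G)) : x ∈ A :=
  le_of_mem_maxEA hA (zpowers_le.2 h1) (isEA_zpowers h2) (zpowers_le.2 h) (mem_zpowers x)

theorem mem_maxEA_of_le {P R A : Subgroup G} (hA : A ∈ maxEA e P) (h1 : A ≤ R) (h2 : R ≤ P) :
    A ∈ maxEA e R := ⟨h1, hA.2.1, fun B hB => hA.2.2 B (hB.trans h2)⟩

theorem maxEA_subset {P R A : Subgroup G} (hA : A ∈ maxEA e P) (h1 : A ≤ R) (h2 : R ≤ P) :
    maxEA e R ⊆ maxEA e P := fun _ hB =>
  mem_maxEA_of_card hA (hB.1.trans h2) hB.2.1 (hB.2.2 A h1 hA.2.1)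

theorem JOf_le_JOf {P R A : Subgroup G} (hA : A ∈ maxEA e P) (h1 : A ≤ R) (h2 : R ≤ P) :
    JOf e R ≤ JOf e P := sSup_le_sSup (maxEA_subset hA h1 h2)

theorem maxEA_eq_of_le [Finite G] {P R : Subgroup G} (h1 : JOf e P ≤ R) (h2 : R ≤ P) :
    maxEA e R = maxEA e P := by
  obtain ⟨A, hA⟩ := maxEA_nonempty (e := e) P
  exact (maxEA_subset hA ((le_JOf hA).trans h1) h2).antisymm
    fun B hB => mem_maxEA_of_le hB ((le_JOf hB).trans h1) h2

theorem JOf_eq_of_le [Finite G] {P R : Subgroup G} (h1 : JOf e P ≤ R) (h2 : R ≤ P) :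
    JOf e R = JOf e P := by rw [JOf, JOf, maxEA_eq_of_le h1 h2]

theorem ZJOf_eq_of_le [Finite G] {P R : Subgroup G} (h1 : JOf e P ≤ R) (h2 : R ≤ P) :
    ZJOf e R = ZJOf e P := by rw [ZJOf, ZJOf, maxEA_eq_of_le h1 h2]

theorem ZJOf_le_of_mem {P A : Subgroup G} (h : A ∈ maxEA e P) : ZJOf e P ≤ A := sInf_le h

theorem ZJOf_le_ZJOf {P R A : Subgroup G} (hA : A ∈ maxEA e P) (h1 : A ≤ R) (h2 : R ≤ P) :
    ZJOf e P ≤ ZJOf e R := sInf_le_sInf (maxEA_subset hA h1 h2)

theorem ZJOf_le_centralizer (P : Subgroup G) : ZJOf e P ≤ centralizer (JOf e P : Set G) :=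
  le_centralizer_iff.1 <| JOf_le_iff.2 fun _ hA =>
    (le_centralizer_of_isEA hA.2.1).trans (centralizer_anti (ZJOf_le_of_mem hA))

theorem ZJOf_le_JOf [Finite G] (P : Subgroup G) : ZJOf e P ≤ JOf e P :=
  (maxEA_nonempty P).elim fun _ hA => (ZJOf_le_of_mem hA).trans (le_JOf hA)

theorem ZJOf_le [Finite G] (P : Subgroup G) : ZJOf e P ≤ P := (ZJOf_le_JOf P).trans (JOf_le P)

theorem isEA_ZJOf [Finite G] (P : Subgroup G) : IsElementaryAbelian e (ZJOf e P) :=
  (maxEA_nonempty P).elim fun _ hA => isEA_of_le hA.2.1 (ZJOf_le_of_mem hA)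

theorem mem_ZJOf [Finite G] {P : Subgroup G} {x : G} (h1 : x ∈ P) (h2 : x ^ e = 1)
    (h : x ∈ centralizer (JOf e P : Set G)) : x ∈ ZJOf e P :=
  mem_sInf.2 fun _ hA => mem_of_mem_maxEA hA h1 h2 (centralizer_anti (le_JOf hA) h)

theorem ZJOf_eq_omegaOne [Finite G] (P : Subgroup G) :
    ZJOf e P = omegaOne e (JOf e P ⊓ centralizer (JOf e P : Set G)) :=
  le_antisymm (le_omegaOne (isEA_ZJOf P) (le_inf (ZJOf_le_JOf P) (ZJOf_le_centralizer P)))
    (omegaOne_le_iff.2 fun _ hx h => mem_ZJOf (JOf_le P hx.1) h hx.2)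

theorem ZJOf_eq_omegaOne' [Finite G] (P : Subgroup G) :
    ZJOf e P = omegaOne e (P ⊓ centralizer (JOf e P : Set G)) :=
  le_antisymm (le_omegaOne (isEA_ZJOf P) (le_inf (ZJOf_le P) (ZJOf_le_centralizer P)))
    (omegaOne_le_iff.2 fun _ hx h => mem_ZJOf hx.1 h hx.2)

theorem centerThompsonAOf_eq [Finite G] (P : Subgroup G) : centerThompsonAOf P = ZJOf 0 P := by
  rw [ZJOf_eq_omegaOne, omegaOne_zero, centerThompsonAOf, thompsonSubgroupAOf_eq]

theorem ZJOf_top [Finite G] : ZJOf e (⊤ : Subgroup G) = omegaCenterThompson e G := by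
  rw [ZJOf_eq_omegaOne, JOf_top]; rfl

theorem omegaOne_centerThompsonOf [Finite G] (P : Subgroup G) :
    omegaOne e (centerThompsonOf e P) = ZJOf e P := by
  rw [ZJOf_eq_omegaOne, centerThompsonOf, thompsonSubgroupOf_eq]

theorem map_ZJOf [Finite G] {G' : Type*} [Group G'] {f : G →* G'} {P : Subgroup G}
    (hf : ∀ x ∈ P, f x = 1 → x = 1) : (ZJOf e P).map f = ZJOf e (P.map f) := by
  refine le_antisymm (le_sInf fun B hB => ?_) fun y hy => ?_
  · rw [← image_maxEA hf] at hB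
    obtain ⟨A, hA, rfl⟩ := hB
    exact map_mono (ZJOf_le_of_mem hA)
  · obtain ⟨A, hA⟩ := maxEA_nonempty (e := e) P
    obtain ⟨x, hx, rfl⟩ := ZJOf_le_of_mem (map_mem_maxEA hf hA) hy
    refine mem_map_of_mem f (mem_sInf.2 fun B hB => ?_)
    obtain ⟨z, hz, hzx⟩ := ZJOf_le_of_mem (map_mem_maxEA hf hB) hy
    have : z * x⁻¹ = 1 := hf _ (P.mul_mem (hB.1 hz) (P.inv_mem (hA.1 hx)))
      (by rw [map_mul, map_inv, hzx, mul_inv_cancel])
    rwa [← mul_inv_eq_one.1 this]

theorem map_ZJOf_inj [Finite G] {G' : Type*} [Group G'] {f : G →* G'} (hf : Function.Injective f)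
    (P : Subgroup G) : (ZJOf e P).map f = ZJOf e (P.map f) := map_ZJOf (inj_on_of_injective hf P)

theorem map_omegaCenterThompson [Finite G] (P : Subgroup G) :
    (omegaCenterThompson e P).map P.subtype = ZJOf e P := by
  rw [← ZJOf_top, map_ZJOf_inj P.subtype_injective, map_top_subtype']

theorem cj_ZJOf [Finite G] (g : G) (P : Subgroup G) : cj g (ZJOf e P) = ZJOf e (cj g P) :=
  map_ZJOf_inj (MulAut.conj g).injective P

theorem normalizer_le_normalizer_ZJOf [Finite G] (P : Subgroup G) :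
    normalizer (P : Set G) ≤ normalizer (ZJOf e P : Set G) := fun g hg => by
  rw [← cj_eq_self_iff] at hg ⊢
  rw [cj_ZJOf, hg]

theorem le_normalizer_ZJOf [Finite G] (P : Subgroup G) : P ≤ normalizer (ZJOf e P : Set G) :=
  le_normalizer.trans (normalizer_le_normalizer_ZJOf P)

theorem normalizer_JOf_le_normalizer_ZJOf [Finite G] (P : Subgroup G) :
    normalizer (JOf e P : Set G) ≤ normalizer (ZJOf e P : Set G) := by
  rw [← ZJOf_eq_of_le (le_refl (JOf e P)) (JOf_le P)]
  exact normalizer_le_normalizer_ZJOf _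

theorem omegaOne_center_le_ZJOf [Finite G] (P : Subgroup G) :
    omegaOne e (P ⊓ centralizer (P : Set G)) ≤ ZJOf e P :=
  omegaOne_le_iff.2 fun _ hx h => mem_ZJOf hx.1 h (centralizer_anti (JOf_le P) hx.2)

theorem center_ne_bot [Finite G] [Fact p.Prime] {P : Subgroup G} (hP : IsPGroup p P) (h : P ≠ ⊥) :
    P ⊓ centralizer (P : Set G) ≠ ⊥ := inf_centralizer_ne_bot hP hP le_normalizer h

theorem omegaOne_center_ne_bot [Finite G] [Fact p.Prime] {P : Subgroup G} (hP : IsPGroup p P)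
    (h : P ≠ ⊥) : omegaOne p (P ⊓ centralizer (P : Set G)) ≠ ⊥ :=
  omegaOne_ne_bot_of_isPGroup (hP.to_inf_left) (center_ne_bot hP h)

theorem ZJOf_ne_bot [Finite G] [Fact p.Prime] {P : Subgroup G} (hP : IsPGroup p P) (h : P ≠ ⊥)
    (he : p ∣ e) : ZJOf e P ≠ ⊥ := by
  intro hb
  refine omegaOne_center_ne_bot hP h (eq_bot_iff.2 (le_trans ?_ ((omegaOne_center_le_ZJOf P).trans hb.le)))
  obtain ⟨k, rfl⟩ := he
  exact omegaOne_le_iff.2 fun x hx h => mem_omegaOne hx (by rw [pow_mul, h, one_pow])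

theorem JOf_ne_bot [Finite G] [Fact p.Prime] {P : Subgroup G} (hP : IsPGroup p P) (h : P ≠ ⊥)
    (he : p ∣ e) : JOf e P ≠ ⊥ := fun hb =>
  ZJOf_ne_bot hP h he (eq_bot_iff.2 ((ZJOf_le_JOf P).trans hb.le))

/-- members of the family of a Sylow subgroup are members of the family of the whole group -/
theorem IsSylowOf.maxEA_subset [Finite G] [Fact p.Prime] {P H : Subgroup G} (hP : IsSylowOf p P H) :
    maxEA p P ⊆ maxEA p H := by
  obtain ⟨A, hA⟩ := maxEA_nonempty (e := p) H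
  obtain ⟨g, hg, hle⟩ := hP.exists_cj_le (isPGroup_of_isEA hA.2.1) hA.1
  exact PLoc.maxEA_subset (cj_mem_maxEA_of_mem_normalizer hA (le_normalizer hg)) hle hP.le

end Cfsg.Agent.PLoc
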